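import Groth.Agent.Lib.RelPCS4.PushFlat
import Groth.Agent.Lib.FlatH4.PullChart
import Groth.Prelude.Def_DDual2
import Mathlib.RingTheory.TensorProduct.MvPolynomial

/-!
# Relative pseudo-coherence under flat base change
-/

set_option autoImplicit false
set_option linter.style.haveILetI false
set_option backward.isDefEq.respectTransparency false
set_option maxHeartbeats 800000

universe u

open CategoryTheory Limits AlgebraicGeometry Opposite TopologicalSpace MvPolynomial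

attribute [local instance] HasDerivedCategory.standard

namespace Groth.Agent.RelPCS4

open RelPCS8

/-- Polynomial rings commute with change of coefficients. -/
theorem isPushout_poly {A A' : Type u} [CommRing A] [CommRing A'] (ρ : A →+* A') (n : ℕ) :
    IsPushout (CommRingCat.ofHom (C : A →+* MvPolynomial (Fin n) A)) (CommRingCat.ofHom ρ)
      (CommRingCat.ofHom (MvPolynomial.map (σ := Fin n) ρ))
      (CommRingCat.ofHom (C : A' →+* MvPolynomial (Fin n) A')) := by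
  letI := ρ.toAlgebra
  letI := MvPolynomial.algebraMvPolynomial (σ := Fin n) (R := A) (S := A')
  have h := CommRingCat.isPushout_of_isPushout A A' (MvPolynomial (Fin n) A) (MvPolynomial (Fin n) A')
  have e : algebraMap (MvPolynomial (Fin n) A) (MvPolynomial (Fin n) A') = MvPolynomial.map (σ := Fin n) ρ :=
    MvPolynomial.algebraMap_def
  rw [e] at h
  exact h.flip

/-- A pushout of a surjection is surjective. -/
theorem surjective_of_isPushout {P B P' B' : Type u} [CommRing P] [CommRing B] [CommRing P'] [CommRing B']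
    {φ : P →+* B} {μ : P →+* P'} {b : B →+* B'} {φ' : P' →+* B'}
    (H : IsPushout (CommRingCat.ofHom φ) (CommRingCat.ofHom μ) (CommRingCat.ofHom b) (CommRingCat.ofHom φ'))
    (hφ : Function.Surjective φ) : Function.Surjective φ' := by
  intro y
  obtain ⟨t, ht⟩ : y ∈ φ'.range := by
    letI := φ.toAlgebra
    letI := μ.toAlgebra
    letI := φ'.toAlgebra
    letI := b.toAlgebra
    letI : Algebra P B' := (b.comp φ).toAlgebra
    haveI : IsScalarTower P B B' := IsScalarTower.of_algebraMap_eq fun _ => rfl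
    haveI : IsScalarTower P P' B' :=
      IsScalarTower.of_algebraMap_eq fun x => congrArg (fun t => t.hom x) H.w
    haveI hPa : Algebra.IsPushout P P' B B' := CommRingCat.isPushout_iff_isPushout.1 H.flip
    obtain ⟨t, rfl⟩ := (Algebra.IsPushout.equiv P P' B B').surjective y
    induction t using TensorProduct.induction_on with
    | zero => rw [map_zero]; exact zero_mem _
    | tmul p x =>
      obtain ⟨q, rfl⟩ := hφ x
      refine ⟨p * μ q, ?_⟩
      rw [Algebra.IsPushout.equiv_tmul, map_mul]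
      exact congrArg (φ' p * ·) (congrArg (fun t => t.hom q) H.w).symm
    | add p q hp hq => rw [map_add]; exact add_mem hp hq
  exact ⟨t, ht⟩

variable {X S S' X' : Scheme.{u}} {f : X ⟶ S} {h : S' ⟶ S} {g : X' ⟶ X} {f' : X' ⟶ S'}

/-- A chart after flat base change, with the comparison of the pushed objects. -/
theorem exists_baseChange_chart [Flat h] [DCoh.HasLpull g] (H : IsPullback g f' f h) (E : DCoh.D X)
    {U : X.Opens} (hU : IsAffineOpen U) {V : S.Opens} (hV : IsAffineOpen V) {hle : U ≤ f ⁻¹ᵁ V} {n : ℕ}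
    {φ : MvPolynomial (Fin n) Γ(S, V) →+* Γ(X, U)} (hφ : DerSch.IsChart f U V hle φ)
    [IsClosedImmersion (imm U φ)] {V' : S'.Opens} (hV' : IsAffineOpen V') (hVV : V' ≤ h ⁻¹ᵁ V) :
    ∃ (_ : IsAffineOpen (g ⁻¹ᵁ U ⊓ f' ⁻¹ᵁ V')) (hle' : g ⁻¹ᵁ U ⊓ f' ⁻¹ᵁ V' ≤ f' ⁻¹ᵁ V')
      (φ' : MvPolynomial (Fin n) Γ(S', V') →+* Γ(X', g ⁻¹ᵁ U ⊓ f' ⁻¹ᵁ V'))
      (_ : DerSch.IsChart f' (g ⁻¹ᵁ U ⊓ f' ⁻¹ᵁ V') V' hle' φ')
      (_ : Flat (Spec.map (CommRingCat.ofHom (MvPolynomial.map (σ := Fin n) (h.appLE V V' hVV).hom))))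
      (_ : IsClosedImmersion (imm (g ⁻¹ᵁ U ⊓ f' ⁻¹ᵁ V') φ')),
      Nonempty ((pullD (Spec.map (CommRingCat.ofHom (MvPolynomial.map (σ := Fin n) (h.appLE V V' hVV).hom)))).obj
          ((pushD (imm U φ)).obj ((DPerf.resD U.ι).obj E)) ≅
        (pushD (imm (g ⁻¹ᵁ U ⊓ f' ⁻¹ᵁ V') φ')).obj ((DPerf.resD (g ⁻¹ᵁ U ⊓ f' ⁻¹ᵁ V').ι).obj ((DCoh.Lpull g).obj E))) := by
  obtain ⟨hsur, hφC⟩ := hφ
  haveI : Flat g := MorphismProperty.of_isPullback H.flip inferInstance
  let U' := g ⁻¹ᵁ U ⊓ f' ⁻¹ᵁ V'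
  have hg : U' ≤ g ⁻¹ᵁ U := inf_le_left
  have hf : U' ≤ f' ⁻¹ᵁ V' := inf_le_right
  have hU' : IsAffineOpen U' := FlatH4.isAffineOpen_of_isPullback H hVV hle rfl hV hV' hU
  have hR := FlatH4.isPushout_sections H hVV hle (UY := U') rfl hV hV' hU
  let a : Γ(S', V') →+* Γ(X', U') := (f'.appLE V' U' hf).hom
  let b : Γ(X, U) →+* Γ(X', U') := (g.appLE U U' hg).hom
  let ρ : Γ(S, V) →+* Γ(S', V') := (h.appLE V V' hVV).hom
  let φ' : MvPolynomial (Fin n) Γ(S', V') →+* Γ(X', U') := eval₂Hom a fun i => b (φ (MvPolynomial.X i))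
  have hC' : φ'.comp C = a := RingHom.ext fun r => eval₂Hom_C _ _ r
  have hsq : φ'.comp (MvPolynomial.map ρ) = b.comp φ := by
    refine MvPolynomial.ringHom_ext (fun r => ?_) fun i => ?_
    · simp only [RingHom.comp_apply, map_C, φ', eval₂Hom_C]
      rw [show φ (C r) = (f.appLE V U hle).hom r from RingHom.congr_fun hφC r]
      exact (congrArg (fun t => t.hom r) hR.w).symm
    · simp only [RingHom.comp_apply, map_X, φ', eval₂Hom_X']
  have hP : IsPushout (CommRingCat.ofHom φ) (CommRingCat.ofHom (MvPolynomial.map (σ := Fin n) ρ))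
      (CommRingCat.ofHom b) (CommRingCat.ofHom φ') := by
    refine IsPushout.of_left ?_ (CommRingCat.hom_ext hsq.symm) (isPushout_poly ρ n)
    rw [← CommRingCat.ofHom_comp, ← CommRingCat.ofHom_comp, hφC, hC']
    exact hR
  have hsur' : Function.Surjective φ' := surjective_of_isPushout hP hsur
  haveI := isClosedImmersion_imm hU φ hsur
  haveI := isClosedImmersion_imm hU' φ' hsur'
  haveI : IsIso U'.toSpecΓ := by rw [← hU'.isoSpec_hom]; infer_instance
  haveI : IsIso U.toSpecΓ := by rw [← hU.isoSpec_hom]; infer_instance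
  let σ := Spec.map (CommRingCat.ofHom (MvPolynomial.map (σ := Fin n) ρ))
  let gU := g.resLE U U' hg
  haveI : Flat gU := IsZariskiLocalAtSource.resLE _ inferInstance
  haveI : Flat σ := by
    haveI : Flat (Spec.map (h.appLE V V' hVV)) := (HasRingHomProperty.Spec_iff (P := @Flat)).2
      ((HasRingHomProperty.appLE @Flat h inferInstance ⟨V, hV⟩ ⟨V', hV'⟩ hVV))
    exact MorphismProperty.of_isPullback (isPullback_SpecMap_of_isPushout _ _ _ _ (isPushout_poly ρ n)).flip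
      (inferInstanceAs (Flat (Spec.map (h.appLE V V' hVV))))
  have hsquare : IsPullback (imm U' φ') gU σ (imm U φ) := by
    refine IsPullback.of_iso (isPullback_SpecMap_of_isPushout _ _ _ _ hP).flip (asIso U'.toSpecΓ).symm
      (Iso.refl _) (asIso U.toSpecΓ).symm (Iso.refl _) ?_ ?_ ?_ ?_
    all_goals first
      | (simp [imm, gU, σ]; done)
      | (simp [imm, gU, σ, ← Scheme.Opens.toSpecΓ_SpecMap_appLE, b]; done)
  haveI := KFlat.Sch.hasLpull gU
  obtain ⟨e₁⟩ := DQC.nonempty_chart_iso g U.ι U'.ι gU (Scheme.Hom.resLE_comp_ι g hg) E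
  obtain ⟨e₂⟩ := nonempty_lpull_iso_pullD gU ((DPerf.resD U.ι).obj E)
  exact ⟨hU', hf, φ', ⟨hsur', hC'⟩, ‹Flat σ›, ‹_›,
    ⟨(pushPullD hsquare).app _ ≪≫ (pushD (imm U' φ')).mapIso (e₂.symm ≪≫ e₁.symm)⟩⟩

/-- The test after flat base change. -/
theorem good_baseChange [Flat h] [DCoh.HasLpull g] (H : IsPullback g f' f h) {m : ℤ} {E : DCoh.D X}
    {U : X.Opens} {V : S.Opens} (hE : Good f m E U V) {V' : S'.Opens} (hV' : IsAffineOpen V')
    (hVV : V' ≤ h ⁻¹ᵁ V) : Good f' m ((DCoh.Lpull g).obj E) (g ⁻¹ᵁ U ⊓ f' ⁻¹ᵁ V') V' := by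
  obtain ⟨hU, hV, hle, n, φ, hφ, ht⟩ := hE
  haveI := isClosedImmersion_imm hU φ hφ.1
  obtain ⟨hU', hf, φ', hφ', _, _, ⟨e⟩⟩ := exists_baseChange_chart H E hU hV hφ hV' hVV
  let σ := Spec.map (CommRingCat.ofHom (MvPolynomial.map (σ := Fin n) (h.appLE V V' hVV).hom))
  haveI := KFlat.Sch.hasLpull σ
  obtain ⟨e₃⟩ := nonempty_lpull_iso_pullD σ ((pushD (imm U φ)).obj ((DPerf.resD U.ι).obj E))
  exact ⟨hU', hV', hf, n, φ', hφ', fun _ => (DPerf.approx_of_isPseudoCoherentD (KFlat.Sch.isPseudoCoherent_lpull σ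
    (DPerf.isPseudoCoherentD_of_approx (ht inferInstance)))).of_iso (e₃ ≪≫ e)⟩

/-- Relative pseudo-coherence is stable under flat base change. -/
theorem rel_baseChange [Flat h] [DCoh.HasLpull g] (H : IsPullback g f' f h) [LocallyOfFiniteType f'] {m : ℤ}
    {E : DCoh.D X} (hE : DerSch.IsPseudoCoherentRel f m E) :
    DerSch.IsPseudoCoherentRel f' m ((DCoh.Lpull g).obj E) := by
  refine rel_of_locally fun x' => ?_
  obtain ⟨V, hV, hxV, -⟩ := exists_isAffineOpen_mem_and_subset (U := (⊤ : S.Opens)) (x := f (g x')) trivial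
  obtain ⟨U, hU, hxU, hUle⟩ := exists_isAffineOpen_mem_and_subset (U := f ⁻¹ᵁ V) hxV
  have hx : h (f' x') ∈ V := by
    rw [← Scheme.Hom.comp_apply, ← H.w, Scheme.Hom.comp_apply]; exact hxV
  obtain ⟨V', hV', hxV', hV'le⟩ := exists_isAffineOpen_mem_and_subset (U := h ⁻¹ᵁ V) hx
  exact ⟨g ⁻¹ᵁ U ⊓ f' ⁻¹ᵁ V', V', ⟨hxU, hxV'⟩, good_baseChange H ((rel_iff.1 hE).2 U V hU hV hUle) hV' hV'le⟩

end Groth.Agent.RelPCS4
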