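import Groth.Agent.Lib.RelPCS4.TensorPC
import Groth.Agent.Lib.RelPCS4.FlatBC
import Groth.Agent.Lib.RelPCS8.Closed
import Groth.Agent.Lib.DPerf.Noeth
import Groth.Agent.Lib.DMon9.Pull
import Mathlib.Algebra.MvPolynomial.Equiv

/-!
# Derived pullback of relatively pseudo-coherent objects along pseudo-coherent morphisms
-/

set_option autoImplicit false
set_option linter.style.haveILetI false
set_option backward.isDefEq.respectTransparency false
set_option maxHeartbeats 1000000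

universe u

open CategoryTheory Limits AlgebraicGeometry Opposite TopologicalSpace MvPolynomial

attribute [local instance] HasDerivedCategory.standard

namespace Groth.Agent.RelPCS4

open RelPCS8

theorem isLE_of_hd {X : Scheme.{u}} {K : DCoh.D X} {b : ℤ} (h : ∀ k, b < k → IsZero (DCoh.HD K k)) : K.IsLE b :=
  (DerivedCategory.isLE_iff K b).2 h

/-- Merging two groups of variables. -/
theorem exists_polyEquiv (A : Type u) [CommRing A] (k n : ℕ) :
    ∃ σ : MvPolynomial (Fin (k + n)) A →+* MvPolynomial (Fin k) (MvPolynomial (Fin n) A),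
      Function.Bijective σ ∧ ∀ r, σ (C r) = C (C r) := by
  let e := (renameEquiv A (finSumFinEquiv (m := k) (n := n)).symm).trans (sumAlgEquiv A (Fin k) (Fin n))
  refine ⟨e.toRingEquiv.toRingHom, e.bijective, fun r => ?_⟩
  change e (C r) = _
  simp [e]

variable {X Y S : Scheme.{u}} {f : X ⟶ Y} {g : Y ⟶ S}

/-- The push of the structure sheaf along a chart. -/
theorem approx_pushUnit {W : X.Opens} {U : Y.Opens} (hW : IsAffineOpen W) {k : ℕ}
    {ψ : MvPolynomial (Fin k) Γ(Y, U) →+* Γ(X, W)} {h : W ≤ f ⁻¹ᵁ U} (hψ : DerSch.IsChart f W U h ψ) {l : ℤ}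
    (hg : Good f l (DCoh.toD X ((HomologicalComplex.single X.Modules (ComplexShape.up ℤ) 0).obj (Coh.structureModule X))) W U)
    [IsClosedImmersion (imm W ψ)] :
    DPerf.Approx (Set.Ici l) (DCoh.inD _ ((Scheme.Modules.pushforward (imm W ψ)).obj (Coh.structureModule W))) :=
  (((hg.of_iso (singleToInD _)).test hψ inferInstance)).of_iso
    ((pushD (imm W ψ)).mapIso (((Scheme.Modules.restrictFunctor W.ι).mapDerivedCategorySingleFunctor 0).app _) ≪≫
      ((Scheme.Modules.pushforward (imm W ψ)).mapDerivedCategorySingleFunctor 0).app _ ≪≫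
      (DerivedCategory.singleFunctor _ 0).mapIso
        ((Scheme.Modules.pushforward (imm W ψ)).mapIso (Scheme.Modules.restrictUnitIso W.ι)))

/-- The test for a composite. -/
theorem good_lpull [DCoh.HasLpull f] {m : ℤ} {E : DCoh.D Y} {W : X.Opens} {U : Y.Opens} {V : S.Opens}
    (hW : IsAffineOpen W) (hWU : W ≤ f ⁻¹ᵁ U) (hE : Good g m E U V) [LocallyOfFiniteType f]
    (hf : ∀ b₀, ((DPerf.resD U.ι).obj E).IsLE b₀ →
      ∃ b, ((DPerf.resD U.ι).obj E).IsLE b ∧ DerSch.IsNPseudoCoherent f (m - b)) :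
    Good (f ≫ g) m ((DCoh.Lpull f).obj E) W V := by
  obtain ⟨hU, hV, hle, n, φ, ⟨hsur, hφC⟩, ht⟩ := hE
  obtain ⟨k, ψ, hψ⟩ := exists_chart_of_lft (f := f) hW hU hWU
  have hle' : W ≤ (f ≫ g) ⁻¹ᵁ V := fun z hz => hle (hWU hz)
  -- the polynomial extension of the chart
  let μ : MvPolynomial (Fin k) (MvPolynomial (Fin n) Γ(S, V)) →+* MvPolynomial (Fin k) Γ(Y, U) :=
    MvPolynomial.map (σ := Fin k) φ
  have hμ : Function.Surjective μ := MvPolynomial.map_surjective _ hsur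
  haveI := isClosedImmersion_imm hU φ hsur
  haveI : IsClosedImmersion (Spec.map (CommRingCat.ofHom μ)) := IsClosedImmersion.spec_of_surjective _ (by exact hμ)
  haveI : IsIso U.toSpecΓ := by rw [← hU.isoSpec_hom]; infer_instance
  let σ := Spec.map (CommRingCat.ofHom (C : MvPolynomial (Fin n) Γ(S, V) →+* MvPolynomial (Fin k) (MvPolynomial (Fin n) Γ(S, V))))
  let π : Spec (CommRingCat.of (MvPolynomial (Fin k) Γ(Y, U))) ⟶ (U : Scheme.{u}) :=
    Spec.map (CommRingCat.ofHom (C : Γ(Y, U) →+* MvPolynomial (Fin k) Γ(Y, U))) ≫ inv U.toSpecΓ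
  haveI : Flat σ := (HasRingHomProperty.Spec_iff (P := @Flat)).2
    (show (algebraMap (MvPolynomial (Fin n) Γ(S, V)) (MvPolynomial (Fin k) (MvPolynomial (Fin n) Γ(S, V)))).Flat from
      RingHom.flat_algebraMap_iff.2 inferInstance)
  have hsq : IsPullback (Spec.map (CommRingCat.ofHom μ)) π σ (imm U φ) :=
    IsPullback.of_iso (isPullback_SpecMap_of_isPushout _ _ _ _ (isPushout_poly φ k))
      (Iso.refl _) (Iso.refl _) (asIso U.toSpecΓ).symm (Iso.refl _)
      (by simp [μ]) (by simp [π]) (by simp [σ]) (by simp [imm])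
  haveI : Flat π := MorphismProperty.of_isPullback hsq inferInstance
  haveI := KFlat.Sch.hasLpull σ
  haveI := KFlat.Sch.hasLpull π
  let M := (pullD π).obj ((DPerf.resD U.ι).obj E)
  obtain ⟨eσ⟩ := nonempty_lpull_iso_pullD σ ((pushD (imm U φ)).obj ((DPerf.resD U.ι).obj E))
  have hM : DPerf.Approx (Set.Ici m) ((pushD (Spec.map (CommRingCat.ofHom μ))).obj M) :=
    (DPerf.approx_of_isPseudoCoherentD (KFlat.Sch.isPseudoCoherent_lpull σ
      (DPerf.isPseudoCoherentD_of_approx (ht inferInstance)))).of_iso (eσ ≪≫ (pushPullD hsq).app _)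
  obtain ⟨b₀, hb₀⟩ := DPerf.exists_isLE_of_pseudoCoherent (DPerf.isPseudoCoherentD_of_approx (ht inferInstance))
  obtain ⟨b, hb, hfb⟩ := hf b₀ (isLE_of_hd fun j hj => (isZero_HD_push_iff _ _ j).1
    ((DerivedCategory.isLE_iff _ b₀).1 hb₀ j hj))
  obtain ⟨eπ⟩ := nonempty_lpull_iso_pullD π ((DPerf.resD U.ι).obj E)
  haveI hMle : M.IsLE b := isLE_of_hd fun j hj => (KFlat.Sch.isZero_HD_iff_of_iso eπ j).1
    (KFlat.Sch.isZero_HD_lpull π _ b ((DerivedCategory.isLE_iff _ b).1 hb) j hj)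
  obtain ⟨R, hR, ⟨eR⟩⟩ := KFlat.Sch.exists_adapted_rep M
  haveI : R.IsLE b := (CochainComplex.isLE_iff R b).2 fun j hj =>
    (KFlat.Sch.isZero_HD_toD_iff R j).1 ((KFlat.Sch.isZero_HD_iff_of_iso eR j).2
      ((DerivedCategory.isLE_iff M b).1 hMle j hj))
  -- the closed immersion of the new chart
  let j := imm W ψ
  haveI : IsClosedImmersion j := isClosedImmersion_imm hW ψ hψ.1
  let N := (Scheme.Modules.pushforward j).obj (Coh.structureModule W)
  have hN : DPerf.Approx (Set.Ici (m - b)) (DCoh.inD _ N) :=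
    approx_pushUnit hW hψ ((rel_iff.1 hfb).2 W U hW hU hWU)
  have hNq : Coh.IsQCoh N := M1.isQCoh_push j (M1.isQCoh_structureModule _)
  obtain ⟨d, hd⟩ : ∃ d : ℕ, b < m + d := ⟨(b - m + 1).toNat, by omega⟩
  have hten := pushTen_of_pc (Spec.map (CommRingCat.ofHom μ)) hR b d m hd
    (hM.of_iso ((pushD _).mapIso eR.symm)) N hNq hN
  haveI := KFlat.Sch.hasLpull j
  obtain ⟨eJ⟩ := nonempty_push_lpull_iso j R hR
  -- the derived pullback on the chart
  let fW := f.resLE U W hWU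
  have hjπ : j ≫ π = fW := by
    rw [← cancel_mono U.toSpecΓ]
    simp only [j, π, imm, Category.assoc, IsIso.inv_hom_id, Category.comp_id]
    rw [← Spec.map_comp, ← CommRingCat.ofHom_comp, hψ.2]
    exact Scheme.Opens.toSpecΓ_SpecMap_appLE f U W hWU
  haveI := KFlat.Sch.hasLpull fW
  haveI := KFlat.Sch.hasLpull (j ≫ π)
  have e₂ : Nonempty ((DCoh.Lpull fW).obj ((DPerf.resD U.ι).obj E) ≅
      (DCoh.Lpull (j ≫ π)).obj ((DPerf.resD U.ι).obj E)) := by
    revert ‹DCoh.HasLpull fW› ‹DCoh.HasLpull (j ≫ π)›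
    rw [hjπ]
    intro _ _
    exact ⟨Iso.refl _⟩
  obtain ⟨e₁⟩ := DQC.nonempty_chart_iso f U.ι W.ι fW (Scheme.Hom.resLE_comp_ι f hWU) E
  let eW : (DPerf.resD W.ι).obj ((DCoh.Lpull f).obj E) ≅ (DCoh.Lpull j).obj (DCoh.toD _ R) :=
    e₁ ≪≫ e₂.some ≪≫ ((KFlat.Sch.lpullCompIso j π).app _).symm ≪≫ (DCoh.Lpull j).mapIso (eπ ≪≫ eR.symm)
  -- the chart of the composite
  obtain ⟨τ, hτ, hτC⟩ := exists_polyEquiv Γ(S, V) k n
  refine ⟨hW, hV, hle', k + n, (ψ.comp μ).comp τ, ⟨(hψ.1.comp hμ).comp hτ.2, ?_⟩, ?_⟩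
  · refine RingHom.ext fun r => ?_
    change ψ (μ (τ (C r))) = _
    rw [hτC]
    change ψ (MvPolynomial.map φ (C (C r))) = _
    rw [map_C, show φ (C r) = (g.appLE V U hle).hom r from RingHom.congr_fun hφC r,
      show ψ (C ((g.appLE V U hle).hom r)) = _ from RingHom.congr_fun hψ.2 _]
    rw [← ConcreteCategory.comp_apply, Scheme.Hom.appLE_comp_appLE]
  · rw [test_comp_bijective_iff hW (ψ.comp μ) (hψ.1.comp hμ) τ hτ]
    intro _
    have key : ∀ (i : (W : Scheme.{u}) ⟶ Spec (CommRingCat.of (MvPolynomial (Fin k) (MvPolynomial (Fin n) Γ(S, V)))))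
        [IsClosedImmersion i], i = j ≫ Spec.map (CommRingCat.ofHom μ) →
        DPerf.Approx (Set.Ici m) ((pushD i).obj ((DPerf.resD W.ι).obj ((DCoh.Lpull f).obj E))) := by
      rintro i _ rfl
      exact (DPerf.Approx.of_iso ((pushD _).mapIso (eJ.symm ≪≫ (pushD j).mapIso eW.symm) ≪≫
        (pushDComp j _).app _) hten)
    exact key _ (imm_comp W ψ μ)

/-- Derived pullback along a pseudo-coherent morphism keeps relative pseudo-coherence. -/
theorem rel_lpull [DCoh.HasLpull f] [LocallyOfFiniteType f] [LocallyOfFiniteType g] {m : ℤ} {E : DCoh.D Y}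
    (hf : ∀ l : ℤ, DerSch.IsNPseudoCoherent f l) (hE : DerSch.IsPseudoCoherentRel g m E) :
    DerSch.IsPseudoCoherentRel (f ≫ g) m ((DCoh.Lpull f).obj E) := by
  refine rel_of_locally fun x => ?_
  obtain ⟨U, V, hxU, hU, hV, hle⟩ := exists_affine_pair g (f x)
  obtain ⟨W, hW, hxW, hWU⟩ := exists_isAffineOpen_mem_and_subset (U := f ⁻¹ᵁ U) hxU
  exact ⟨W, V, hxW, good_lpull hW hWU ((rel_iff.1 hE).2 U V hU hV hle) fun b hb => ⟨b, hb, hf _⟩⟩

/-- The version for bounded above objects. -/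
theorem rel_lpull_of_isLE [DCoh.HasLpull f] [LocallyOfFiniteType f] [LocallyOfFiniteType g] {m b : ℤ} {E : DCoh.D Y}
    [E.IsLE b] (hf : DerSch.IsNPseudoCoherent f (m - b)) (hE : DerSch.IsPseudoCoherentRel g m E) :
    DerSch.IsPseudoCoherentRel (f ≫ g) m ((DCoh.Lpull f).obj E) := by
  refine rel_of_locally fun x => ?_
  obtain ⟨U, V, hxU, hU, hV, hle⟩ := exists_affine_pair g (f x)
  obtain ⟨W, hW, hxW, hWU⟩ := exists_isAffineOpen_mem_and_subset (U := f ⁻¹ᵁ U) hxU
  exact ⟨W, V, hxW, good_lpull hW hWU ((rel_iff.1 hE).2 U V hU hV hle) fun _ _ => ⟨b, isLE_of_hd fun j hj =>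
    ((Scheme.Modules.restrictFunctor U.ι).map_isZero ((DerivedCategory.isLE_iff E b).1 inferInstance j hj)).of_iso
      (DPerf.hdResIso U.ι E j), hf⟩⟩

/-- The derived pullback of the structure sheaf. -/
theorem nonempty_lpull_unit (f : X ⟶ Y) [DCoh.HasLpull f] :
    Nonempty ((DCoh.Lpull f).obj (DCoh.inD Y (Coh.structureModule Y)) ≅ DCoh.inD X (Coh.structureModule X)) := by
  let K : CochainComplex Y.Modules ℤ := (HomologicalComplex.single Y.Modules (ComplexShape.up ℤ) 0).obj (Coh.structureModule Y)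
  have hfl : ∀ n, KFlat.IsFlat (KFlat.Sch.TX Y) (K.X n) := fun n => by
    rcases eq_or_ne n 0 with rfl | hn
    · exact ((KFlat.Sch.isFlat_iff _).2 (KFlat.Sch.isFlat_of_isFinLocFree (M2.isFinLocFree_of_iso (freeModSuccIso Y 0 ≪≫ (isoBiprodZero (DPerf.isZero_freeMod_zero Y)).symm) (KFlat.Sch.isFinLocFree_freeMod Y 1)))).of_iso
        (HomologicalComplex.singleObjXSelf (ComplexShape.up ℤ) 0 _).symm
    · exact (KFlat.Sch.isFlat_iff _).2 (KFlat.Sch.isFlat_of_isFinLocFree (KFlat.Sch.isFinLocFree_of_isZero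
        (HomologicalComplex.isZero_single_obj_X (ComplexShape.up ℤ) 0 _ n hn)))
  haveI : CochainComplex.IsStrictlyLE K 0 := (CochainComplex.isStrictlyLE_iff K 0).2 fun n hn =>
    HomologicalComplex.isZero_single_obj_X (ComplexShape.up ℤ) 0 _ n (by omega)
  exact ⟨(DCoh.Lpull f).mapIso (singleToInD _).symm ≪≫
    KFlat.Sch.lpullObjIso f K (KFlat.Sch.isAdapted_of_boundedAbove K 0 hfl) ≪≫
    DerivedCategory.Q.mapIso ((HomologicalComplex.singleMapHomologicalComplex (Scheme.Modules.pullback f)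
      (ComplexShape.up ℤ) 0).app _ ≪≫
      (HomologicalComplex.single X.Modules (ComplexShape.up ℤ) 0).mapIso (PicLoc.pullbackStructureIso f)) ≪≫
    singleToInD _⟩

end Groth.Agent.RelPCS4
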