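import Groth.Agent.Lib.RelPCS8.Basic
import Groth.Agent.Lib.HomO15.Sections
import Groth.Agent.Lib.CohMop.ClosedCounit
import Groth.Agent.Lib.ConormalBC19.Basic
import Groth.Agent.Lib.KFlat.LpullPC
import Groth.Agent.Lib.DQC.Pull

/-!
# Direct image along a closed immersion commutes with flat pullback
-/

set_option autoImplicit false
set_option linter.style.haveILetI false
set_option linter.unusedSectionVars false
set_option backward.isDefEq.respectTransparency false

universe u

open CategoryTheory Limits AlgebraicGeometry Opposite TopologicalSpace TensorProduct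

attribute [local instance] HasDerivedCategory.standard

namespace Groth.Agent.RelPCS4

open Groth.Agent.M1

variable {X Y : Scheme.{u}}

/-- The pullback of a module killed by the ideal of `i` is killed by the ideal of the base change. -/
theorem killed_pullback {Z W : Scheme.{u}} {i : Z ⟶ X} {i' : W ⟶ Y} {g : W ⟶ Z} {σ : Y ⟶ X} [Flat σ]
    [IsClosedImmersion i] [IsClosedImmersion i'] (H : IsPullback i' g σ i)
    {G : X.Modules} (hG : HomO15.Killed i G) : HomO15.Killed i' ((Scheme.Modules.pullback σ).obj G) := by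
  intro U' a ha s
  let F := (Scheme.Modules.pullback σ).obj G
  refine M1.section_ext (M := F) _ _ fun y hy => ?_
  rw [map_zero]
  obtain ⟨U, hU, hxU, -⟩ := exists_isAffineOpen_mem_and_subset (U := (⊤ : X.Opens)) (x := σ y) trivial
  obtain ⟨U'', hU'', hyU'', hle⟩ := exists_isAffineOpen_mem_and_subset (U := U'.1 ⊓ σ ⁻¹ᵁ U) ⟨hy, hxU⟩
  have hleU' : U'' ≤ U'.1 := fun z hz => (hle hz).1
  have hleU : U'' ≤ σ ⁻¹ᵁ U := fun z hz => (hle hz).2
  have hmem : ores hleU' a ∈ i'.ker.ideal ⟨U'', hU''⟩ :=
    i'.ker.ideal_le_comap_ideal (U := ⟨U'', hU''⟩) (V := U') hleU' ha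
  rw [ConormalBC19.ker_eq_comap H.flip, EffCartier.comap_ideal i.ker σ ⟨U, hU⟩ ⟨U'', hU''⟩ hleU] at hmem
  rw [germ_smul F hy, ← TopCat.Presheaf.germ_res_apply Y.presheaf (homOfLE hleU') y hyU'' a]
  change Y.presheaf.germ U'' y hyU'' (ores hleU' a) • _ = 0
  generalize F.presheaf.germ U'.1 y hy s = m
  generalize ores hleU' a = b at hmem
  have key : ∀ c ∈ i.ker.ideal ⟨U, hU⟩, ∀ w : F.presheaf.stalk y,
      Y.presheaf.germ U'' y hyU'' ((σ.appLE U U'' hleU).hom c) • w = 0 := by
    intro c hc w
    obtain ⟨t, rfl⟩ := (M2.pullStalkEquiv σ y G).surjective w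
    rw [← map_smul]
    refine (congrArg _ ?_).trans (map_zero _)
    have hgerm : Y.presheaf.germ U'' y hyU'' ((σ.appLE U U'' hleU).hom c) =
        σ.stalkMap y (X.presheaf.germ U (σ y) hxU c) := by
      rw [Scheme.Hom.germ_stalkMap_apply, Scheme.Hom.appLE]
      exact TopCat.Presheaf.germ_res_apply Y.presheaf (homOfLE hleU) y hyU'' _
    induction t using TensorProduct.induction_on with
    | zero => exact smul_zero _
    | tmul p q =>
      rw [TensorProduct.smul_tmul', smul_eq_mul, hgerm]
      change (algebraMap (X.presheaf.stalk (σ y)) (Y.presheaf.stalk y) (X.presheaf.germ U (σ y) hxU c) * p) ⊗ₜ q = 0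
      rw [← Algebra.smul_def, TensorProduct.smul_tmul,
        HomO15.germ_smul_stalk i hG ⟨U, hU⟩ c hc (σ y) hxU q, TensorProduct.tmul_zero]
    | add p q hp hq => rw [smul_add, hp, hq, add_zero]
  refine Submodule.span_induction (p := fun b _ => Y.presheaf.germ U'' y hyU'' b • m = 0) ?_ ?_ ?_ ?_
    (show b ∈ Ideal.span ((σ.appLE U U'' hleU).hom '' (i.ker.ideal ⟨U, hU⟩ : Set _)) from hmem)
  · rintro _ ⟨c, hc, rfl⟩
    exact key c hc m
  · rw [map_zero, zero_smul]
  · intro p q _ _ hp hq
    rw [map_add, add_smul, hp, hq, add_zero]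
  · intro r p _ hp
    rw [smul_eq_mul, map_mul, mul_smul, hp, smul_zero]

section Functors

variable {Z W : Scheme.{u}} {i : Z ⟶ X} {i' : W ⟶ Y} {g : W ⟶ Z} {σ : Y ⟶ X} [Flat σ]
  [IsClosedImmersion i] [IsClosedImmersion i']

/-- Direct image along a closed immersion commutes with flat pullback. -/
noncomputable def pushPullIso (H : IsPullback i' g σ i) :
    Scheme.Modules.pushforward i ⋙ Scheme.Modules.pullback σ ≅
      Scheme.Modules.pullback g ⋙ Scheme.Modules.pushforward i' :=
    haveI : IsIso (Functor.whiskerLeft (Scheme.Modules.pushforward i ⋙ Scheme.Modules.pullback σ)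
      (Scheme.Modules.pullbackPushforwardAdjunction i').unit) :=
    (NatTrans.isIso_iff_isIso_app _).2 fun M => HomO15.isIso_unit i' (killed_pullback H (HomO15.killed_push i M))
  haveI : IsIso (Scheme.Modules.pullbackPushforwardAdjunction i).counit :=
    (NatTrans.isIso_iff_isIso_app _).2 (CohMop.isIso_counit_closedImmersion i)
  (Functor.rightUnitor _).symm ≪≫
    asIso (Functor.whiskerLeft (Scheme.Modules.pushforward i ⋙ Scheme.Modules.pullback σ)
      (Scheme.Modules.pullbackPushforwardAdjunction i').unit) ≪≫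
    Functor.associator _ _ _ ≪≫
    Functor.isoWhiskerLeft (Scheme.Modules.pushforward i)
      ((Functor.associator _ _ _).symm ≪≫
        Functor.isoWhiskerRight
          (Scheme.Modules.pullbackComp i' σ ≪≫ Scheme.Modules.pullbackCongr H.w ≪≫
            (Scheme.Modules.pullbackComp g i).symm)
          (Scheme.Modules.pushforward i') ≪≫
        Functor.associator _ _ _) ≪≫
    (Functor.associator _ _ _).symm ≪≫
    Functor.isoWhiskerRight (asIso (Scheme.Modules.pullbackPushforwardAdjunction i).counit) _ ≪≫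
    Functor.leftUnitor _

instance additive_pullback (f : Y ⟶ X) : (Scheme.Modules.pullback f).Additive :=
  haveI : PreservesBinaryBiproducts (Scheme.Modules.pullback f) :=
    preservesBinaryBiproducts_of_preservesBinaryCoproducts _
  Functor.additive_of_preservesBinaryBiproducts _

instance preservesFiniteLimits_pullback (f : Y ⟶ X) [Flat f] :
    PreservesFiniteLimits (Scheme.Modules.pullback f) := ModLimH13.preservesFiniteLimits_pullback_of_flat f

/-- Flat pullback on derived categories. -/
noncomputable abbrev pullD (f : Y ⟶ X) [Flat f] : DCoh.D X ⥤ DCoh.D Y :=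
  (Scheme.Modules.pullback f).mapDerivedCategory

/-- Termwise pullback. -/
noncomputable abbrev pullX (f : Y ⟶ X) : CochainComplex X.Modules ℤ ⥤ CochainComplex Y.Modules ℤ :=
  (Scheme.Modules.pullback f).mapHomologicalComplex (ComplexShape.up ℤ)

/-- `Q` commutes with flat pullback. -/
noncomputable def pullFac (f : Y ⟶ X) [Flat f] : DerivedCategory.Q ⋙ pullD f ≅ pullX f ⋙ DerivedCategory.Q :=
  (Scheme.Modules.pullback f).mapDerivedCategoryFactors

/-- The derived pullback along a flat morphism is the termwise pullback. -/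
theorem nonempty_lpull_iso_pullD (f : Y ⟶ X) [Flat f] [DCoh.HasLpull f] (E : DCoh.D X) :
    Nonempty ((DCoh.Lpull f).obj E ≅ (pullD f).obj E) := by
  obtain ⟨K, hK, ⟨e⟩⟩ := KFlat.Sch.exists_adapted_rep E
  exact ⟨(DCoh.Lpull f).mapIso e.symm ≪≫ KFlat.Sch.lpullObjIso f K hK ≪≫
    ((pullFac f).app K).symm ≪≫ (pullD f).mapIso e⟩

variable [Flat g]

/-- Direct image along a closed immersion commutes with flat pullback on complexes. -/
noncomputable def pushPullX (H : IsPullback i' g σ i) :
    RelPCS8.pushX i ⋙ pullX σ ≅ pullX g ⋙ RelPCS8.pushX i' :=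
  NatIso.mapHomologicalComplex (pushPullIso H) (ComplexShape.up ℤ)

/-- Direct image along a closed immersion commutes with flat pullback on derived categories. -/
noncomputable def pushPullD (H : IsPullback i' g σ i) :
    RelPCS8.pushD i ⋙ pullD σ ≅ pullD g ⋙ RelPCS8.pushD i' :=
  letI : Localization.Lifting DerivedCategory.Q
      (HomologicalComplex.quasiIso Z.Modules (ComplexShape.up ℤ))
      (RelPCS8.pushX i ⋙ pullX σ ⋙ DerivedCategory.Q) (RelPCS8.pushD i ⋙ pullD σ) :=
    ⟨(Functor.associator _ _ _).symm ≪≫ Functor.isoWhiskerRight (RelPCS8.pushFac i) _ ≪≫ Functor.associator _ _ _ ≪≫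
      Functor.isoWhiskerLeft _ (pullFac σ)⟩
  letI : Localization.Lifting DerivedCategory.Q
      (HomologicalComplex.quasiIso Z.Modules (ComplexShape.up ℤ))
      (pullX g ⋙ RelPCS8.pushX i' ⋙ DerivedCategory.Q) (pullD g ⋙ RelPCS8.pushD i') :=
    ⟨(Functor.associator _ _ _).symm ≪≫ Functor.isoWhiskerRight (pullFac g) _ ≪≫
      Functor.associator _ _ _ ≪≫ Functor.isoWhiskerLeft _ (RelPCS8.pushFac i')⟩
  Localization.liftNatIso DerivedCategory.Q (HomologicalComplex.quasiIso Z.Modules (ComplexShape.up ℤ))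
    (RelPCS8.pushX i ⋙ pullX σ ⋙ DerivedCategory.Q) (pullX g ⋙ RelPCS8.pushX i' ⋙ DerivedCategory.Q) _ _
    ((Functor.associator _ _ _).symm ≪≫
      Functor.isoWhiskerRight (pushPullX H) _ ≪≫
      Functor.associator _ _ _)

end Functors

end Groth.Agent.RelPCS4
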