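import Groth.Agent.Lib.RelPCS4.Descent
import Mathlib.AlgebraicGeometry.PullbackCarrier
import Mathlib.AlgebraicGeometry.Morphisms.UniversallyOpen

/-!
# Relative pseudo-coherence descends along fppf coverings of the base
-/

set_option autoImplicit false
set_option linter.style.haveILetI false
set_option backward.isDefEq.respectTransparency false

universe u

open CategoryTheory Limits AlgebraicGeometry Opposite TopologicalSpace MvPolynomial

attribute [local instance] HasDerivedCategory.standard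

namespace Groth.Agent.RelPCS4

open RelPCS8

/-- An affine open is covered by the images of finitely many affines over it. -/
theorem exists_finite_lift {S : Scheme.{u}} {ι : Type u} {Si : ι → Scheme.{u}} (h : ∀ i, Si i ⟶ S)
    [∀ i, Flat (h i)] [∀ i, LocallyOfFinitePresentation (h i)] {V : S.Opens} (hV : IsCompact (V : Set S))
    (hcov : ∀ s ∈ V, ∃ (i : ι) (t : Si i), h i t = s) :
    ∃ (J : Type u) (_ : Finite J) (i : J → ι) (V' : ∀ j, (Si (i j)).Opens),
      (∀ j, IsAffineOpen (V' j)) ∧ (∀ j, V' j ≤ h (i j) ⁻¹ᵁ V) ∧ ∀ s ∈ V, ∃ j, ∃ t ∈ V' j, h (i j) t = s := by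
  choose i t ht using fun s : V => hcov s.1 s.2
  have hW : ∀ s : V, ∃ W : (Si (i s)).Opens, IsAffineOpen W ∧ t s ∈ W ∧ W ≤ h (i s) ⁻¹ᵁ V := fun s => by
    obtain ⟨W, hW, htW, hle⟩ := exists_isAffineOpen_mem_and_subset (U := h (i s) ⁻¹ᵁ V) (x := t s)
      (show h (i s) (t s) ∈ V by rw [ht]; exact s.2)
    exact ⟨W, hW, htW, hle⟩
  choose W hWa htW hWle using hW
  obtain ⟨F, hF⟩ := hV.elim_finite_subcover (fun s : V => h (i s) '' (W s : Set _))
    (fun s => (h (i s)).isOpenMap _ (W s).2) fun s hs => Set.mem_iUnion.2 ⟨⟨s, hs⟩, t _, htW _, ht _⟩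
  refine ⟨F, inferInstance, fun j => i j, fun j => W j, fun j => hWa j, fun j => hWle j, fun s hs => ?_⟩
  obtain ⟨j, hj, t', ht', rfl⟩ := Set.mem_iUnion₂.1 (hF hs)
  exact ⟨⟨j, hj⟩, t', ht', rfl⟩

/-- The spectra of the base changed polynomial rings cover. -/
theorem exists_mem_range_poly {A A' : Type u} [CommRing A] [CommRing A'] (ρ : A →+* A') (n : ℕ)
    (p : Spec (CommRingCat.of (MvPolynomial (Fin n) A))) (q : Spec (CommRingCat.of A'))
    (hq : Spec.map (CommRingCat.ofHom ρ) q = Spec.map (CommRingCat.ofHom (C : A →+* MvPolynomial (Fin n) A)) p) :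
    p ∈ Set.range (Spec.map (CommRingCat.ofHom (MvPolynomial.map (σ := Fin n) ρ))) := by
  have H := isPullback_SpecMap_of_isPushout _ _ _ _ (isPushout_poly ρ n)
  obtain ⟨z, hz, -⟩ := Scheme.Pullback.exists_preimage_pullback (f := Spec.map (CommRingCat.ofHom (C : A →+* MvPolynomial (Fin n) A)))
    (g := Spec.map (CommRingCat.ofHom ρ)) p q hq.symm
  exact ⟨H.isoPullback.inv z, by rw [← Scheme.Hom.comp_apply, H.isoPullback_inv_fst]; exact hz⟩

theorem rel_of_forall_base {X S : Scheme.{u}} (f : X ⟶ S) [LocallyOfFiniteType f] {ι : Type u}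
    {Si : ι → Scheme.{u}} (h : ∀ i, Si i ⟶ S) [∀ i, Flat (h i)] [∀ i, LocallyOfFinitePresentation (h i)]
    {Xi : ι → Scheme.{u}} (g : ∀ i, Xi i ⟶ X) (f' : ∀ i, Xi i ⟶ Si i) (H : ∀ i, IsPullback (g i) (f' i) f (h i))
    [∀ i, DCoh.HasLpull (g i)] (hcov : ∀ s : S, ∃ (i : ι) (t : Si i), h i t = s) {m : ℤ} {E : DCoh.D X}
    (hE : DCoh.IsQCohD E) (hi : ∀ i, DerSch.IsPseudoCoherentRel (f' i) m ((DCoh.Lpull (g i)).obj E)) :
    DerSch.IsPseudoCoherentRel f m E := by
  refine rel_iff.2 ⟨inferInstance, fun U V hU hV hle => ?_⟩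
  obtain ⟨n, φ, hφ⟩ := exists_chart_of_lft (f := f) hU hV hle
  haveI := isClosedImmersion_imm hU φ hφ.1
  refine ⟨hU, hV, hle, n, φ, hφ, fun _ => ?_⟩
  obtain ⟨J, _, i, V', hV', hV'le, hJ⟩ := exists_finite_lift h hV.isCompact fun s _ => hcov s
  choose hU' hle' φ' hφ' hflat hci e using fun j =>
    exists_baseChange_chart (H (i j)) E hU hV hφ (hV' j) (hV'le j)
  have hqc : DCoh.IsQCohD ((pushD (imm U φ)).obj ((DPerf.resD U.ι).obj E)) := fun k =>
    M1.isQCoh_of_isIso (hdPushDIso (imm U φ) _ k).symm (M1.isQCoh_push _ (DQC.isQCohD_resD U.ι hE k))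
  haveI : ∀ j, Flat (Spec.map (CommRingCat.ofHom
      (MvPolynomial.map (σ := Fin n) ((h (i j)).appLE V (V' j) (hV'le j)).hom))) := hflat
  refine approx_descend (fun j => CommRingCat.ofHom
    (MvPolynomial.map (σ := Fin n) ((h (i j)).appLE V (V' j) (hV'le j)).hom)) (fun p => ?_) _ hqc m fun j => ?_
  · let s := Spec.map (CommRingCat.ofHom (C : Γ(S, V) →+* MvPolynomial (Fin n) Γ(S, V))) p
    obtain ⟨j, t, ht, hts⟩ := hJ (hV.fromSpec s) (hV.range_fromSpec.le ⟨s, rfl⟩)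
    refine ⟨j, exists_mem_range_poly _ n p ((hV' j).primeIdealOf ⟨t, ht⟩) ?_⟩
    apply hV.fromSpec.isOpenEmbedding.injective
    change (Spec.map ((h (i j)).appLE V (V' j) (hV'le j)) ≫ hV.fromSpec) _ = hV.fromSpec s
    rw [hV.SpecMap_appLE_fromSpec _ (hV' j) (hV'le j), Scheme.Hom.comp_apply, (hV' j).fromSpec_primeIdealOf, hts]
  · haveI := hci j
    exact ((((rel_iff.1 (hi (i j))).2 _ _ (hU' j) (hV' j) (hle' j)).test (hφ' j)) inferInstance).of_iso (e j).some.symm

end Groth.Agent.RelPCS4
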