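import Groth.Agent.Lib.RelPCS4.Thick
import Groth.Agent.Lib.RelPCS8.ClosedPush
import Groth.Agent.Lib.DQC.Pull
import Groth.Agent.Lib.DPerf.Noeth
import Groth.Agent.Lib.TensorMod.Invertible

/-!
# Pseudo-coherence descends along finite order thickenings
-/

set_option autoImplicit false
set_option linter.style.haveILetI false
set_option backward.isDefEq.respectTransparency false

universe u

open CategoryTheory Limits CategoryTheory.Pretriangulated AlgebraicGeometry TopologicalSpace

attribute [local instance] HasDerivedCategory.standard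

namespace Groth.Agent.RelPCS4.Thick

open KFlat.Sch

variable {X X' : Scheme.{u}} {i : X ⟶ X'} {n : ℕ}

/-- A map whose pullback is zero stays so on an open of the target. -/
theorem pullback_restrict_eq_zero {Z W : Scheme.{u}} {i' : W ⟶ Z} {u' : W ⟶ X} {j : Z ⟶ X'}
    [IsOpenImmersion j] (w : i' ≫ j = u' ≫ i) {F G : X'.Modules} (φ : F ⟶ G)
    (hφ : (Scheme.Modules.pullback i).map φ = 0) :
    (Scheme.Modules.pullback i').map ((Scheme.Modules.restrictFunctor j).map φ) = 0 := by
  let e : Scheme.Modules.restrictFunctor j ⋙ Scheme.Modules.pullback i' ≅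
      Scheme.Modules.pullback i ⋙ Scheme.Modules.pullback u' :=
    Functor.isoWhiskerRight (Scheme.Modules.restrictFunctorIsoPullback j) _ ≪≫
      Scheme.Modules.pullbackComp i' j ≪≫ Scheme.Modules.pullbackCongr w ≪≫
      (Scheme.Modules.pullbackComp u' i).symm
  haveI : (Scheme.Modules.pullback u').PreservesZeroMorphisms :=
    haveI : PreservesColimitsOfSize.{0, 0} (Scheme.Modules.pullback u') :=
      (Scheme.Modules.pullbackPushforwardAdjunction u').leftAdjoint_preservesColimits
    inferInstance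
  rw [← cancel_mono (e.hom.app G), zero_comp]
  exact (e.hom.naturality φ).trans (by rw [Functor.comp_map, hφ, Functor.map_zero, comp_zero])

theorem isFT_of_generated (h : IsThick i n) (M : X'.Modules) (r : ℕ)
    (g : FlatMod.freeMod X r ⟶ (Scheme.Modules.pullback i).obj M) [Epi g] : CohB1.IsFT M := by
  haveI := h.closed
  haveI := RelPCS8.preservesFiniteColimits_push i
  haveI := epi_unit h (FlatMod.freeMod X' r)
  haveI := epi_unit h M
  let ψ : FlatMod.freeMod X' r ⟶ (Scheme.Modules.pushforward i).obj ((Scheme.Modules.pullback i).obj M) :=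
    η i (FlatMod.freeMod X' r) ≫
      (Scheme.Modules.pushforward i).map ((M2.freeModPullbackIso i r).hom ≫ g)
  haveI : Epi ψ := epi_comp _ _
  have hP := KFlat.Sch.isFinLocFree_freeMod X' r
  choose Z j hj hx χ hχ using DPerf.exists_lift hP (η i M) ψ
  refine M1.isFT_of_openImmersion_cover j (fun x => ⟨x, hx x⟩) fun x => ?_
  haveI := hj x
  let R := Scheme.Modules.restrictFunctor (j x)
  obtain ⟨w⟩ : Nonempty (IsPullback (pullback.snd i (j x)) (pullback.fst i (j x)) (j x) i) :=
    ⟨(IsPullback.of_hasPullback i (j x)).flip⟩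
  have h' := isThick_of_isPullback h w
  haveI : Epi (R.map ψ) := inferInstance
  suffices hepi : Epi (χ x) from
    @M1.isFT_of_epi _ _ _ (χ x) hepi (M1.isFT_restrict (M1.isFP_isFT (M1.isFP_of_isFinLocFree hP)) (j x))
  let k : R.obj (kernel (η i M)) ⟶ cokernel (χ x) := R.map (kernel.ι (η i M)) ≫ cokernel.π (χ x)
  have hk : Epi k := by
    refine Preadditive.epi_of_cancel_zero _ fun t ht => ?_
    have hS : (ShortComplex.mk (kernel.ι (η i M)) (η i M) (kernel.condition _)).ShortExact :=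
      { exact := ShortComplex.exact_of_f_is_kernel _ (kernelIsKernel _)
        mono_f := inferInstanceAs (Mono (kernel.ι (η i M)))
        epi_g := inferInstanceAs (Epi (η i M)) }
    have hR := hS.map_of_exact R
    haveI := hR.epi_g
    obtain ⟨s, hs⟩ := CokernelCofork.IsColimit.desc' hR.exact.gIsCokernel (cokernel.π (χ x) ≫ t)
      ((Category.assoc _ _ _).symm.trans ht)
    have hs' : R.map (η i M) ≫ s = cokernel.π (χ x) ≫ t := hs
    have : R.map ψ ≫ s = 0 := by
      rw [← hχ x, Category.assoc]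
      erw [hs', cokernel.condition_assoc, zero_comp]
    rw [← cancel_epi (cokernel.π (χ x)), comp_zero, ← hs', zero_of_epi_comp _ this, comp_zero]
  haveI : PreservesColimitsOfSize.{0, 0} (Scheme.Modules.pullback (pullback.snd i (j x))) :=
    (Scheme.Modules.pullbackPushforwardAdjunction _).leftAdjoint_preservesColimits
  have hz : (Scheme.Modules.pullback (pullback.snd i (j x))).map k = 0 := by
    rw [Functor.map_comp, pullback_restrict_eq_zero w.w _ (pullback_kernel_unit h M), zero_comp]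
  haveI : Epi ((Scheme.Modules.pullback (pullback.snd i (j x))).map k) := inferInstance
  have hC := isZero_of_pullback h' (IsZero.of_epi_eq_zero _ hz)
  exact Preadditive.epi_of_isZero_cokernel _ hC

/-- Being of finite type descends along a thickening. -/
theorem isFT_of_pullback (h : IsThick i n) (M : X'.Modules)
    (hM : CohB1.IsFT ((Scheme.Modules.pullback i).obj M)) : CohB1.IsFT M := by
  haveI := h.closed
  choose U hyU σ hσ using (M1.isFT_iff_generators _).1 hM
  choose y hy using h.surj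
  choose V hV using fun x => RelPCS8.exists_open_eq i (U (y x))
  refine M1.isFT_of_openImmersion_cover (fun x => (V x).ι) (fun x => ⟨x, ?_⟩) fun x => ?_
  · rw [Scheme.Opens.range_ι]
    have := hyU (y x)
    rw [← hV x] at this
    have h2 : i (y x) ∈ V x := this
    rw [hy x] at h2
    exact h2
  · have hg : ∃ (r : ℕ) (g : FlatMod.freeMod (U (y x) : Scheme.{u}) r ⟶
        ((Scheme.Modules.pullback i).obj M).restrict (U (y x)).ι), Epi g := by
      haveI := hσ (y x)
      obtain ⟨e⟩ := M1.nonempty_fr_freeMod (U (y x) : Scheme.{u}) (σ (y x)).I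
      haveI : Epi (σ (y x)).π := (σ (y x)).epi
      exact ⟨_, e.inv ≫ (σ (y x)).π, @epi_comp _ _ _ _ _ _ inferInstance _ inferInstance⟩
    rw [← hV x] at hg
    obtain ⟨r, g, hg⟩ := hg
    exact isFT_of_generated (isThick_of_isPullback h (RelPCS8.isPullback_open i (V x))) (M.restrict (V x).ι) r
      (g ≫ ((pullbackRestrictNatIso i (V x)).app M).hom)

/-- A strictly bounded adapted representative. -/
theorem exists_strict_rep (K : DCoh.D X') (b : ℤ) [hK : K.IsLE b] :
    ∃ R : CochainComplex X'.Modules ℤ, IsAdapted R ∧ R.IsStrictlyLE b ∧ Nonempty (DCoh.toD X' R ≅ K) := by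
  obtain ⟨F, ⟨eF⟩⟩ := Functor.EssSurj.mem_essImage (F := (DerivedCategory.Q :
    CochainComplex X'.Modules ℤ ⥤ _)) K
  haveI : F.IsLE b := (CochainComplex.isLE_iff F b).2 fun k hk =>
    (isZero_HD_toD_iff F k).1 ((isZero_HD_iff_of_iso eF k).2 ((DerivedCategory.isLE_iff K b).1 hK k hk))
  have := KFlat.quasiIso_resπ (cover X') (F.truncLE b)
  exact ⟨_, isAdapted_resObj _, KFlat.resObj_isStrictlyLE (cover X') (F.truncLE b) b,
    ⟨asIso (DerivedCategory.Q.map (KFlat.resπ (cover X') (F.truncLE b) ≫ F.ιTruncLE b)) ≪≫ eF⟩⟩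

/-- The top cohomology of a complex is a cokernel. -/
noncomputable def topIso (R : CochainComplex X'.Modules ℤ) (b : ℤ) [R.IsStrictlyLE b] :
    DCoh.HD (DCoh.toD X' R) b ≅ cokernel (R.d (b - 1) b) :=
  haveI := R.isIso_homologyι b (b + 1) (by simp) ((R.isZero_of_isStrictlyLE b (b + 1)).eq_of_tgt _ _)
  (DerivedCategory.homologyFunctorFactors X'.Modules b).app R ≪≫ asIso (R.homologyι b) ≪≫
    (R.opcyclesIsCokernel (b - 1) b (by simp)).coconePointUniqueUpToIso (colimit.isColimit _)

theorem isFT_top (h : IsThick i n) [DCoh.HasLpull i] (K : DCoh.D X') (b : ℤ) [K.IsLE b]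
    (hK : DCoh.IsPseudoCoherentD b ((DCoh.Lpull i).obj K)) : CohB1.IsFT (DCoh.HD K b) := by
  obtain ⟨R, hR, hRb, ⟨eR⟩⟩ := exists_strict_rep K b
  haveI : ((pbX i).obj R).IsStrictlyLE b := (CochainComplex.isStrictlyLE_iff _ b).2 fun k hk =>
    (Scheme.Modules.pullback i).map_isZero (R.isZero_of_isStrictlyLE b k hk)
  let e : (DCoh.Lpull i).obj K ≅ DCoh.toD X ((pbX i).obj R) :=
    (DCoh.Lpull i).mapIso eR.symm ≪≫ lpullObjIso i R hR
  have h1 := DPerf.finiteType_top hK fun k hk => (isZero_HD_iff_of_iso e k).2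
    ((isZero_HD_toD_iff _ k).2 (((pbX i).obj R).exactAt_of_isLE b k hk))
  haveI : PreservesColimitsOfSize.{0, 0} (Scheme.Modules.pullback i) :=
    (Scheme.Modules.pullbackPushforwardAdjunction i).leftAdjoint_preservesColimits
  refine M1.isFT_of_isIso ((topIso R b).symm ≪≫ (DerivedCategory.homologyFunctor _ b).mapIso eR) ?_
  exact isFT_of_pullback h _ (M1.isFT_of_isIso
    ((DerivedCategory.homologyFunctor _ b).mapIso e ≪≫ topIso ((pbX i).obj R) b ≪≫
      (PreservesCokernel.iso (Scheme.Modules.pullback i) (R.d (b - 1) b)).symm) h1)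

/-- `Li^*` commutes with restriction to an open of the target. -/
theorem nonempty_lpull_res [DCoh.HasLpull i] (V : X'.Opens) [DCoh.HasLpull (i ∣_ V)] (K : DCoh.D X') :
    Nonempty ((DPerf.resD (i ⁻¹ᵁ V).ι).obj ((DCoh.Lpull i).obj K) ≅
      (DCoh.Lpull (i ∣_ V)).obj ((DPerf.resD V.ι).obj K)) :=
  DQC.nonempty_chart_iso i V.ι (i ⁻¹ᵁ V).ι (i ∣_ V) (morphismRestrict_ι i V) K

theorem approx_aux : ∀ (k : ℕ) {X X' : Scheme.{u}} (i : X ⟶ X') [DCoh.HasLpull i] (n : ℕ), IsThick i n →
    ∀ (m : ℤ) (K : DCoh.D X'), (∀ j, m + k ≤ j → IsZero (DCoh.HD K j)) →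
      DPerf.Approx (Set.Ici m) ((DCoh.Lpull i).obj K) → DPerf.Approx (Set.Ici m) K
  | 0, X, X', i, _, n, _, m, K, hK, _ => DPerf.approx_of_isZero_HD fun j hj => hK j (by simpa using hj)
  | k + 1, X, X', i, _, n, ht, m, K, hK, h => by
      obtain ⟨b, hb⟩ : ∃ b : ℤ, b = m + k := ⟨_, rfl⟩
      have hK' : ∀ j, b < j → IsZero (DCoh.HD K j) := fun j hj => hK j (by omega)
      haveI : K.IsLE b := (DerivedCategory.isLE_iff K b).2 hK'
      have hFT := isFT_top ht K b
        (DPerf.isPseudoCoherentD_of_approx (h.mono_set (Set.Ici_subset_Ici.2 (by omega))))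
      refine DPerf.Approx.of_locally fun z => ?_
      obtain ⟨V, hzV, hV⟩ := (RelPCS8.approx_of_isFT_top hK' hFT).exists_opens z
      obtain ⟨E, hE, α, hα⟩ := hV _ le_rfl
      refine ⟨_, hzV, ?_⟩
      obtain ⟨C, g, t, hT⟩ := distinguished_cocone_triangle α
      haveI := hasLpull (i ∣_ V)
      obtain ⟨eV⟩ := nonempty_lpull_res (i := i) V K
      have hpull : DPerf.Approx (Set.Ici m) ((DCoh.Lpull (i ∣_ V)).obj ((DPerf.resD V.ι).obj K)) :=
        (h.res (i ⁻¹ᵁ V)).of_iso eV
      obtain ⟨T', hT', e₁, e₂, e₃, -⟩ := exists_triangle_lpull (i ∣_ V) _ hT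
      have hEu : DPerf.Approx Set.univ (DCoh.toD _ E) := fun y => ⟨_, 𝟙 _, inferInstance, ⟨y, rfl⟩, _,
        DPerf.isStrictlyPerfect_res (𝟙 _) hE, (DPerf.resFac (𝟙 _)).inv.app E, DPerf.dcond_of_isIso _⟩
      have hC : DPerf.Approx (Set.Ici m) ((DCoh.Lpull (i ∣_ V)).obj C) :=
        (DPerf.approx_Ici₃ m _ hT'
          ((DPerf.approx_of_isPseudoCoherentD (isPseudoCoherent_lpull (i ∣_ V)
            (DPerf.isPseudoCoherentD_of_approx (m := m + 1) (hEu.mono_set (Set.subset_univ _))))).of_iso e₁.symm)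
          (hpull.of_iso e₂.symm)).of_iso e₃
      have := approx_aux k (i ∣_ V) n (isThick_of_isPullback ht (RelPCS8.isPullback_open i V)) m C
        (fun j hj => DPerf.isZero_homology_of_dcond hT hα (show b ≤ j by omega)) hC
      exact DPerf.approx_Ici₂ m _ hT (hEu.mono_set (Set.subset_univ _)) this

theorem approx_of_lpull (h : IsThick i n) [DCoh.HasLpull i] (m : ℤ) (K : DCoh.D X')
    (hK : DPerf.Approx (Set.Ici m) ((DCoh.Lpull i).obj K)) : DPerf.Approx (Set.Ici m) K := by
  haveI := h.closed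
  refine DPerf.Approx.of_locally fun z => ?_
  obtain ⟨y, rfl⟩ := h.surj z
  obtain ⟨U, b, hyU, hb⟩ := RelPCS8.exists_bound_of_approx hK y
  obtain ⟨V, rfl⟩ := RelPCS8.exists_open_eq i U
  refine ⟨V, hyU, ?_⟩
  haveI := hasLpull (i ∣_ V)
  obtain ⟨eV⟩ := nonempty_lpull_res (i := i) V K
  have hV := isThick_of_isPullback h (RelPCS8.isPullback_open i V)
  obtain ⟨R, hR, ⟨eR⟩⟩ := exists_adapted_rep ((DPerf.resD V.ι).obj K)
  haveI : CochainComplex.IsLE ((pbX (i ∣_ V)).obj R) b := (CochainComplex.isLE_iff _ b).2 fun j hj =>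
    (isZero_HD_toD_iff _ j).1 ((isZero_HD_iff_of_iso
      (eV ≪≫ (DCoh.Lpull (i ∣_ V)).mapIso eR.symm ≪≫ lpullObjIso (i ∣_ V) R hR) j).1 (hb j hj))
  haveI := isLE_of_pullback hV hR b
  refine approx_aux (b + 1 - m).toNat (i ∣_ V) n hV m _ (fun j hj => ?_) ((hK.res (i ⁻¹ᵁ V)).of_iso eV)
  exact (isZero_HD_iff_of_iso eR j).1 ((isZero_HD_toD_iff R j).2 (R.exactAt_of_isLE b j (by omega)))

end Groth.Agent.RelPCS4.Thick
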