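import Groth.Agent.Lib.DBaseChange.TorAmp
import Mathlib.RingTheory.Flat.Basic
import Mathlib.Algebra.Module.Torsion.Basic

/-!
# Tor amplitude of a bounded above flat complex, tested modulo a nilpotent ideal
-/

set_option autoImplicit false
set_option linter.style.haveILetI false
set_option backward.isDefEq.respectTransparency false

universe u

open CategoryTheory Limits TensorProduct MonoidalCategory

attribute [local instance] HasDerivedCategory.standard

namespace Groth.Agent.RelPCS4.TorMod

variable {A A₀ : Type u} [CommRing A] [CommRing A₀]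

/-- The comparison data: `P₀` is `P` modulo the kernel of `φ`. -/
structure ModData (φ : A →+* A₀) (P : DRing.Cx A) (P₀ : DRing.Cx A₀) where
  π : ∀ d, P.X d →+ P₀.X d
  map_smul : ∀ d (a : A) (m : P.X d), π d (a • m) = φ a • π d m
  comm : ∀ j k (m : P.X j), π k (P.d j k m) = P₀.d j k (π j m)
  surj : ∀ d, Function.Surjective (π d)
  ker_le : ∀ d (m : P.X d), π d m = 0 → m ∈ RingHom.ker φ • (⊤ : Submodule A (P.X d))

variable {φ : A →+* A₀} {P : DRing.Cx A} {P₀ : DRing.Cx A₀}

theorem exactAt_of_kills (hφ : Function.Surjective φ) (D : ModData φ P P₀)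
    (M : ModuleCat.{u} A) (hM : ∀ a ∈ RingHom.ker φ, ∀ m : M, a • m = 0) (j : ℤ)
    (h : ∀ N : ModuleCat.{u} A₀, ((DBaseChange.tm N).obj P₀).ExactAt j) :
    ((DBaseChange.tm M).obj P).ExactAt j := by
  classical
  have hw : ∀ a a' : A, φ a = φ a' → ∀ m : M, a • m = a' • m := fun a a' e m => by
    rw [← sub_eq_zero, ← sub_smul]; exact hM _ (by rw [RingHom.mem_ker, map_sub, e, sub_self]) m
  letI : SMul A₀ M := ⟨fun a m => (hφ a).choose • m⟩
  have hsm : ∀ (a : A) (m : M), φ a • m = a • m := fun a m => hw _ _ (hφ (φ a)).choose_spec m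
  letI : Module A₀ M := Function.Surjective.moduleLeft φ hφ hsm
  let N : ModuleCat.{u} A₀ := ModuleCat.of A₀ M
  let T : ∀ d, TensorProduct A (P.X d) M →+ TensorProduct A₀ (P₀.X d) M := fun d =>
    TensorProduct.liftAddHom
      (AddMonoidHom.mk' (fun p => AddMonoidHom.mk' (fun m => D.π d p ⊗ₜ[A₀] m) fun m m' => tmul_add _ _ _)
        fun p p' => AddMonoidHom.ext fun m => by simp [map_add, add_tmul])
      fun a p m => by simp [D.map_smul, smul_tmul, hsm]
  have hT : ∀ d p m, T d (p ⊗ₜ m) = D.π d p ⊗ₜ[A₀] m := fun d p m => rfl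
  have hz : ∀ d p (m : M), D.π d p = 0 → p ⊗ₜ[A] m = 0 := fun d p m hp => by
    refine Submodule.smul_induction_on (p := fun q : P.X d => q ⊗ₜ[A] m = 0) (D.ker_le d p hp)
      (fun a ha q _ => by rw [smul_tmul, hM a ha, tmul_zero]) fun q q' e e' => by rw [add_tmul, e, e', add_zero]
  have hwd : ∀ d p p' (m : M), D.π d p = D.π d p' → p ⊗ₜ[A] m = p' ⊗ₜ[A] m := fun d p p' m e => by
    rw [← sub_eq_zero, ← sub_tmul]; exact hz d _ m (by rw [map_sub, e, sub_self])
  let U : ∀ d, TensorProduct A₀ (P₀.X d) M →+ TensorProduct A (P.X d) M := fun d =>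
    TensorProduct.liftAddHom
      (AddMonoidHom.mk' (fun p => AddMonoidHom.mk' (fun m => (D.surj d p).choose ⊗ₜ[A] m) fun m m' => tmul_add _ _ _)
        fun p p' => AddMonoidHom.ext fun m => by
          change _ = _ ⊗ₜ[A] m + _ ⊗ₜ[A] m
          rw [← add_tmul]
          exact hwd d _ _ m (by rw [map_add, (D.surj d _).choose_spec, (D.surj d _).choose_spec, (D.surj d _).choose_spec]))
      fun a p m => by
        obtain ⟨a, rfl⟩ := hφ a
        change (D.surj d (φ a • p)).choose ⊗ₜ[A] m = (D.surj d p).choose ⊗ₜ[A] (φ a • m)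
        rw [hsm, ← smul_tmul]
        exact hwd d _ _ m (by rw [D.map_smul, (D.surj d _).choose_spec, (D.surj d _).choose_spec])
  have hUT : ∀ d z, U d (T d z) = z := fun d z => by
    induction z using TensorProduct.induction_on with
    | zero => simp
    | tmul p m => exact hwd d _ _ m (D.surj d _).choose_spec
    | add z z' e e' => rw [map_add, map_add, e, e']
  have hTsurj : ∀ d, Function.Surjective (T d) := fun d z => by
    induction z using TensorProduct.induction_on with
    | zero => exact ⟨0, map_zero _⟩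
    | tmul p m => exact ⟨(D.surj d p).choose ⊗ₜ m, by rw [hT, (D.surj d p).choose_spec]⟩
    | add z z' e e' =>
      obtain ⟨a, rfl⟩ := e; obtain ⟨b, rfl⟩ := e'
      exact ⟨a + b, map_add _ _ _⟩
  have hTd : ∀ k l z, T l ((P.d k l).hom.rTensor M z) = (P₀.d k l).hom.rTensor M (T k z) := fun k l z => by
    induction z using TensorProduct.induction_on with
    | zero => simp
    | tmul p m =>
      rw [LinearMap.rTensor_tmul, hT, hT, LinearMap.rTensor_tmul]
      exact congrArg (· ⊗ₜ[A₀] m) (D.comm k l p)
    | add z z' e e' => rw [map_add, map_add, e, e', map_add, map_add]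
  have h' := (HomologicalComplex.exactAt_iff_isZero_homology _ _).1 (h N)
  rw [HomologicalComplex.exactAt_iff_isZero_homology]
  refine @ModuleCat.isZero_of_subsingleton _ _ _ ?_
  have h'' := (DMod.subsingleton_homology_iff ((DBaseChange.tm N).obj P₀) (i := j - 1) (k := j + 1)
    (by simp) (by simp)).1 (ModuleCat.subsingleton_of_isZero h')
  refine (DMod.subsingleton_homology_iff _ (i := j - 1) (k := j + 1) (by simp) (by simp)).2 fun x hx => ?_
  change (P.d j (j + 1)).hom.rTensor M x = 0 at hx
  obtain ⟨y, hy⟩ := h'' (T j x) (by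
    change (P₀.d j (j + 1)).hom.rTensor M (T j x) = 0
    rw [← hTd, hx, map_zero])
  obtain ⟨y, rfl⟩ := hTsurj (j - 1) y
  refine ⟨y, ?_⟩
  change (P.d (j - 1) j).hom.rTensor M y = x
  change (P₀.d (j - 1) j).hom.rTensor M (T (j - 1) y) = T j x at hy
  rw [← hTd] at hy
  rw [← hUT j ((P.d (j - 1) j).hom.rTensor M y), hy, hUT]

theorem exactAt_of_filtration (hP : ∀ i, Module.Flat A (P.X i)) (I : Ideal A) (j : ℤ)
    (h : ∀ M : ModuleCat.{u} A, (∀ a ∈ I, ∀ m : M, a • m = 0) → ((DBaseChange.tm M).obj P).ExactAt j) :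
    ∀ (k : ℕ) (M : ModuleCat.{u} A), I ^ k • (⊤ : Submodule A M) = ⊥ → ((DBaseChange.tm M).obj P).ExactAt j
  | 0, M, hM => h M fun a _ m => by
      rw [pow_zero, Ideal.one_eq_top, Submodule.top_smul] at hM
      exact ((Submodule.eq_bot_iff _).1 hM) _ Submodule.mem_top
  | k + 1, M, hM => by
      let N : Submodule A M := I • ⊤
      let S : ShortComplex (ModuleCat.{u} A) :=
        ShortComplex.mk (ModuleCat.ofHom N.subtype) (ModuleCat.ofHom N.mkQ)
          (ModuleCat.hom_ext (LinearMap.exact_subtype_mkQ N).linearMap_comp_eq_zero)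
      have h₁ := exactAt_of_filtration hP I j h k S.X₁ (by
        refine Submodule.map_injective_of_injective N.injective_subtype ?_
        rw [Submodule.map_bot]
        refine (Submodule.map_smul'' _ _ _).trans ?_
        rw [Submodule.map_top, Submodule.range_subtype]
        change I ^ k • (I • ⊤ : Submodule A M) = ⊥
        rw [← mul_smul, ← pow_succ]
        exact hM)
      have h₃ := h S.X₃ (fun a ha m => by
        obtain ⟨m, rfl⟩ := N.mkQ_surjective m
        change a • N.mkQ m = 0
        rw [← map_smul, Submodule.mkQ_apply, Submodule.Quotient.mk_eq_zero]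
        exact Submodule.smul_mem_smul ha Submodule.mem_top)
      let α := (NatTrans.mapHomologicalComplex ((tensoringRight (ModuleCat.{u} A)).map S.f) (ComplexShape.up ℤ)).app P
      let β := (NatTrans.mapHomologicalComplex ((tensoringRight (ModuleCat.{u} A)).map S.g) (ComplexShape.up ℤ)).app P
      have w : α ≫ β = 0 := by
        ext1 d
        refine ModuleCat.hom_ext ?_
        change N.mkQ.lTensor (P.X d) ∘ₗ N.subtype.lTensor (P.X d) = 0
        rw [← LinearMap.lTensor_comp, (LinearMap.exact_subtype_mkQ N).linearMap_comp_eq_zero,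
          LinearMap.lTensor_zero]
      have hw : (ShortComplex.mk α β w).ShortExact :=
        HomologicalComplex.shortExact_of_degreewise_shortExact _ fun d => by
          haveI := hP d
          refine
            { exact := (ShortComplex.ShortExact.moduleCat_exact_iff_function_exact _).2
                (lTensor_exact (P.X d) (LinearMap.exact_subtype_mkQ N) N.mkQ_surjective)
              mono_f := (ModuleCat.mono_iff_injective _).2
                (Module.Flat.lTensor_preserves_injective_linearMap (M := P.X d) _ N.injective_subtype)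
              epi_g := (ModuleCat.epi_iff_surjective _).2
                (LinearMap.lTensor_surjective (P.X d) N.mkQ_surjective) }
      rw [HomologicalComplex.exactAt_iff_isZero_homology] at h₁ h₃ ⊢
      exact (hw.homology_exact₂ j).isZero_of_both_zeros (h₁.eq_of_src _ _) (h₃.eq_of_tgt _ _)

/-- Tor amplitude is detected modulo a nilpotent ideal. -/
theorem hasTorAmplitudeIn_of_mod (hφ : Function.Surjective φ) {n : ℕ} (hn : RingHom.ker φ ^ n = ⊥)
    (D : ModData φ P P₀) (b' : ℤ) [P.IsStrictlyLE b'] [P₀.IsStrictlyLE b']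
    (hP : ∀ i, Module.Flat A (P.X i)) (hP₀ : ∀ i, Module.Flat A₀ (P₀.X i)) (a b : ℤ)
    (h : DRing.HasTorAmplitudeIn A₀ a b (DRing.toD P₀)) : DRing.HasTorAmplitudeIn A a b (DRing.toD P) := by
  have h₀ := DBaseChange.torBound_of_hasTorAmplitudeIn P₀ b' hP₀ a b h
  have key : ∀ (M : ModuleCat.{u} A) (j : ℤ), (j < a ∨ b < j) →
      Subsingleton (Dual.HD A (DRing.toD ((DBaseChange.tm M).obj P)) j) := fun M j hj => by
    refine (DMod.subsingleton_HD_toD_iff _ j).2 (ModuleCat.subsingleton_of_isZero
      ((HomologicalComplex.exactAt_iff_isZero_homology _ _).1 (exactAt_of_filtration hP (RingHom.ker φ) j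
        (fun M hM => exactAt_of_kills hφ D M hM j fun N => ?_) n M (by rw [hn, Submodule.bot_smul]))))
    rw [HomologicalComplex.exactAt_iff_isZero_homology]
    refine @ModuleCat.isZero_of_subsingleton _ _ _ ((DMod.subsingleton_HD_toD_iff _ j).1 ?_)
    rcases hj with hj | hj
    · exact (DMod.isGE_iff _ a).1 (h₀ N).1 j hj
    · exact (DMod.isLE_iff _ b).1 (h₀ N).2 j hj
  exact DBaseChange.hasTorAmplitudeIn_of_torBound P b' hP a b fun M =>
    ⟨(DMod.isGE_iff _ a).2 fun j hj => key M j (Or.inl hj), (DMod.isLE_iff _ b).2 fun j hj => key M j (Or.inr hj)⟩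

end Groth.Agent.RelPCS4.TorMod
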