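import Groth.Prelude.Def_DerSch2
import Groth.Agent.Lib.RelPCS4.ThickPC
import Groth.Agent.Lib.RelPCS4.TorMod
import Groth.Agent.Lib.RelPCS8.StalkTor
import Groth.Agent.Lib.RelPCS8.StalkId
import Groth.Agent.Lib.Deform4

/-!
# Relative tor amplitude along a thickening of the base
-/

set_option autoImplicit false
set_option linter.style.haveILetI false
set_option backward.isDefEq.respectTransparency false

universe u

open CategoryTheory Limits AlgebraicGeometry TopologicalSpace TensorProduct

attribute [local instance] HasDerivedCategory.standard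

namespace Groth.Agent.RelPCS4.ThickTor

open KFlat.Sch Thick

variable {X X' Y Y' Z : Scheme.{u}}

theorem stalkUnit_natural (i : X ⟶ X') (x : X) {A B : X'.Modules} (g : A ⟶ B)
    (m : (A.presheaf.stalk (i x) : Type u)) :
    (M1.stalkAb x).map ((Scheme.Modules.pullback i).map g) (M2.stalkUnit i x A m) =
      M2.stalkUnit i x B (stk g (i x) m) := by
  have h1 : ∀ (M : X'.Modules) (m : (M.presheaf.stalk (i x) : Type u)),
      M2.pullStalkEquiv i x M (1 ⊗ₜ m) = M2.stalkUnit i x M m := fun M m =>
    LinearMap.liftBaseChange_one_tmul _ _ _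
  rw [← h1 A m, pullStalkEquiv_naturality, LinearMap.lTensor_tmul, h1]

/-- The stalk of a pullback receives the stalk. -/
noncomputable def unitNat (i : X ⟶ X') (x : X) :
    DerSch.stalkFunctor X' (i x) ⟶ Scheme.Modules.pullback i ⋙ DerSch.stalkOver i x where
  app M := ModuleCat.ofHom (Y := (Scheme.Modules.pullback i ⋙ DerSch.stalkOver i x).obj M)
    { toFun := fun m => M2.stalkUnit i x M m
      map_add' := fun a b => map_add (M2.stalkUnit i x M) a b
      map_smul' := fun r m => map_smul (M2.stalkUnit i x M) r m }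
  naturality A B g := by
    ext m
    exact (stalkUnit_natural i x g m).symm

theorem bijective_stalkUnit (k : Z ⟶ X') [IsOpenImmersion k] (z : Z) (M : X'.Modules) :
    Function.Bijective (M2.stalkUnit k z M) := by
  let A := X'.presheaf.stalk (k z)
  let B := Z.presheaf.stalk z
  have hb : Function.Bijective (algebraMap A B) := ConcreteCategory.bijective_of_isIso (k.stalkMap z)
  let e : (M.presheaf.stalk (k z) : Type u) ≃ₗ[A] TensorProduct A B (M.presheaf.stalk (k z)) :=
    (TensorProduct.lid A _).symm.trans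
      (TensorProduct.congr (LinearEquiv.ofBijective (Algebra.linearMap A B) hb) (LinearEquiv.refl A _))
  have he : (M2.stalkUnit k z M : (M.presheaf.stalk (k z) : Type u) → _) =
      (M2.pullStalkEquiv k z M) ∘ e := funext fun m => by
    refine (LinearMap.liftBaseChange_one_tmul B (M2.stalkUnit k z M) m).symm.trans ?_
    change M2.pullStalkEquiv k z M (1 ⊗ₜ m) = M2.pullStalkEquiv k z M (algebraMap A B 1 ⊗ₜ m)
    rw [map_one]
  rw [he]
  exact (M2.pullStalkEquiv k z M).bijective.comp e.bijective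

/-- Stalks over the base do not change under restriction to an open. -/
noncomputable def stalkOverResIso (k : Z ⟶ X') [IsOpenImmersion k] (g : X' ⟶ Y') (z : Z) :
    Scheme.Modules.restrictFunctor k ⋙ DerSch.stalkOver (k ≫ g) z ≅ DerSch.stalkOver g (k z) :=
  haveI : IsIso (unitNat k z) :=
    haveI : ∀ M, IsIso ((unitNat k z).app M) := fun M =>
      (ConcreteCategory.isIso_iff_bijective _).2 (bijective_stalkUnit k z M)
    NatIso.isIso_of_isIso_app _
  Functor.isoWhiskerLeft _ (RelPCS8.StalkTor.stalkCompIso k g z) ≪≫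
    Functor.isoWhiskerRight (Scheme.Modules.restrictFunctorIsoPullback k) _ ≪≫
    (Functor.associator _ _ _).symm ≪≫
    Functor.isoWhiskerRight (asIso (unitNat k z)).symm (ModuleCat.restrictScalars.{u} (g.stalkMap (k z)).hom)

theorem hasTorAmplitudeAt_res_iff (k : Z ⟶ X') [IsOpenImmersion k] (g : X' ⟶ Y') (z : Z) (a b : ℤ)
    (F : CochainComplex X'.Modules ℤ) :
    DerSch.HasTorAmplitudeAt (k ≫ g) a b ((DPerf.resX k).obj F) z ↔ DerSch.HasTorAmplitudeAt g a b F (k z) := by
  let e : (DerSch.stalkCxOver (k ≫ g) z).obj ((DPerf.resX k).obj F) ≅ (DerSch.stalkCxOver g (k z)).obj F :=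
    HomologicalComplex.Hom.isoOfComponents (fun d => (stalkOverResIso k g z).app (F.X d))
      fun p q _ => ((stalkOverResIso k g z).hom.naturality (F.d p q)).symm
  exact ⟨fun h => RelPCS8.StalkTor.hasTorAmplitudeIn_congr (DerivedCategory.Q.mapIso e) h,
    fun h => RelPCS8.StalkTor.hasTorAmplitudeIn_congr (DerivedCategory.Q.mapIso e.symm) h⟩

theorem hasTorAmplitudeAt_congr (g : X' ⟶ Y') (x : X') {a b : ℤ} {F G : CochainComplex X'.Modules ℤ}
    (e : DCoh.toD X' F ≅ DCoh.toD X' G) (h : DerSch.HasTorAmplitudeAt g a b F x) :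
    DerSch.HasTorAmplitudeAt g a b G x := by
  haveI := (RelPCS8.StalkId.preservesFiniteLimits_stalkOver g x).1
  haveI := (RelPCS8.StalkId.preservesFiniteLimits_stalkOver g x).2
  exact RelPCS8.StalkTor.hasTorAmplitudeIn_congr (RelPCS8.StalkId.stalkToDIso x g e) h

variable {f : X ⟶ Y} {f' : X' ⟶ Y'} {i : X ⟶ X'} {j : Y ⟶ Y'} {n : ℕ}

theorem eq_point (sq : IsPullback i f f' j) (x : X) : f' (i x) = j (f x) :=
  congrArg (fun t : X ⟶ Y' => t x) sq.w

/-- The map of local rings of the base. -/
noncomputable def base (sq : IsPullback i f f' j) (x : X) :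
    Y'.presheaf.stalk (f' (i x)) ⟶ Y.presheaf.stalk (f x) :=
  (Y'.presheaf.stalkCongr (Inseparable.of_eq (eq_point sq x))).hom ≫ j.stalkMap (f x)

theorem base_comm (sq : IsPullback i f f' j) (x : X) :
    f'.stalkMap (i x) ≫ i.stalkMap x = base sq x ≫ f.stalkMap x := by
  rw [← Scheme.Hom.stalkMap_comp, Scheme.Hom.stalkMap_congr_hom (i ≫ f') (f ≫ j) sq.w, Scheme.Hom.stalkMap_comp]
  simp only [base, Category.assoc]

theorem base_surjective [IsClosedImmersion j] (sq : IsPullback i f f' j) (x : X) :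
    Function.Surjective (base sq x).hom := by
  exact (j.stalkMap_surjective (f x)).comp
    (ConcreteCategory.bijective_of_isIso (Y'.presheaf.stalkCongr (Inseparable.of_eq (eq_point sq x))).hom).2

theorem base_nilpotent (hj : IsThick j n) (sq : IsPullback i f f' j) (x : X) :
    RingHom.ker (base sq x).hom ^ n = ⊥ := by
  have hb := ConcreteCategory.bijective_of_isIso (Y'.presheaf.stalkCongr (Inseparable.of_eq (eq_point sq x))).hom
  refine (Ideal.map_eq_bot_iff_of_injective
    (f := (Y'.presheaf.stalkCongr (Inseparable.of_eq (eq_point sq x))).hom.hom) hb.1).1 ?_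
  rw [Ideal.map_pow, base, CommRingCat.hom_comp, ← RingHom.comap_ker, Ideal.map_comap_of_surjective _ hb.2]
  exact hj.nil (f x)

theorem ker_stalkMap_le_map_base [IsClosedImmersion j] (sq : IsPullback i f f' j) (x : X) :
    RingHom.ker (i.stalkMap x).hom ≤ (RingHom.ker (base sq x).hom).map (f'.stalkMap (i x)).hom := by
  haveI : IsClosedImmersion i := MorphismProperty.of_isPullback (P := @IsClosedImmersion) sq.flip ‹_›
  obtain ⟨U, hU, hxU, -⟩ := exists_isAffineOpen_mem_and_subset (x := f' (i x)) (U := ⊤) trivial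
  obtain ⟨V, hV, hxV, hle⟩ := exists_isAffineOpen_mem_and_subset (x := i x) (U := f' ⁻¹ᵁ U) hxU
  rw [RegImm26.ker_stalkMap_eq i x hV hxV, Deform4.ker_app_of_isPullback sq ⟨U, hU⟩ ⟨V, hV⟩ hle, Ideal.map_map,
    Ideal.map_le_iff_le_comap]
  intro a ha
  rw [RingHom.mem_ker] at ha
  have hg : X'.presheaf.germ V (i x) hxV (f'.appLE U V hle a) =
      f'.stalkMap (i x) (Y'.presheaf.germ U (f' (i x)) hxU a) := by
    rw [Scheme.Hom.germ_stalkMap_apply, Scheme.Hom.appLE, CommRingCat.comp_apply]
    exact X'.presheaf.germ_res_apply _ _ hxV _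
  change X'.presheaf.germ V (i x) hxV (f'.appLE U V hle a) ∈
    Ideal.map (f'.stalkMap (i x)).hom (RingHom.ker (base sq x).hom)
  rw [hg]
  refine Ideal.mem_map_of_mem _ ?_
  rw [RingHom.mem_ker, base, CommRingCat.comp_apply, TopCat.Presheaf.stalkCongr_hom,
    TopCat.Presheaf.germ_stalkSpecializes_apply, Scheme.Hom.germ_stalkMap_apply, ha, map_zero]

/-- The stalk complexes modulo the ideal of the base. -/
noncomputable def modData [IsClosedImmersion j] (sq : IsPullback i f f' j) (x : X) (R : CochainComplex X'.Modules ℤ) :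
    TorMod.ModData (base sq x).hom ((DerSch.stalkCxOver f' (i x)).obj R)
      ((DerSch.stalkCxOver f x).obj ((pbX i).obj R)) where
  π d :=
    { toFun := fun m => M2.stalkUnit i x (R.X d) m
      map_zero' := map_zero (M2.stalkUnit i x (R.X d))
      map_add' := fun a b => map_add (M2.stalkUnit i x (R.X d)) a b }
  map_smul d a m := by
    change M2.stalkUnit i x (R.X d) (f'.stalkMap (i x) a • (show ((R.X d).presheaf.stalk (i x) : Type u) from m)) =
      f.stalkMap x (base sq x a) • M2.stalkUnit i x (R.X d) m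
    rw [map_smul, ← CommRingCat.comp_apply, ← base_comm sq x]
    exact (algebraMap_smul (R := X'.presheaf.stalk (i x)) (A := X.presheaf.stalk x) _ _).symm
  comm p q m := (stalkUnit_natural i x (R.d p q) m).symm
  surj d := by
    haveI : IsClosedImmersion i := MorphismProperty.of_isPullback (P := @IsClosedImmersion) sq.flip ‹_›
    intro w
    obtain ⟨t, rfl⟩ := (M2.pullStalkEquiv i x (R.X d)).surjective w
    induction t using TensorProduct.induction_on with
    | zero => exact ⟨0, (map_zero (M2.stalkUnit i x (R.X d))).trans (map_zero (M2.pullStalkEquiv i x (R.X d))).symm⟩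
    | tmul s m =>
      obtain ⟨r, rfl⟩ := i.stalkMap_surjective x s
      refine ⟨r • (show ((R.X d).presheaf.stalk (i x) : Type u) from m), ?_⟩
      change M2.stalkUnit i x (R.X d) (r • (show ((R.X d).presheaf.stalk (i x) : Type u) from m)) = _
      refine (LinearMap.liftBaseChange_one_tmul (X.presheaf.stalk x) (M2.stalkUnit i x (R.X d)) _).symm.trans ?_
      refine congrArg (M2.pullStalkEquiv i x (R.X d)) ?_
      rw [TensorProduct.tmul_smul, TensorProduct.smul_tmul']
      exact congrArg (· ⊗ₜ m) ((Algebra.smul_def _ _).trans (mul_one _))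
    | add a b ha hb =>
      obtain ⟨p, hp⟩ := ha
      obtain ⟨q, hq⟩ := hb
      exact ⟨p + q, (map_add (M2.stalkUnit i x (R.X d)) p q).trans
        ((congrArg₂ (· + ·) hp hq).trans (map_add (M2.pullStalkEquiv i x (R.X d)) a b).symm)⟩
  ker_le d m hm := by
    haveI : IsClosedImmersion i := MorphismProperty.of_isPullback (P := @IsClosedImmersion) sq.flip ‹_›
    have h1 := FormalH7.tmul_one_eq_zero_mem (S := X.presheaf.stalk x) (i.stalkMap_surjective x)
      (show ((R.X d).presheaf.stalk (i x) : Type u) from m) ((M2.pullStalkEquiv i x (R.X d)).injective (by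
        rw [map_zero]
        exact (LinearMap.liftBaseChange_one_tmul (X.presheaf.stalk x) (M2.stalkUnit i x (R.X d)) _).trans hm))
    refine Submodule.smul_induction_on (p := fun z : ((R.X d).presheaf.stalk (i x) : Type u) =>
      (show ((DerSch.stalkCxOver f' (i x)).obj R).X d from z) ∈ RingHom.ker (base sq x).hom • (⊤ : Submodule _ _))
      h1 (fun r hr q _ => ?_) fun u v hu hv => Submodule.add_mem _ hu hv
    have hr' : r ∈ (RingHom.ker (base sq x).hom).map (f'.stalkMap (i x)).hom := ker_stalkMap_le_map_base sq x hr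
    revert q
    refine Submodule.span_induction (p := fun r _ => ∀ q : ((R.X d).presheaf.stalk (i x) : Type u), _ →
      (show ((DerSch.stalkCxOver f' (i x)).obj R).X d from r • q) ∈ RingHom.ker (base sq x).hom • (⊤ : Submodule _ _))
      ?_ ?_ ?_ ?_ hr'
    · rintro _ ⟨a, ha, rfl⟩ q -
      exact Submodule.smul_mem_smul (r := a) (n := (show ((DerSch.stalkCxOver f' (i x)).obj R).X d from q))
        ha Submodule.mem_top
    · intro q _
      rw [zero_smul]
      exact Submodule.zero_mem _
    · intro u v _ _ hu hv q hq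
      rw [add_smul]
      exact Submodule.add_mem _ (hu q hq) (hv q hq)
    · intro c u _ hu q _
      rw [smul_eq_mul, mul_comm, mul_smul]
      exact hu (c • q) trivial

/-- Tor amplitude over the thickened base, for an adapted bounded above complex. -/
theorem hasTorAmplitudeAt_of_thick (hj : IsThick j n) (sq : IsPullback i f f' j) [Flat f']
    {R : CochainComplex X'.Modules ℤ} (hR : IsAdapted R) (b' : ℤ) [R.IsStrictlyLE b'] (x : X) (a b : ℤ)
    (h : DerSch.HasTorAmplitudeAt f a b ((pbX i).obj R) x) : DerSch.HasTorAmplitudeAt f' a b R (i x) := by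
  haveI : Flat f := MorphismProperty.of_isPullback (P := @Flat) sq inferInstance
  have hflat : ∀ {S T : Scheme.{u}} (g : S ⟶ T) [Flat g] (M : S.Modules), KFlat.IsFlat (TX S) M →
      ∀ s : S, _root_.Module.Flat (T.presheaf.stalk (g s)) ((DerSch.stalkOver g s).obj M) := by
    intro S T g _ M hM s
    letI := (g.stalkMap s).hom.toAlgebra
    haveI : _root_.Module.Flat (T.presheaf.stalk (g s)) (S.presheaf.stalk s) := Flat.stalkMap g s
    haveI : _root_.Module.Flat (S.presheaf.stalk s) (M.presheaf.stalk s) := (isFlat_iff M).1 hM s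
    letI := Module.compHom (M.presheaf.stalk s : Type u) (g.stalkMap s).hom
    haveI : IsScalarTower (T.presheaf.stalk (g s)) (S.presheaf.stalk s) (M.presheaf.stalk s : Type u) :=
      IsScalarTower.of_algebraMap_smul fun _ _ => rfl
    exact Module.Flat.trans (T.presheaf.stalk (g s)) (S.presheaf.stalk s) (M.presheaf.stalk s : Type u)
  haveI : ((DerSch.stalkCxOver f' (i x)).obj R).IsStrictlyLE b' := (CochainComplex.isStrictlyLE_iff _ b').2
    fun k hk => (DerSch.stalkOver f' (i x)).map_isZero (R.isZero_of_isStrictlyLE b' k hk)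
  haveI : ((DerSch.stalkCxOver f x).obj ((pbX i).obj R)).IsStrictlyLE b' :=
    (CochainComplex.isStrictlyLE_iff _ b').2 fun k hk =>
      (DerSch.stalkOver f x).map_isZero ((Scheme.Modules.pullback i).map_isZero (R.isZero_of_isStrictlyLE b' k hk))
  haveI := hj.closed
  exact TorMod.hasTorAmplitudeIn_of_mod (base_surjective sq x) (base_nilpotent hj sq x) (modData sq x R) b'
    (fun d => hflat f' (R.X d) (hR.2.2 d) (i x))
    (fun d => hflat f _ (isFlat_pullback i (hR.2.2 d)) x) a b h

theorem locFiniteTorAmplitude_of_thick (hj : IsThick j n) (sq : IsPullback i f f' j) [Flat f']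
    [DCoh.HasLpull i] (E' : DCoh.D X') (hE' : ∀ m : ℤ, DCoh.IsPseudoCoherentD m E')
    {F : CochainComplex X.Modules ℤ} (eF : DCoh.toD X F ≅ (DCoh.Lpull i).obj E')
    (hF : DerSch.LocFiniteTorAmplitude f F) : DerSch.LocFiniteTorAmplitudeD f' E' := by
  haveI := hj.closed
  haveI : IsClosedImmersion i := MorphismProperty.of_isPullback (P := @IsClosedImmersion) sq.flip hj.closed
  haveI : Surjective j := ⟨hj.surj⟩
  haveI : Surjective i := MorphismProperty.of_isPullback (P := @Surjective) sq.flip ‹_›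
  intro F' ⟨eF'⟩ x'
  obtain ⟨x, rfl⟩ := Scheme.Hom.surjective i x'
  obtain ⟨U, a, b, hxU, hU⟩ := hF x
  obtain ⟨U', rfl⟩ := RelPCS8.exists_open_eq i U
  obtain ⟨V, hV, hxV, hVU⟩ := exists_isAffineOpen_mem_and_subset (x := i x) (U := U') hxU
  refine ⟨V, a, b, hxV, fun z' hz' => ?_⟩
  obtain ⟨z, rfl⟩ := Scheme.Hom.surjective i z'
  haveI : IsAffine V := hV
  let K := (DPerf.resD V.ι).obj E'
  obtain ⟨b', hb'⟩ := DPerf.exists_isLE_of_pseudoCoherent (m := 0) (K := K)
    (DPerf.isPseudoCoherentD_of_approx ((DPerf.approx_of_isPseudoCoherentD (hE' 0)).res V))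
  obtain ⟨R, hR, hRb, ⟨eR⟩⟩ := Thick.exists_strict_rep K b'
  haveI := hasLpull (i ∣_ V)
  obtain ⟨eV⟩ := Thick.nonempty_lpull_res (i := i) V E'
  let W := i ⁻¹ᵁ V
  let w : (W : Scheme.{u}) := ⟨z, hz'⟩
  have e₁ : DCoh.toD W ((DPerf.resX W.ι).obj F) ≅ DCoh.toD W ((pbX (i ∣_ V)).obj R) :=
    ((DPerf.resFac W.ι).app F).symm ≪≫ (DPerf.resD W.ι).mapIso eF ≪≫ eV ≪≫
      (DCoh.Lpull (i ∣_ V)).mapIso eR.symm ≪≫ lpullObjIso (i ∣_ V) R hR
  have h₀ := hasTorAmplitudeAt_congr (W.ι ≫ f) w e₁
    ((hasTorAmplitudeAt_res_iff W.ι f w a b F).2 (hU z (hVU hz')))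
  haveI : Flat (V.ι ≫ f') := inferInstance
  have h₁ := hasTorAmplitudeAt_of_thick hj ((RelPCS8.isPullback_open i V).paste_vert sq) hR b' w a b h₀
  have e₂ : DCoh.toD V R ≅ DCoh.toD V ((DPerf.resX V.ι).obj F') :=
    eR ≪≫ (DPerf.resD V.ι).mapIso eF'.symm ≪≫ (DPerf.resFac V.ι).app F'
  have h₂ := (hasTorAmplitudeAt_res_iff V.ι f' ((i ∣_ V) w) a b F').1
    (hasTorAmplitudeAt_congr (V.ι ≫ f') _ e₂ h₁)
  have hp : V.ι ((i ∣_ V) w) = i z := congrArg (fun t => t w) (morphismRestrict_ι i V)
  rwa [hp] at h₂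

theorem isThick_of_base (hj : IsThick j n) (sq : IsPullback i f f' j) : IsThick i n := by
  haveI := hj.closed
  haveI : Surjective j := ⟨hj.surj⟩
  haveI : Surjective i := MorphismProperty.of_isPullback (P := @Surjective) sq.flip ‹_›
  refine ⟨MorphismProperty.of_isPullback (P := @IsClosedImmersion) sq.flip hj.closed, Scheme.Hom.surjective i, fun x => ?_⟩
  have h := Ideal.pow_right_mono (ker_stalkMap_le_map_base sq x) n
  rw [← Ideal.map_pow, base_nilpotent hj sq x, Ideal.map_bot] at h
  exact le_bot_iff.1 h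

end Groth.Agent.RelPCS4.ThickTor
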