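import Groth.Agent.Lib.DBaseChange.TorTri

/-!
# Tensor products of bounded above flat complexes and maps that are isomorphisms in high degrees
-/

set_option autoImplicit false
set_option linter.style.haveILetI false

universe u

open CategoryTheory Limits CategoryTheory.Pretriangulated

attribute [local instance] HasDerivedCategory.standard

namespace Groth.Agent.RelPCS4.TorLevel

variable {R : Type u} [CommRing R]

open DBaseChange

/-- Homology isomorphism above `m` and epimorphism at `m`. -/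
def Level (m : ℤ) {A B : Dual.D R} (α : A ⟶ B) : Prop :=
  (∀ i : ℤ, m < i → IsIso ((DMod.HH i).map α)) ∧ Epi ((DMod.HH m).map α)

theorem level_of_isIso (m : ℤ) {A B : Dual.D R} (α : A ⟶ B) [IsIso α] : Level m α :=
  ⟨fun _ _ => inferInstance, inferInstance⟩

theorem Level.comp {m : ℤ} {A B C : Dual.D R} {α : A ⟶ B} {β : B ⟶ C} (h : Level m α) (h' : Level m β) :
    Level m (α ≫ β) := by
  refine ⟨fun i hi => ?_, ?_⟩
  · haveI := h.1 i hi
    haveI := h'.1 i hi
    rw [Functor.map_comp]
    infer_instance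
  · haveI := h.2
    haveI := h'.2
    rw [Functor.map_comp]
    infer_instance

/-- Tensor products in degrees above `m` only see a complex up to such maps. -/
theorem subsingleton_tm_iff {G W : DRing.Cx R} (c d : ℤ) [G.IsStrictlyLE c] [W.IsStrictlyLE d]
    (hG : ∀ i, _root_.Module.Flat R (G.X i)) (hW : ∀ i, _root_.Module.Flat R (W.X i)) {m : ℤ}
    (α : DRing.toD G ⟶ DRing.toD W) (hα : Level m α) (M : ModuleCat.{u} R) (i : ℤ) (hi : m < i) :
    Subsingleton (Dual.HD R (DRing.toD ((tm M).obj G)) i) ↔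
      Subsingleton (Dual.HD R (DRing.toD ((tm M).obj W)) i) := by
  haveI : (DRing.toD G).IsLE c := inferInstanceAs ((DerivedCategory.Q.obj G).IsLE c)
  obtain ⟨P, hP, hPf, ⟨eP⟩⟩ := DMod.exists_free_resolution (DRing.toD G) c
  have hPp : ∀ i, _root_.Module.Projective R (P.X i) := fun i => have := hPf i; inferInstance
  have := DMod.isKProjective c hPp
  obtain ⟨φ, hφ⟩ := DMod.exists_map_eq (eP.hom ≫ α)
  obtain ⟨g, h, hT⟩ := DMod.exists_cone_triangle φ
  have hC : (DRing.toD (CochainComplex.mappingCone φ)).IsLE (m - 1) := by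
    refine (DMod.cone_isLE_iff _ hT m).2 ?_
    change Level m (DerivedCategory.Q.map φ)
    rw [hφ]
    exact (level_of_isIso m eP.hom).comp hα
  have hcone := DMod.cone_isStrictlyLE φ c d (max c d) (by omega) (by omega)
  obtain ⟨C', hC', hC'f, ⟨eC⟩⟩ := DMod.exists_free_resolution (DRing.toD (CochainComplex.mappingCone φ)) (m - 1)
  have hCf : ∀ i, _root_.Module.Flat R ((CochainComplex.mappingCone φ).X i) :=
    DMod.cone_mem DMod.modClass_flat φ (flat_of_free hPf) hW
  obtain ⟨t⟩ := nonempty_tm_iso M (m - 1) (max c d) (flat_of_free hC'f) hCf eC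
  have hC'v : ∀ i, m - 1 < i → IsZero (((tm M).obj C').X i) := fun i hi =>
    Functor.map_isZero (MonoidalCategory.tensorRight M) (C'.isZero_of_isStrictlyLE (m - 1) i hi)
  haveI : ((tm M).obj C').IsStrictlyLE (m - 1) := (CochainComplex.isStrictlyLE_iff _ _).2 hC'v
  haveI : (DRing.toD ((tm M).obj C')).IsLE (m - 1) := inferInstanceAs ((DerivedCategory.Q.obj _).IsLE (m - 1))
  obtain ⟨e⟩ := nonempty_tm_cone_iso M φ
  have hLE : (DRing.toD (CochainComplex.mappingCone ((tm M).map φ))).IsLE (m - 1) :=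
    DMod.exists_iso_of_isLE _ (m - 1) (t ≪≫ DerivedCategory.Q.mapIso e)
  obtain ⟨g', h', hT'⟩ := DMod.exists_cone_triangle ((tm M).map φ)
  haveI : IsIso ((DMod.HH i).map (DerivedCategory.Q.map ((tm M).map φ))) :=
    ((DMod.cone_isLE_iff _ hT' m).1 hLE).1 i hi
  obtain ⟨t₀⟩ := nonempty_tm_iso M c c (flat_of_free hPf) hG eP
  refine ((DMod.HH i).mapIso t₀).toLinearEquiv.toEquiv.subsingleton_congr.symm.trans ?_
  exact (asIso ((DMod.HH i).map (DerivedCategory.Q.map ((tm M).map φ)))).toLinearEquiv.toEquiv.subsingleton_congr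

end Groth.Agent.RelPCS4.TorLevel
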