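import Groth.Agent.Lib.RelPCS4.FibreCx
import Groth.Agent.Lib.RelPCS4.TorLevel
import Groth.Agent.Lib.RelPCS4.ThickTor
import Groth.Agent.Lib.DPerf.Betti

/-!
# Tor amplitude over the base from the fibre
-/

set_option autoImplicit false
set_option linter.style.haveILetI false
set_option backward.isDefEq.respectTransparency false
set_option maxHeartbeats 1000000

universe u

open CategoryTheory Limits AlgebraicGeometry TopologicalSpace TensorProduct

attribute [local instance] HasDerivedCategory.standard

namespace Groth.Agent.RelPCS4.ChartFibre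

open FibreExact FibreCx

/-- The two models of the stalk functor agree. -/
noncomputable def stalkFunctorIso {X : Scheme.{u}} (x : X) : KFlat.Sch.stF x ≅ DerSch.stalkFunctor X x :=
  NatIso.ofComponents (fun _ => Iso.refl _) fun _ => rfl

/-- The stalks of a complex of tilde modules over the base. -/
noncomputable def stalkTildeIso {R B : CommRingCat.{u}} (g : Spec B ⟶ Spec R) (z : (Spec B : Scheme.{u}))
    (P : DRing.Cx B) :
    (DerSch.stalkCxOver g z).obj (((tilde.functor B).mapHomologicalComplex (ComplexShape.up ℤ)).obj P) ≅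
      locCx (StructureSheaf.toStalk B z).hom (g.stalkMap z).hom P :=
  let η : tilde.functor B ⋙ DerSch.stalkOver g z ≅
      ModuleCat.extendScalars (StructureSheaf.toStalk B z).hom ⋙ ModuleCat.restrictScalars.{u} (g.stalkMap z).hom :=
    (Functor.associator _ _ _).symm ≪≫ Functor.isoWhiskerRight
      (Functor.isoWhiskerLeft (tilde.functor B) (stalkFunctorIso z).symm ≪≫ KFlat.Sch.tildeStalkNatIso B z) _
  HomologicalComplex.Hom.isoOfComponents (fun d => η.app (P.X d))
    fun p q _ => (η.hom.naturality (P.d p q)).symm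

theorem exactAt_congr {A : Type u} [CommRing A] {K L : DRing.Cx A} (e : K ≅ L) (k : ℤ) :
    K.ExactAt k ↔ L.ExactAt k :=
  exactAt_iff_of_quasiIsoAt e.hom k

theorem act_map {B L : Type u} [CommRing B] [CommRing L] (χ : B →+* L) (T : Type u) [AddCommGroup T]
    [Module L T] [Module B T] (h : ∀ (b : B) (t : T), b • t = χ b • t) {m n : ℕ} (D : Matrix (Fin m) (Fin n) B) :
    ⇑(act T (D.map χ)) = ⇑(act T D) :=
  funext fun x => funext fun i => by simp [act_apply, h]

/-- Exactness over the base from exactness on one fibre, at all generalisations. -/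
theorem exactAt_of_fibre {R B : CommRingCat.{u}} (φ : R ⟶ B) (hfl : φ.hom.Flat)
    (hfp : φ.hom.FinitePresentation) (g : Spec B ⟶ Spec R) (hg : g = Spec.map φ) (P : DRing.Cx B)
    (hF : DRing.TermwiseFiniteFree P) (z z₀ : (Spec B : Scheme.{u})) (hz : z ⤳ z₀) (k : ℤ)
    (h₀ : ((DBaseChange.tm (ModuleCat.of ((Spec R).presheaf.stalk (g z₀))
        (IsLocalRing.ResidueField ((Spec R).presheaf.stalk (g z₀))))).obj
      ((DerSch.stalkCxOver g z₀).obj (((tilde.functor B).mapHomologicalComplex (ComplexShape.up ℤ)).obj P))).ExactAt k)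
    (M : ModuleCat.{u} ((Spec R).presheaf.stalk (g z))) :
    ((DBaseChange.tm M).obj
      ((DerSch.stalkCxOver g z).obj (((tilde.functor B).mapHomologicalComplex (ComplexShape.up ℤ)).obj P))).ExactAt k := by
  classical
  subst hg
  letI : Algebra R B := φ.hom.toAlgebra
  haveI : Module.Flat R B := hfl
  haveI : Algebra.FinitePresentation R B := hfp
  let n : ℤ → ℕ := fun j => have := (hF j).2; have := (hF j).1; Fintype.card (Module.Free.ChooseBasisIndex B (P.X j))
  let b : ∀ j, Module.Basis (Fin (n j)) B (P.X j) := fun j =>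
    have := (hF j).2; have := (hF j).1
    (Module.Free.chooseBasis B (P.X j)).reindex (Fintype.equivFin _)
  let D₁ := mat P b (k - 1) k
  let D₂ := mat P b k (k + 1)
  have hψ : ∀ (w : (Spec B : Scheme.{u})) (r : R), ((Spec.map φ).stalkMap w).hom
      ((StructureSheaf.toStalk R (PrimeSpectrum.comap φ.hom w)).hom r) = (StructureSheaf.toStalk B w).hom (φ r) :=
    fun w r => stalkMap_toStalk_apply φ w r
  let L₀ := ((Spec B).presheaf.stalk z₀ : Type u)
  let S₀ := ((Spec R).presheaf.stalk (Spec.map φ z₀) : Type u)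
  letI : Algebra B L₀ := (StructureSheaf.toStalk B z₀).hom.toAlgebra
  haveI : IsLocalization.AtPrime L₀ z₀.asIdeal :=
    (inferInstance : IsLocalization.AtPrime ((Spec.structureSheaf B).presheaf.stalk z₀) z₀.asIdeal)
  letI : Algebra R L₀ := ((StructureSheaf.toStalk B z₀).hom.comp φ.hom).toAlgebra
  haveI : IsScalarTower R B L₀ := IsScalarTower.of_algebraMap_eq fun _ => rfl
  letI : Algebra R S₀ := (StructureSheaf.toStalk R (PrimeSpectrum.comap φ.hom z₀)).hom.toAlgebra
  haveI hS₀ : IsLocalization (PrimeSpectrum.comap φ.hom z₀).asIdeal.primeCompl S₀ :=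
    (inferInstance : IsLocalization.AtPrime ((Spec.structureSheaf R).presheaf.stalk (PrimeSpectrum.comap φ.hom z₀))
      (PrimeSpectrum.comap φ.hom z₀).asIdeal)
  let κ := ModuleCat.of S₀ (IsLocalRing.ResidueField S₀)
  have h₁ := (exactAt_tm_locCx_iff (R := R) (B := B) (S := S₀) (L := L₀) (PrimeSpectrum.comap φ.hom z₀).asIdeal.primeCompl
    (StructureSheaf.toStalk B z₀).hom ((Spec.map φ).stalkMap z₀).hom (fun r => (hψ z₀ r).symm) P b κ k).1
    ((exactAt_congr ((DBaseChange.tm κ).mapIso (stalkTildeIso (Spec.map φ) z₀ P)) k).1 h₀)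
  have h₁' : Function.Exact (act (L₀ ⊗[R] IsLocalRing.ResidueField S₀) D₁)
      (act (L₀ ⊗[R] IsLocalRing.ResidueField S₀) D₂) := by
    rw [← act_map (algebraMap B L₀) _ (fun b t => (algebraMap_smul L₀ b t).symm) D₁,
      ← act_map (algebraMap B L₀) _ (fun b t => (algebraMap_smul L₀ b t).symm) D₂]
    exact h₁
  have h₂ := exAt_of_exact_act (A := R) z₀.asIdeal L₀ (IsLocalRing.ResidueField S₀) h₁'
  let p := z₀.asIdeal.under R
  haveI : IsLocalization p.primeCompl S₀ := hS₀
  let e₀ : S₀ ≃ₐ[R] Localization.AtPrime p := IsLocalization.algEquiv p.primeCompl S₀ _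
  let η : IsLocalRing.ResidueField S₀ ≃ₗ[R] p.ResidueField :=
    { (IsLocalRing.ResidueField.mapEquiv e₀.toRingEquiv).toAddEquiv with
      map_smul' := fun r t => by
        obtain ⟨t, rfl⟩ := IsLocalRing.residue_surjective t
        change IsLocalRing.ResidueField.mapEquiv e₀.toRingEquiv (r • IsLocalRing.residue S₀ t) =
          r • IsLocalRing.ResidueField.mapEquiv e₀.toRingEquiv (IsLocalRing.residue S₀ t)
        rw [Algebra.smul_def, Algebra.smul_def, map_mul]
        congr 1
        exact congrArg (IsLocalRing.residue (Localization.AtPrime p)) (e₀.commutes r) }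
  let τ : B ⊗[R] IsLocalRing.ResidueField S₀ ≃ₗ[R] p.ResidueField ⊗[R] B :=
    (TensorProduct.congr (LinearEquiv.refl R B) η).trans (TensorProduct.comm R _ _)
  have hτ : ∀ (b : B) t, τ.toAddMonoidHom (b • t) = toFibre R B p b • τ.toAddMonoidHom t := fun b t => by
    induction t using TensorProduct.induction_on with
    | zero => simp
    | tmul c t => simp [τ, TensorProduct.smul_tmul', Algebra.TensorProduct.tmul_mul_tmul]
    | add u v hu hv => simp only [smul_add, map_add, hu, hv]
  have hfib : FibEx (A := R) z₀.asIdeal D₁ D₂ := by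
    intro x hx
    obtain ⟨x, rfl⟩ : ∃ x', τ.toAddMonoidHom ∘ x' = x := ⟨τ.symm ∘ x, funext fun i => τ.apply_symm_apply (x i)⟩
    rw [act_natural (toFibre R B p) τ.toAddMonoidHom hτ] at hx
    obtain ⟨s, hs, y, hy⟩ := h₂ x (funext fun i => τ.injective (by simpa using congrFun hx i))
    refine ⟨s, hs, τ.toAddMonoidHom ∘ y, (act_natural (toFibre R B p) τ.toAddMonoidHom hτ D₁ y).trans ?_⟩
    rw [hy]
    exact funext fun i => hτ s (x i)
  let L := ((Spec B).presheaf.stalk z : Type u)
  let S := ((Spec R).presheaf.stalk (Spec.map φ z) : Type u)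
  letI : Algebra B L := (StructureSheaf.toStalk B z).hom.toAlgebra
  haveI : IsLocalization.AtPrime L z.asIdeal :=
    (inferInstance : IsLocalization.AtPrime ((Spec.structureSheaf B).presheaf.stalk z) z.asIdeal)
  letI : Algebra R L := ((StructureSheaf.toStalk B z).hom.comp φ.hom).toAlgebra
  haveI : IsScalarTower R B L := IsScalarTower.of_algebraMap_eq fun _ => rfl
  letI : Algebra R S := (StructureSheaf.toStalk R (PrimeSpectrum.comap φ.hom z)).hom.toAlgebra
  haveI hS : IsLocalization (PrimeSpectrum.comap φ.hom z).asIdeal.primeCompl S :=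
    (inferInstance : IsLocalization.AtPrime ((Spec.structureSheaf R).presheaf.stalk (PrimeSpectrum.comap φ.hom z))
      (PrimeSpectrum.comap φ.hom z).asIdeal)
  letI : Module R M := Module.compHom M (algebraMap R S)
  haveI : IsScalarTower R S M := IsScalarTower.of_algebraMap_smul fun _ _ => rfl
  have h₃ : ExAt z.asIdeal (B ⊗[R] M) D₁ D₂ := fun x hx => by
    obtain ⟨s, hs, y⟩ := exAt_of_fibEx z₀.asIdeal (mat_mul_mat P b _ _ _) hfib M x hx
    exact ⟨s, fun hm => hs ((PrimeSpectrum.le_iff_specializes z z₀).2 hz hm), y⟩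
  have h₄ := exact_act_of_exAt (A := R) z.asIdeal L M (mat_mul_mat P b _ _ _) h₃
  rw [← act_map (algebraMap B L) _ (fun b t => (algebraMap_smul L b t).symm) D₁,
    ← act_map (algebraMap B L) _ (fun b t => (algebraMap_smul L b t).symm) D₂] at h₄
  exact (exactAt_congr ((DBaseChange.tm M).mapIso (stalkTildeIso (Spec.map φ) z P)) k).2
    ((exactAt_tm_locCx_iff (R := R) (B := B) (S := S) (L := L) (PrimeSpectrum.comap φ.hom z).asIdeal.primeCompl
      (StructureSheaf.toStalk B z).hom ((Spec.map φ).stalkMap z).hom (fun r => (hψ z r).symm) P b M k).2 h₄)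

end Groth.Agent.RelPCS4.ChartFibre
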