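import Groth.Agent.Lib.RelPCS4.ChartFibre
import Mathlib.AlgebraicGeometry.PullbackCarrier
import Mathlib.AlgebraicGeometry.Morphisms.Proper
import Mathlib.AlgebraicGeometry.Morphisms.FinitePresentation

/-!
# Tor amplitude from a closed subset of the base meeting all closed points
-/

set_option autoImplicit false
set_option linter.style.haveILetI false
set_option backward.isDefEq.respectTransparency false
set_option maxHeartbeats 1000000

universe u

open CategoryTheory Limits AlgebraicGeometry TopologicalSpace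

attribute [local instance] HasDerivedCategory.standard

namespace Groth.Agent.RelPCS4.ChartTor

open KFlat.Sch DBaseChange TorLevel Thick

theorem dcond_of_level {Z : Scheme.{u}} {A B : DCoh.D Z} (α : A ⟶ B) (m : ℤ)
    (hiso : ∀ i, m < i → IsIso ((DerivedCategory.homologyFunctor Z.Modules i).map α))
    (hepi : Epi ((DerivedCategory.homologyFunctor Z.Modules m).map α)) : DPerf.DCond (Set.Ici m) α := fun i hi => by
  refine ⟨?_, have := hiso (i + 1) (by have : m ≤ i := hi; omega); inferInstance⟩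
  rcases eq_or_lt_of_le (show m ≤ i from hi) with h | h
  · exact h ▸ hepi
  · have := hiso i h; infer_instance

theorem isIso_of_dcond {C : Type*} [Category* C] [Abelian C] [HasDerivedCategory C] {A B : DerivedCategory C}
    {α : A ⟶ B} {m : ℤ} (h : DPerf.DCond (Set.Ici m) α) (i : ℤ) (hi : m < i) :
    IsIso ((DerivedCategory.homologyFunctor C i).map α) := by
  have h1 := (h i (show m ≤ i by omega)).1
  have h2 := (h (i - 1) (show m ≤ i - 1 by omega)).2
  rw [sub_add_cancel] at h2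
  exact isIso_of_mono_of_epi _

/-- Maps that are isomorphisms in high degrees stay so on stalks. -/
theorem exists_level_stalk {Z T : Scheme.{u}} (g : Z ⟶ T) (z : Z) {A B : CochainComplex Z.Modules ℤ} {m : ℤ}
    {β : DCoh.toD Z A ⟶ DCoh.toD Z B} (hβ : DPerf.DCond (Set.Ici m) β) :
    ∃ γ : DRing.toD ((DerSch.stalkCxOver g z).obj A) ⟶ DRing.toD ((DerSch.stalkCxOver g z).obj B),
      Level m γ := by
  haveI := (RelPCS8.StalkId.preservesFiniteLimits_stalkOver g z).1
  haveI := (RelPCS8.StalkId.preservesFiniteLimits_stalkOver g z).2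
  let e := (DerSch.stalkOver g z).mapDerivedCategoryFactors
  refine ⟨(e.app A).inv ≫ (DerSch.stalkOver g z).mapDerivedCategory.map β ≫ (e.app B).hom,
    (level_of_isIso m _).comp (Level.comp ⟨fun i hi => ?_, ?_⟩ (level_of_isIso m _))⟩
  · exact isIso_of_dcond (DPerf.dcond_map (DerSch.stalkOver g z) hβ) i hi
  · exact (DPerf.dcond_map (DerSch.stalkOver g z) hβ m (le_refl m)).1

theorem flat_stalk {Z T : Scheme.{u}} (g : Z ⟶ T) [Flat g] (M : Z.Modules) (hM : KFlat.IsFlat (TX Z) M) (z : Z) :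
    _root_.Module.Flat (T.presheaf.stalk (g z)) ((DerSch.stalkOver g z).obj M) := by
  letI := (g.stalkMap z).hom.toAlgebra
  haveI : _root_.Module.Flat (T.presheaf.stalk (g z)) (Z.presheaf.stalk z) := Flat.stalkMap g z
  haveI : _root_.Module.Flat (Z.presheaf.stalk z) (M.presheaf.stalk z) := (isFlat_iff M).1 hM z
  letI := Module.compHom (M.presheaf.stalk z : Type u) (g.stalkMap z).hom
  haveI : IsScalarTower (T.presheaf.stalk (g z)) (Z.presheaf.stalk z) (M.presheaf.stalk z : Type u) :=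
    IsScalarTower.of_algebraMap_smul fun _ _ => rfl
  exact Module.Flat.trans (T.presheaf.stalk (g z)) (Z.presheaf.stalk z) (M.presheaf.stalk z : Type u)

variable {R : CommRingCat.{u}} {X Y : Scheme.{u}} (f : X ⟶ Spec R) (ι : Y ⟶ Spec R)

/-- A flat model of the stalk in degrees above `m`, acyclic after tensoring outside the interval. -/
theorem local_data [Flat f] [LocallyOfFinitePresentation f] [IsClosedImmersion ι]
    [DCoh.HasLpull (pullback.fst f ι)] {E : DCoh.D X} (F : CochainComplex X.Modules ℤ) (eF : DCoh.toD X F ≅ E)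
    (hE : ∀ m : ℤ, DCoh.IsPseudoCoherentD m E) (F₀ : CochainComplex (pullback f ι).Modules ℤ)
    (e₀ : DCoh.toD _ F₀ ≅ (DCoh.Lpull (pullback.fst f ι)).obj E) {a b : ℤ}
    (hF₀ : ∀ w, DerSch.HasTorAmplitudeAt (pullback.snd f ι) a b F₀ w)
    (x : X) (x₀ : (pullback f ι : Scheme.{u})) (hx : x ⤳ (pullback.fst f ι) x₀) (m : ℤ) :
    ∃ (c : ℤ) (G : DRing.Cx ((Spec R).presheaf.stalk (f x))) (_ : G.IsStrictlyLE c)
      (γ : DRing.toD G ⟶ DRing.toD ((DerSch.stalkCxOver f x).obj F)),
      (∀ i, _root_.Module.Flat ((Spec R).presheaf.stalk (f x)) (G.X i)) ∧ Level m γ ∧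
        ∀ (M : ModuleCat.{u} ((Spec R).presheaf.stalk (f x))) (i : ℤ), m < i → (i < a ∨ b < i) →
          Subsingleton (Dual.HD _ (DRing.toD ((tm M).obj G)) i) := by
  let i₀ := pullback.fst f ι
  obtain ⟨B, j, hj, P, c₀, c, hxr, hv, hPf, α, hα⟩ :=
    DPerf.exists_free_chart (DPerf.approx_of_isPseudoCoherentD (hE m)) (i₀ x₀)
  obtain ⟨z₀, hz₀⟩ := hxr
  obtain ⟨z, rfl⟩ : x ∈ Set.range j := hx.mem_open j.isOpenEmbedding.isOpen_range ⟨z₀, hz₀⟩
  have hz : z ⤳ z₀ := j.isOpenEmbedding.isInducing.specializes_iff.1 (hz₀ ▸ hx)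
  let g := j ≫ f
  obtain ⟨φ, hφ⟩ : ∃ φ : R ⟶ B, g = Spec.map φ := ⟨Spec.preimage g, (Spec.map_preimage g).symm⟩
  have hfl : φ.hom.Flat := (HasRingHomProperty.Spec_iff (P := @Flat)).1 (hφ ▸ inferInstanceAs (Flat (j ≫ f)))
  have hfp : φ.hom.FinitePresentation := (HasRingHomProperty.Spec_iff (P := @LocallyOfFinitePresentation)).1
    (hφ ▸ inferInstanceAs (LocallyOfFinitePresentation (j ≫ f)))
  let T : CochainComplex (Spec B).Modules ℤ := ((tilde.functor B).mapHomologicalComplex (ComplexShape.up ℤ)).obj P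
  have hTflat : ∀ d, KFlat.IsFlat (TX (Spec B)) (T.X d) := fun d =>
    (isFlat_iff _).2 (have := (hPf d).2; DPerf.isFlat_tilde (N := P.X d))
  haveI hTle : T.IsStrictlyLE c := (CochainComplex.isStrictlyLE_iff _ c).2 fun d hd =>
    (tilde.functor B).map_isZero (hv d (Or.inr hd))
  have hA := isAdapted_of_boundedAbove T c hTflat
  -- the stalk model
  let e : (DerSch.stalkCxOver g z).obj ((DPerf.resX j).obj F) ≅ (DerSch.stalkCxOver f (j z)).obj F :=
    HomologicalComplex.Hom.isoOfComponents (fun d => (ThickTor.stalkOverResIso j f z).app (F.X d))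
      fun p q _ => ((ThickTor.stalkOverResIso j f z).hom.naturality (F.d p q)).symm
  let β : DCoh.toD (Spec B) T ⟶ DCoh.toD (Spec B) ((DPerf.resX j).obj F) :=
    α ≫ (DPerf.resD j).map eF.inv ≫ (DPerf.resFac j).hom.app F
  have hβ : DPerf.DCond (Set.Ici m) β :=
    hα.comp ((DPerf.dcond_of_isIso _).comp (DPerf.dcond_of_isIso _))
  obtain ⟨γ, hγ⟩ := exists_level_stalk g z hβ
  haveI : ((DerSch.stalkCxOver g z).obj T).IsStrictlyLE c := (CochainComplex.isStrictlyLE_iff _ c).2 fun d hd =>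
    (DerSch.stalkOver g z).map_isZero (T.isZero_of_isStrictlyLE c d hd)
  refine ⟨c, (DerSch.stalkCxOver g z).obj T, inferInstance, γ ≫ DerivedCategory.Q.map e.hom,
    fun d => flat_stalk g (T.X d) (hTflat d) z, hγ.comp (level_of_isIso m _), fun M k hk hab => ?_⟩
  rw [DMod.subsingleton_HD_toD_iff, ← DMod.exactAt_iff_subsingleton]
  -- the fibre
  obtain ⟨w, hw₁, hw₂⟩ := Scheme.Pullback.exists_preimage_pullback (f := i₀) (g := j) x₀ z₀ hz₀.symm
  let i' := pullback.snd i₀ j
  let j₀ := pullback.fst i₀ j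
  obtain rfl : i' w = z₀ := hw₂
  refine ChartFibre.exactAt_of_fibre φ hfl hfp g hφ P hPf z (i' w) hz k ?_ M
  have sq : IsPullback i' (j₀ ≫ pullback.snd f ι) g ι :=
    (IsPullback.of_hasPullback i₀ j).flip.paste_vert (IsPullback.of_hasPullback f ι)
  haveI : IsClosedImmersion i' := MorphismProperty.of_isPullback (P := @IsClosedImmersion) sq.flip ‹_›
  haveI := hasLpull i'
  obtain ⟨ec⟩ := DQC.nonempty_chart_iso i₀ j j₀ i' (pullback.condition).symm E
  let α' := (lpullObjIso i' T hA).inv ≫ (DCoh.Lpull i').map α ≫ ec.inv ≫ (DPerf.resD j₀).map e₀.inv ≫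
    (DPerf.resFac j₀).hom.app F₀
  have hα' : DPerf.DCond (Set.Ici m) α' := by
    obtain ⟨h1, h2⟩ := homology_lpull_map i' α m (isIso_of_dcond hα) (hα m (le_refl m)).1
    exact (DPerf.dcond_of_isIso _).comp ((dcond_of_level _ m h1 h2).comp
      ((DPerf.dcond_of_isIso _).comp ((DPerf.dcond_of_isIso _).comp (DPerf.dcond_of_isIso _))))
  obtain ⟨γ₀, hγ₀⟩ := exists_level_stalk (j₀ ≫ pullback.snd f ι) w hα'
  obtain ⟨E₀, hE₀, hE₀f, ⟨eE₀⟩⟩ :=
    (ThickTor.hasTorAmplitudeAt_res_iff j₀ (pullback.snd f ι) w a b F₀).2 (hF₀ (j₀ w))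
  haveI : Flat g := inferInstanceAs (Flat (j ≫ f))
  haveI : Flat (j₀ ≫ pullback.snd f ι) := MorphismProperty.of_isPullback (P := @Flat) sq inferInstance
  refine TorMod.exactAt_of_kills (ThickTor.base_surjective sq w) (ThickTor.modData sq w T) _ (fun s hs t => ?_) k
    fun N => ?_
  · obtain ⟨t, rfl⟩ := IsLocalRing.residue_surjective t
    have hs' : s ∈ IsLocalRing.maximalIdeal ((Spec R).presheaf.stalk (g (i' w))) := by
      rw [IsLocalRing.mem_maximalIdeal]
      intro hu
      exact not_isUnit_zero ((RingHom.mem_ker.1 hs) ▸ hu.map (ThickTor.base sq w).hom)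
    change s • IsLocalRing.residue _ t = 0
    rw [Algebra.smul_def, IsLocalRing.ResidueField.algebraMap_eq,
      (IsLocalRing.residue_eq_zero_iff s).2 hs', zero_mul]
  · haveI : ((DerSch.stalkCxOver (j₀ ≫ pullback.snd f ι) w).obj ((pbX i').obj T)).IsStrictlyLE c :=
      (CochainComplex.isStrictlyLE_iff _ c).2 fun d hd => (DerSch.stalkOver _ w).map_isZero
        ((Scheme.Modules.pullback i').map_isZero (T.isZero_of_isStrictlyLE c d hd))
    haveI := ((DMod.vanishesOutside_iff E₀ a b).1 hE₀).2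
    rw [DMod.exactAt_iff_subsingleton, ← DMod.subsingleton_HD_toD_iff]
    refine (subsingleton_tm_iff c b (fun d => flat_stalk _ _ (isFlat_pullback i' (hTflat d)) w) hE₀f
      (γ₀ ≫ eE₀.inv) (hγ₀.comp (level_of_isIso m _)) N k hk).2 ?_
    rw [DMod.subsingleton_HD_toD_iff, ← DMod.exactAt_iff_subsingleton]
    exact HomologicalComplex.ExactAt.of_isZero (vanishesOutside_tm N hE₀ k hab)

theorem locFiniteTorAmplitude_of_closed [IsProper f] [Flat f] [LocallyOfFinitePresentation f]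
    [IsClosedImmersion ι] (hι : ∀ y : (Spec R : Scheme.{u}), IsClosed ({y} : Set (Spec R : Scheme.{u})) →
      y ∈ Set.range ι)
    [DCoh.HasLpull (pullback.fst f ι)] (E : DCoh.D X) (hE : ∀ m : ℤ, DCoh.IsPseudoCoherentD m E)
    (F₀ : CochainComplex (pullback f ι).Modules ℤ)
    (e₀ : DCoh.toD _ F₀ ≅ (DCoh.Lpull (pullback.fst f ι)).obj E)
    (hF₀ : DerSch.LocFiniteTorAmplitude (pullback.snd f ι) F₀) : DerSch.LocFiniteTorAmplitudeD f E := by
  intro F ⟨eF⟩ x'
  haveI : CompactSpace X := QuasiCompact.compactSpace_of_compactSpace f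
  haveI : CompactSpace (pullback f ι : Scheme.{u}) := QuasiCompact.compactSpace_of_compactSpace (pullback.fst f ι)
  obtain ⟨a, b, hab⟩ : ∃ a b : ℤ, ∀ w, DerSch.HasTorAmplitudeAt (pullback.snd f ι) a b F₀ w := by
    choose U aa bb hU hamp using hF₀
    obtain ⟨t, ht⟩ := isCompact_univ.elim_finite_subcover (fun w => (U w : Set (pullback f ι : Scheme.{u})))
      (fun w => (U w).2) fun w _ => Set.mem_iUnion.2 ⟨w, hU w⟩
    refine ⟨-(t.sup fun w => (aa w).natAbs : ℕ), (t.sup fun w => (bb w).natAbs : ℕ), fun w => ?_⟩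
    obtain ⟨v, hv, hwv⟩ := Set.mem_iUnion₂.1 (ht (Set.mem_univ w))
    have h1 := Finset.le_sup (f := fun w => (aa w).natAbs) hv
    have h2 := Finset.le_sup (f := fun w => (bb w).natAbs) hv
    exact hasTorAmplitudeIn_mono (by omega) (by omega) (hamp v w hwv)
  refine ⟨⊤, a, b, trivial, fun x _ => ?_⟩
  obtain ⟨x₁, hx₁, hx₁c⟩ := (isClosed_closure (s := ({x} : Set X))).exists_closed_singleton
    ⟨x, subset_closure rfl⟩
  obtain ⟨y, hy⟩ := hι (f x₁) (by simpa using f.isClosedMap _ hx₁c)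
  obtain ⟨x₀, hx₀, -⟩ := Scheme.Pullback.exists_preimage_pullback (f := f) (g := ι) x₁ y hy.symm
  have hx : x ⤳ (pullback.fst f ι) x₀ := by
    rw [hx₀]
    exact specializes_iff_mem_closure.2 hx₁
  have data := local_data f ι F eF hE F₀ e₀ hab x x₀ hx
  obtain ⟨c, G, hGc, γ, -, hγ, -⟩ := data 0
  haveI := hGc
  haveI : (DRing.toD G).IsLE c := inferInstanceAs ((DerivedCategory.Q.obj G).IsLE c)
  haveI : (DRing.toD ((DerSch.stalkCxOver f x).obj F)).IsLE (max c 0) := (DMod.isLE_iff _ _).2 fun i hi => by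
    haveI := hγ.1 i (by omega)
    exact (asIso ((DMod.HH i).map γ)).toLinearEquiv.toEquiv.subsingleton_congr.1
      ((DMod.isLE_iff _ c).1 inferInstance i (by omega))
  obtain ⟨P, hP, hPf, ⟨eP⟩⟩ := DMod.exists_free_resolution (DRing.toD ((DerSch.stalkCxOver f x).obj F)) (max c 0)
  have key : ∀ (M : ModuleCat.{u} ((Spec R).presheaf.stalk (f x))) (i : ℤ), (i < a ∨ b < i) →
      Subsingleton (Dual.HD _ (DRing.toD ((tm M).obj P)) i) := fun M i hi => by
    obtain ⟨c', G', hG', γ', hflat, hγ', hvan⟩ := data (i - 1)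
    haveI := hG'
    exact (subsingleton_tm_iff c' (max c 0) hflat (flat_of_free hPf) (γ' ≫ eP.inv)
      (hγ'.comp (level_of_isIso _ _)) M i (by omega)).1 (hvan M i (by omega) hi)
  exact hasTorAmplitudeIn_of_iso eP (hasTorAmplitudeIn_of_torBound P (max c 0) (flat_of_free hPf) a b fun M =>
    ⟨(DMod.isGE_iff _ a).2 fun i hi => key M i (Or.inl hi), (DMod.isLE_iff _ b).2 fun i hi => key M i (Or.inr hi)⟩)

end Groth.Agent.RelPCS4.ChartTor
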