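import Groth.Agent.Lib.RelPCS4.FlatBC
import Groth.Agent.Lib.DBaseChange.Descent
import Groth.Agent.Lib.DPerf.Tilde
import Groth.Agent.Lib.DQC.Affine
import Mathlib.RingTheory.TensorProduct.Quotient

/-!
# Descent of pseudo-coherence along flat families over affine schemes
-/

set_option autoImplicit false
set_option linter.style.haveILetI false
set_option backward.isDefEq.respectTransparency false

universe u

open CategoryTheory Limits AlgebraicGeometry Opposite TopologicalSpace TensorProduct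

attribute [local instance] HasDerivedCategory.standard

namespace Groth.Agent.RelPCS4

/-- A flat family covering the spectrum detects vanishing and finiteness. -/
theorem jointlyFF_of_cover {A : Type u} [CommRing A] {ι : Type*} [Finite ι] {B : ι → Type u} [∀ j, CommRing (B j)]
    (φ : ∀ j, A →+* B j) (hflat : ∀ j, (φ j).Flat)
    (hcov : ∀ p : PrimeSpectrum A, ∃ j, p ∈ Set.range (PrimeSpectrum.comap (φ j))) :
    DBaseChange.JointlyFF φ := by
  have hsub : ∀ M : ModuleCat.{u} A,
      (∀ j, Subsingleton ((ModuleCat.extendScalars.{u, u, u} (φ j)).obj M)) → Subsingleton M := by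
    intro M hM
    refine subsingleton_of_forall_eq 0 fun x => by_contra fun hx => ?_
    let g : A →ₗ[A] M := LinearMap.toSpanSingleton A M x
    have hI : LinearMap.ker g ≠ ⊤ := fun h => hx (by
      have : g 1 = 0 := LinearMap.mem_ker.1 (h ▸ Submodule.mem_top)
      simpa [g] using this)
    obtain ⟨𝔭, h𝔭, hle⟩ := Ideal.exists_le_maximal _ hI
    obtain ⟨j, q, hq⟩ := hcov ⟨𝔭, h𝔭.isPrime⟩
    letI := (φ j).toAlgebra
    haveI : Module.Flat A (B j) := hflat j
    haveI : Subsingleton (B j ⊗[A] M) := hM j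
    haveI : Subsingleton (B j ⊗[A] (A ⧸ LinearMap.ker g)) :=
      (Module.Flat.lTensor_preserves_injective_linearMap (M := B j) ((LinearMap.ker g).liftQ g le_rfl)
        (LinearMap.ker_eq_bot.1 (Submodule.ker_liftQ_eq_bot _ _ _ le_rfl))).subsingleton
    haveI := (Algebra.TensorProduct.quotIdealMapEquivTensorQuot (B j) (LinearMap.ker g : Ideal A)).toEquiv.subsingleton
    have htop : Ideal.map (algebraMap A (B j)) (LinearMap.ker g : Ideal A) = ⊤ :=
      Ideal.Quotient.subsingleton_iff.1 inferInstance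
    refine q.isPrime.ne_top (top_le_iff.1 (htop.ge.trans (Ideal.map_le_iff_le_comap.2 ?_)))
    change _ ≤ (PrimeSpectrum.comap (φ j) q).asIdeal
    rw [hq]
    exact hle
  refine ⟨hflat, hsub, fun M hM => ?_⟩
  classical
  have hgen : ∀ j, ∃ s : Finset M, Submodule.span (B j)
      ((fun m : M => (letI := (φ j).toAlgebra; (1 : B j) ⊗ₜ[A] m)) '' (s : Set M)) =
        (letI := (φ j).toAlgebra; (⊤ : Submodule (B j) (B j ⊗[A] M))) := by
    intro j
    letI := (φ j).toAlgebra
    haveI : Module.Finite (B j) (B j ⊗[A] M) := hM j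
    obtain ⟨t, ht⟩ := Module.finite_def.1 (inferInstance : Module.Finite (B j) (B j ⊗[A] M))
    choose S hS using fun x : B j ⊗[A] M => TensorProduct.exists_finset (R := A) x
    refine ⟨t.biUnion fun x => (S x).image Prod.snd, eq_top_iff.2 (ht ▸ Submodule.span_le.2 fun x hx => ?_)⟩
    rw [SetLike.mem_coe, hS x]
    refine Submodule.sum_mem _ fun p hp => ?_
    rw [show p.1 ⊗ₜ[A] p.2 = p.1 • ((1 : B j) ⊗ₜ[A] p.2) by rw [TensorProduct.smul_tmul', smul_eq_mul, mul_one]]
    exact Submodule.smul_mem _ _ (Submodule.subset_span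
      ⟨p.2, Finset.mem_biUnion.2 ⟨x, hx, Finset.mem_image_of_mem _ hp⟩, rfl⟩)
  choose s hs using hgen
  haveI := Fintype.ofFinite ι
  let N : Submodule A M := Submodule.span A ((Finset.univ.biUnion s : Finset M) : Set M)
  haveI : Subsingleton (M ⧸ N) := by
    refine hsub (ModuleCat.of A (M ⧸ N)) fun j => ?_
    letI := (φ j).toAlgebra
    change Subsingleton (B j ⊗[A] (M ⧸ N))
    refine subsingleton_of_forall_eq 0 fun y => ?_
    obtain ⟨z, rfl⟩ := LinearMap.lTensor_surjective (B j) N.mkQ_surjective y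
    have hz : z ∈ Submodule.span (B j) ((fun m : M => (1 : B j) ⊗ₜ[A] m) '' (s j : Set M)) := hs j ▸ Submodule.mem_top
    induction hz using Submodule.span_induction with
    | mem w hw =>
      obtain ⟨m, hm, rfl⟩ := hw
      rw [LinearMap.lTensor_tmul, (Submodule.Quotient.mk_eq_zero N).2
        (Submodule.subset_span (Finset.mem_biUnion.2 ⟨j, Finset.mem_univ j, hm⟩)) |> fun h => (show N.mkQ m = 0 from h),
        TensorProduct.tmul_zero]
    | zero => exact map_zero _
    | add a b _ _ ha hb => rw [map_add, ha, hb, add_zero]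
    | smul c a _ ha =>
      have : (AlgebraTensorModule.lTensor (B j) (B j) N.mkQ) (c • a) = 0 := by
        rw [map_smul, show (AlgebraTensorModule.lTensor (B j) (B j) N.mkQ) a = 0 from ha, smul_zero]
      exact this
  have hN : N = ⊤ := Submodule.Quotient.subsingleton_iff.1 inferInstance
  exact Module.finite_def.2 (hN ▸ Submodule.fg_span (Finset.finite_toSet _))

/-- Pullback of `tilde`, termwise. -/
noncomputable def tildePullX {A B : CommRingCat.{u}} (φ : A ⟶ B) (K : DRing.Cx A) :
    (pullX (Spec.map φ)).obj ((DPerf.tildeX A).obj K) ≅ (DPerf.tildeX B).obj ((DBaseChange.extCx φ.hom).obj K) :=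
  HomologicalComplex.Hom.isoOfComponents (fun n => (M1.tildePullbackIso φ).app (K.X n))
    (fun n l _ => ((M1.tildePullbackIso φ).hom.naturality (K.d n l)).symm)

/-- Flat pullback of `tilde`. -/
theorem nonempty_tilde_pullD {A B : CommRingCat.{u}} (φ : A ⟶ B) [Flat (Spec.map φ)] (K : DRing.Cx A) :
    Nonempty ((pullD (Spec.map φ)).obj ((DPerf.tildeDD A).obj (DRing.toD K)) ≅
      (DPerf.tildeDD B).obj (DRing.toD ((DBaseChange.extCx φ.hom).obj K))) :=
  ⟨(pullD (Spec.map φ)).mapIso ((tilde.functor A).mapDerivedCategoryFactors.app K) ≪≫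
    (pullFac (Spec.map φ)).app _ ≪≫
    DerivedCategory.Q.mapIso (tildePullX φ K) ≪≫
    ((tilde.functor B).mapDerivedCategoryFactors.app _).symm⟩

/-- Pseudo-coherence of an object with quasi-coherent cohomology on an affine scheme descends along a flat covering family. -/
theorem approx_descend {A : CommRingCat.{u}} {ι : Type*} [Finite ι] {B : ι → CommRingCat.{u}}
    (φ : ∀ j, A ⟶ B j) [∀ j, Flat (Spec.map (φ j))]
    (hcov : ∀ p : Spec A, ∃ j, p ∈ Set.range (Spec.map (φ j)))
    (K : DCoh.D (Spec A)) (hK : DCoh.IsQCohD K) (m : ℤ)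
    (h : ∀ j, DPerf.Approx (Set.Ici m) ((pullD (Spec.map (φ j))).obj K)) : DPerf.Approx (Set.Ici m) K := by
  obtain ⟨M, ⟨eM⟩⟩ := DQC.exists_iso_of_isQCohD K hK
  obtain ⟨K₀, ⟨e₀⟩⟩ := Functor.EssSurj.mem_essImage (F := (DerivedCategory.Q : DRing.Cx A ⥤ _)) M
  refine (DPerf.approx_tilde_of_pc ?_).of_iso ((DPerf.tildeDD A).mapIso e₀ ≪≫ eM)
  refine DBaseChange.pc_descend (jointlyFF_of_cover (fun j => (φ j).hom)
    (fun j => (HasRingHomProperty.Spec_iff (P := @Flat)).1 inferInstance) hcov) K₀ m fun j => ?_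
  obtain ⟨e⟩ := nonempty_tilde_pullD (φ j) K₀
  exact (DPerf.pc_tilde_iff m _).1 (DPerf.isPseudoCoherentD_of_approx ((h j).of_iso
    ((pullD (Spec.map (φ j))).mapIso (eM.symm ≪≫ (DPerf.tildeDD A).mapIso e₀.symm) ≪≫ e)))

end Groth.Agent.RelPCS4
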