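import Groth.Agent.Lib.RelPCS4.FibreExact
import Groth.Agent.Lib.DBaseChange.TorAmp
import Groth.Agent.Lib.DMod.Homology

/-!
# Tensor products of a localised finite free complex over a localised base
-/

set_option autoImplicit false
set_option linter.style.haveILetI false
set_option backward.isDefEq.respectTransparency false

universe u

open CategoryTheory Limits TensorProduct

attribute [local instance] HasDerivedCategory.standard

namespace Groth.Agent.RelPCS4.FibreCx

open FibreExact

variable {R B S L : Type u} [CommRing R] [CommRing B] [CommRing S] [CommRing L]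

/-- The matrices of a complex with bases. -/
noncomputable def mat (P : DRing.Cx B) {n : ℤ → ℕ} (b : ∀ j, Module.Basis (Fin (n j)) B (P.X j)) (j l : ℤ) :
    Matrix (Fin (n l)) (Fin (n j)) B :=
  LinearMap.toMatrix (b j) (b l) (P.d j l).hom

theorem mat_mul_mat (P : DRing.Cx B) {n : ℤ → ℕ} (b : ∀ j, Module.Basis (Fin (n j)) B (P.X j)) (i j l : ℤ) :
    mat P b j l * mat P b i j = 0 := by
  rw [mat, mat, ← LinearMap.toMatrix_comp, show (P.d j l).hom ∘ₗ (P.d i j).hom = 0 from
    congrArg ModuleCat.Hom.hom (P.d_comp_d i j l), map_zero]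

theorem exact_rTensor_congr [Algebra R S] {X₁ X₂ X₃ Y₁ Y₂ Y₃ : Type u}
    [AddCommGroup X₁] [Module S X₁] [Module R X₁] [IsScalarTower R S X₁]
    [AddCommGroup X₂] [Module S X₂] [Module R X₂] [IsScalarTower R S X₂]
    [AddCommGroup X₃] [Module S X₃] [Module R X₃] [IsScalarTower R S X₃]
    [AddCommGroup Y₁] [Module R Y₁] [AddCommGroup Y₂] [Module R Y₂] [AddCommGroup Y₃] [Module R Y₃]
    (p : Submonoid R) [IsLocalization p S]
    (M : Type u) [AddCommGroup M] [Module S M] [Module R M] [IsScalarTower R S M]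
    (f : X₁ →ₗ[S] X₂) (g : X₂ →ₗ[S] X₃) (f' : Y₁ →ₗ[R] Y₂) (g' : Y₂ →ₗ[R] Y₃)
    (e₁ : X₁ ≃ₗ[R] Y₁) (e₂ : X₂ ≃ₗ[R] Y₂) (e₃ : X₃ ≃ₗ[R] Y₃)
    (h₁ : ∀ x, f' (e₁ x) = e₂ (f x)) (h₂ : ∀ x, g' (e₂ x) = e₃ (g x)) :
    Function.Exact (f.rTensor M) (g.rTensor M) ↔ Function.Exact (f'.rTensor M) (g'.rTensor M) := by
  haveI : TensorProduct.CompatibleSMul R S X₁ M := IsLocalization.tensorProduct_compatibleSMul p S _ _
  haveI : TensorProduct.CompatibleSMul R S X₂ M := IsLocalization.tensorProduct_compatibleSMul p S _ _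
  haveI : TensorProduct.CompatibleSMul R S X₃ M := IsLocalization.tensorProduct_compatibleSMul p S _ _
  let E₁ : X₁ ⊗[S] M ≃+ Y₁ ⊗[R] M :=
    (TensorProduct.equivOfCompatibleSMul R S S X₁ M).toAddEquiv.trans (e₁.rTensor M).toAddEquiv
  let E₂ : X₂ ⊗[S] M ≃+ Y₂ ⊗[R] M :=
    (TensorProduct.equivOfCompatibleSMul R S S X₂ M).toAddEquiv.trans (e₂.rTensor M).toAddEquiv
  let E₃ : X₃ ⊗[S] M ≃+ Y₃ ⊗[R] M :=
    (TensorProduct.equivOfCompatibleSMul R S S X₃ M).toAddEquiv.trans (e₃.rTensor M).toAddEquiv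
  refine (Function.Exact.iff_of_ladder_addEquiv (f₁₂ := (f.rTensor M).toAddMonoidHom)
    (f₂₃ := (g.rTensor M).toAddMonoidHom) (g₁₂ := (f'.rTensor M).toAddMonoidHom)
    (g₂₃ := (g'.rTensor M).toAddMonoidHom) E₁ E₂ E₃ ?_ ?_).symm
  · refine AddMonoidHom.ext fun z => ?_
    change f'.rTensor M (E₁ z) = E₂ (f.rTensor M z)
    induction z using TensorProduct.induction_on with
    | zero => simp
    | tmul x t =>
      change f' (e₁ x) ⊗ₜ[R] t = e₂ (f x) ⊗ₜ[R] t
      rw [h₁]
    | add a c ha hc => simp only [map_add, ha, hc]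
  · refine AddMonoidHom.ext fun z => ?_
    change g'.rTensor M (E₂ z) = E₃ (g.rTensor M z)
    induction z using TensorProduct.induction_on with
    | zero => simp
    | tmul x t =>
      change g' (e₂ x) ⊗ₜ[R] t = e₃ (g x) ⊗ₜ[R] t
      rw [h₂]
    | add a c ha hc => simp only [map_add, ha, hc]

/-- The complex `L ⊗ P` over `S`. -/
noncomputable abbrev locCx (χ : B →+* L) (ψ : S →+* L) (P : DRing.Cx B) : DRing.Cx S :=
  ((ModuleCat.restrictScalars.{u} ψ).mapHomologicalComplex (ComplexShape.up ℤ)).obj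
    (((ModuleCat.extendScalars.{u, u, u} χ).mapHomologicalComplex (ComplexShape.up ℤ)).obj P)

theorem exactAt_tm_locCx_iff [Algebra R S] [Algebra R L] (p : Submonoid R) [IsLocalization p S] (χ : B →+* L)
    (ψ : S →+* L) (hψ : ∀ r, algebraMap R L r = ψ (algebraMap R S r))
    (P : DRing.Cx B) {n : ℤ → ℕ} (b : ∀ j, Module.Basis (Fin (n j)) B (P.X j))
    (M : ModuleCat.{u} S) [Module R M] [IsScalarTower R S M] (k : ℤ) :
    ((DBaseChange.tm M).obj (locCx χ ψ P)).ExactAt k ↔
      Function.Exact (act (L ⊗[R] M) ((mat P b (k - 1) k).map χ)) (act (L ⊗[R] M) ((mat P b k (k + 1)).map χ)) := by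
  classical
  letI : Algebra B L := χ.toAlgebra
  let G := locCx χ ψ P
  letI hmod : ∀ j, Module R (G.X j) := fun j => Module.compHom (G.X j) (algebraMap R S)
  haveI hT : ∀ j, IsScalarTower R S (G.X j) := fun j => IsScalarTower.of_algebraMap_smul fun _ _ => rfl
  let c : ∀ j, (L ⊗[B] P.X j) ≃ₗ[L] (Fin (n j) → L) := fun j => ((b j).baseChange L).equivFun
  let e : ∀ j, G.X j ≃ₗ[R] (Fin (n j) → L) := fun j =>
    { toFun := fun x => c j x
      invFun := fun v => (c j).symm v
      left_inv := fun x => (c j).symm_apply_apply x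
      right_inv := fun v => (c j).apply_symm_apply v
      map_add' := fun x y => map_add (c j) x y
      map_smul' := fun r x => by
        change c j (ψ (algebraMap R S r) • (show (L ⊗[B] P.X j : Type u) from x)) = r • c j x
        rw [map_smul, ← hψ r, algebraMap_smul] }
  have key : ∀ j l (x : L ⊗[B] P.X j),
      act L ((mat P b j l).map χ) (c j x) = c l ((P.d j l).hom.baseChange L x) := by
    intro j l
    have : (act L ((mat P b j l).map χ)) ∘ₗ (c j).toLinearMap =
        (c l).toLinearMap ∘ₗ (P.d j l).hom.baseChange L := by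
      refine ((b j).baseChange L).ext fun i => funext fun a => ?_
      simp only [c, LinearMap.comp_apply, LinearEquiv.coe_coe, Module.Basis.baseChange_apply,
        LinearMap.baseChange_tmul, act_apply, Module.Basis.equivFun_apply, Module.Basis.baseChange_repr_tmul,
        Matrix.map_apply, mat, LinearMap.toMatrix_apply, Module.Basis.repr_self]
      rw [Finset.sum_eq_single i]
      · simp [Algebra.smul_def, RingHom.algebraMap_toAlgebra]
      · intro j' _ hj'
        simp [Finsupp.single_eq_of_ne hj']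
      · simp
    exact LinearMap.congr_fun this
  have comm : ∀ j l (x : G.X j), lin (A := R) L ((mat P b j l).map χ) (e j x) = e l ((G.d j l).hom x) := by
    intro j l x
    refine (key j l x).trans ?_
    change c l ((P.d j l).hom.baseChange L x) = c l ((G.d j l).hom x)
    rfl
  refine (HomologicalComplex.exactAt_iff' _ (k - 1) k (k + 1) (by simp) (by simp)).trans ?_
  refine (ShortComplex.ShortExact.moduleCat_exact_iff_function_exact _).trans ?_
  refine (exact_rTensor_congr p M (G.d (k - 1) k).hom (G.d k (k + 1)).hom (lin (A := R) L ((mat P b (k - 1) k).map χ))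
    (lin (A := R) L ((mat P b k (k + 1)).map χ)) (e _) (e _) (e _) (comm _ _) (comm _ _)).trans ?_
  exact exact_rTensor_iff (A := R) (B := L) L M

end Groth.Agent.RelPCS4.FibreCx
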