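import Groth.Agent.Lib.FppfSource.Ring
import Groth.Agent.Lib.FlatH4.DescendIso
import Groth.Agent.Lib.FlatH4.InjCrit
import Mathlib.RingTheory.Flat.Localization
import Mathlib.RingTheory.Flat.Stability
import Mathlib.RingTheory.Flat.CategoryTheory
import Mathlib.RingTheory.Filtration
import Mathlib.LinearAlgebra.Matrix.ToLin
import Mathlib.RingTheory.LocalRing.ResidueField.Ideal

/-!
# Exactness of a complex of free modules from exactness on a fibre
-/

set_option autoImplicit false
set_option linter.style.haveILetI false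
set_option maxHeartbeats 1000000

universe u

open TensorProduct Matrix

namespace Groth.Agent.RelPCS4.FibreExact

/-- A matrix acting on vectors of elements of a module. -/
def act {B : Type u} [CommRing B] (T : Type u) [AddCommGroup T] [Module B T] {m n : ℕ}
    (D : Matrix (Fin m) (Fin n) B) : (Fin n → T) →ₗ[B] (Fin m → T) :=
  LinearMap.pi fun i => ∑ j, D i j • LinearMap.proj j

theorem act_apply {B : Type u} [CommRing B] (T : Type u) [AddCommGroup T] [Module B T] {m n : ℕ}
    (D : Matrix (Fin m) (Fin n) B) (x : Fin n → T) (i : Fin m) : act T D x i = ∑ j, D i j • x j := by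
  simp [act, LinearMap.pi_apply, LinearMap.sum_apply]

theorem act_natural {B B' : Type u} [CommRing B] [CommRing B'] {T T' : Type u} [AddCommGroup T] [Module B T]
    [AddCommGroup T'] [Module B' T'] (ρ : B →+* B') (e : T →+ T') (he : ∀ b t, e (b • t) = ρ b • e t)
    {m n : ℕ} (D : Matrix (Fin m) (Fin n) B) (x : Fin n → T) :
    act T' (D.map ρ) (e ∘ x) = e ∘ act T D x := by
  funext i
  simp [act_apply, map_sum, he]

/-- Exactness of the complex of `T`-vectors near a prime. -/
def ExAt {B : Type u} [CommRing B] (q : Ideal B) (T : Type u) [AddCommGroup T] [Module B T] {n₁ n₂ n₃ : ℕ}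
    (D₁ : Matrix (Fin n₂) (Fin n₁) B) (D₂ : Matrix (Fin n₃) (Fin n₂) B) : Prop :=
  ∀ x, act T D₂ x = 0 → ∃ s, s ∉ q ∧ ∃ y, act T D₁ y = s • x

variable {n₁ n₂ n₃ : ℕ}

theorem exAt_map {B B' : Type u} [CommRing B] [CommRing B'] {T T' : Type u} [AddCommGroup T] [Module B T]
    [AddCommGroup T'] [Module B' T'] (ρ : B →+* B') (e : T →+ T') (he : ∀ b t, e (b • t) = ρ b • e t)
    (hb : Function.Bijective e) (q : Ideal B') {D₁ : Matrix (Fin n₂) (Fin n₁) B}
    {D₂ : Matrix (Fin n₃) (Fin n₂) B} (h : ExAt (q.comap ρ) T D₁ D₂) :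
    ExAt q T' (D₁.map ρ) (D₂.map ρ) := by
  intro x hx
  choose x₀ hx₀ using fun j => hb.2 (x j)
  obtain rfl : e ∘ x₀ = x := funext hx₀
  rw [act_natural ρ e he] at hx
  obtain ⟨s, hs, y, hy⟩ := h x₀ (funext fun i => hb.1 (by simpa using congrFun hx i))
  exact ⟨ρ s, hs, e ∘ y, (act_natural ρ e he D₁ y).trans (funext fun i => by simp [hy, he])⟩

section Localization

variable {A B : Type u} [CommRing A] [CommRing B] [Algebra A B] (q : Ideal B) [q.IsPrime] (L : Type u)
  [CommRing L] [Algebra B L] [Algebra A L] [IsScalarTower A B L] [IsLocalization.AtPrime L q]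
  (M : Type u) [AddCommGroup M] [Module A M]

theorem isLocalizedModule_tensor :
    IsLocalizedModule q.primeCompl (AlgebraTensorModule.rTensor A M (IsScalarTower.toAlgHom B B L).toLinearMap :
      B ⊗[A] M →ₗ[B] L ⊗[A] M) := by
  have h : IsLocalizedModule q.primeCompl (TensorProduct.mk B L (B ⊗[A] M) 1) :=
    (isLocalizedModule_iff_isBaseChange q.primeCompl L _).2 (TensorProduct.isBaseChange B (B ⊗[A] M) L)
  have := h
  convert IsLocalizedModule.of_linearEquiv q.primeCompl (TensorProduct.mk B L (B ⊗[A] M) 1)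
    ((AlgebraTensorModule.cancelBaseChange A B L L M).restrictScalars B) using 1
  refine TensorProduct.AlgebraTensorModule.ext fun b m => ?_
  simp [Algebra.smul_def]

theorem exact_act_of_exAt {D₁ : Matrix (Fin n₂) (Fin n₁) B} {D₂ : Matrix (Fin n₃) (Fin n₂) B}
    (h12 : D₂ * D₁ = 0) (h : ExAt q (B ⊗[A] M) D₁ D₂) :
    Function.Exact (act (L ⊗[A] M) D₁) (act (L ⊗[A] M) D₂) := by
  haveI := isLocalizedModule_tensor (A := A) q L M
  let μ : B ⊗[A] M →ₗ[B] L ⊗[A] M := AlgebraTensorModule.rTensor A M (IsScalarTower.toAlgHom B B L).toLinearMap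
  have hμ : ∀ (b : B) t, μ.toAddMonoidHom (b • t) = RingHom.id B b • μ.toAddMonoidHom t := fun b t => μ.map_smul b t
  intro x
  constructor
  · intro hx
    obtain ⟨s, hs⟩ : ∃ s : q.primeCompl, ∀ j, ∃ z, (s : B) • x j = μ z := by
      choose z hz using fun j => IsLocalizedModule.surj q.primeCompl μ (x j)
      refine ⟨∏ j, (z j).2, fun j => ⟨(∏ k ∈ Finset.univ.erase j, ((z k).2 : B)) • (z j).1, ?_⟩⟩
      rw [map_smul, ← hz j]
      simp only [Submonoid.coe_finsetProd, Submonoid.smul_def, smul_smul]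
      rw [Finset.prod_erase_mul _ _ (Finset.mem_univ j)]
    choose z hz using hs
    have hz' : μ.toAddMonoidHom ∘ z = (s : B) • x := funext fun j => (hz j).symm
    have h2 : ∀ i, μ (act (B ⊗[A] M) D₂ z i) = μ 0 := fun i => by
      rw [map_zero]
      have h0 := act_natural (RingHom.id B) μ.toAddMonoidHom hμ D₂ z
      rw [hz', show D₂.map (RingHom.id B) = D₂ from Matrix.ext fun _ _ => rfl, map_smul, hx, smul_zero] at h0
      exact (congrFun h0 i).symm
    choose t ht using fun i => IsLocalizedModule.exists_of_eq (S := q.primeCompl) (h2 i)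
    let t' : q.primeCompl := ∏ i, t i
    have hz0 : act (B ⊗[A] M) D₂ ((t' : B) • z) = 0 := funext fun i => by
      have h3 := congrArg ((∏ k ∈ Finset.univ.erase i, (t k : B)) • ·) (ht i)
      simp only [smul_zero, Submonoid.smul_def, smul_smul] at h3
      rw [map_smul, Pi.smul_apply, Pi.zero_apply]
      simpa [t', Finset.prod_erase_mul _ _ (Finset.mem_univ i)] using h3
    obtain ⟨r, hr, y, hy⟩ := h _ hz0
    let w : q.primeCompl := ⟨r, hr⟩ * t' * s
    obtain ⟨v, hv⟩ := IsLocalization.map_units L w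
    refine ⟨fun j => (↑v⁻¹ : L) • μ (y j), funext fun i => ?_⟩
    have h4 := congrFun (act_natural (RingHom.id B) μ.toAddMonoidHom hμ D₁ y) i
    rw [show D₁.map (RingHom.id B) = D₁ from Matrix.ext fun _ _ => rfl, Function.comp_apply, hy] at h4
    simp only [Pi.smul_apply, LinearMap.toAddMonoidHom_coe, map_smul, ← hz] at h4
    rw [act_apply] at h4 ⊢
    calc ∑ j, D₁ i j • (↑v⁻¹ : L) • μ (y j) = (↑v⁻¹ : L) • ∑ j, D₁ i j • μ (y j) := by
          rw [Finset.smul_sum]; exact Finset.sum_congr rfl fun j _ => smul_comm _ _ _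
      _ = (↑v⁻¹ : L) • (r • (t' : B) • (s : B) • x i) := by rw [← h4]; rfl
      _ = x i := by
          rw [smul_smul r, smul_smul, ← algebraMap_smul L (r * (t' : B) * (s : B)) (x i), smul_smul,
            show algebraMap B L (r * (t' : B) * (s : B)) = v from hv.symm, Units.inv_mul, one_smul]
  · rintro ⟨y, rfl⟩
    funext i
    simp only [act_apply, Finset.smul_sum, smul_smul, Pi.zero_apply]
    rw [Finset.sum_comm]
    refine Finset.sum_eq_zero fun j _ => ?_
    rw [← Finset.sum_smul, ← Matrix.mul_apply, h12, Matrix.zero_apply, zero_smul]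

theorem exAt_of_exact_act {D₁ : Matrix (Fin n₂) (Fin n₁) B} {D₂ : Matrix (Fin n₃) (Fin n₂) B}
    (h : Function.Exact (act (L ⊗[A] M) D₁) (act (L ⊗[A] M) D₂)) : ExAt q (B ⊗[A] M) D₁ D₂ := by
  haveI := isLocalizedModule_tensor (A := A) q L M
  let μ : B ⊗[A] M →ₗ[B] L ⊗[A] M := AlgebraTensorModule.rTensor A M (IsScalarTower.toAlgHom B B L).toLinearMap
  have hμ : ∀ (b : B) t, μ.toAddMonoidHom (b • t) = RingHom.id B b • μ.toAddMonoidHom t := fun b t => μ.map_smul b t
  have hn : ∀ {m k : ℕ} (D : Matrix (Fin m) (Fin k) B) z i, act (L ⊗[A] M) D (μ ∘ z) i = μ (act (B ⊗[A] M) D z i) :=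
    fun D z i => congrFun (act_natural (RingHom.id B) μ.toAddMonoidHom hμ D z) i
  intro x hx
  obtain ⟨y, hy⟩ := (h (μ ∘ x)).1 (funext fun i => by rw [hn, hx, Pi.zero_apply, map_zero, Pi.zero_apply])
  choose z hz using fun j => IsLocalizedModule.surj q.primeCompl μ (y j)
  let s : q.primeCompl := ∏ j, (z j).2
  let z' : Fin n₁ → B ⊗[A] M := fun j => (∏ k ∈ Finset.univ.erase j, ((z k).2 : B)) • (z j).1
  have hz' : μ ∘ z' = (s : B) • y := funext fun j => by
    simp only [Function.comp_apply, z', map_smul, ← hz j, Submonoid.smul_def, smul_smul, Pi.smul_apply]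
    simp [s, Finset.prod_erase_mul _ _ (Finset.mem_univ j)]
  have h2 : ∀ i, μ (act (B ⊗[A] M) D₁ z' i) = μ ((s : B) • x i) := fun i => by
    rw [← hn, hz', map_smul, hy, map_smul]
    rfl
  choose t ht using fun i => IsLocalizedModule.exists_of_eq (S := q.primeCompl) (h2 i)
  refine ⟨((∏ i, t i : q.primeCompl) : B) * s, fun hq => ((∏ i, t i : q.primeCompl) * s).2 hq,
    ((∏ i, t i : q.primeCompl) : B) • z', funext fun i => ?_⟩
  have h3 := congrArg ((∏ k ∈ Finset.univ.erase i, (t k : B)) • ·) (ht i)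
  simp only [Submonoid.smul_def, smul_smul] at h3
  rw [map_smul, Pi.smul_apply, Pi.smul_apply, mul_smul]
  simpa [← mul_assoc, Finset.prod_erase_mul _ _ (Finset.mem_univ i), smul_smul] using h3

/-- The linear map of a matrix. -/
noncomputable abbrev lin {m k : ℕ} (D : Matrix (Fin m) (Fin k) B) : (Fin k → L) →ₗ[A] (Fin m → L) :=
  (act L D).restrictScalars A

/-- Vectors of tensors. -/
noncomputable def piEquiv (k : ℕ) : (Fin k → L) ⊗[A] M ≃ₗ[A] (Fin k → L ⊗[A] M) :=
  (TensorProduct.comm A _ _).trans ((TensorProduct.piRight A A M fun _ : Fin k => L).trans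
    (LinearEquiv.piCongrRight fun _ => TensorProduct.comm A M L))

theorem piEquiv_natural {m k : ℕ} (D : Matrix (Fin m) (Fin k) B) (z : (Fin k → L) ⊗[A] M) :
    piEquiv L M m ((lin (A := A) L D).rTensor M z) = act (L ⊗[A] M) D (piEquiv L M k z) := by
  induction z using TensorProduct.induction_on with
  | zero => simp
  | tmul v t =>
    funext i
    simp [piEquiv, act_apply, TensorProduct.sum_tmul, TensorProduct.smul_tmul']
  | add a b ha hb => simp only [map_add, ha, hb]

theorem exact_rTensor_iff {D₁ : Matrix (Fin n₂) (Fin n₁) B} {D₂ : Matrix (Fin n₃) (Fin n₂) B} :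
    Function.Exact ((lin (A := A) L D₁).rTensor M) ((lin (A := A) L D₂).rTensor M) ↔
      Function.Exact (act (L ⊗[A] M) D₁) (act (L ⊗[A] M) D₂) := by
  constructor
  · intro h x
    obtain ⟨z, rfl⟩ := (piEquiv (A := A) L M n₂).surjective x
    rw [← piEquiv_natural, LinearEquiv.map_eq_zero_iff, h z]
    constructor
    · rintro ⟨y, rfl⟩; exact ⟨_, (piEquiv_natural L M D₁ y).symm⟩
    · rintro ⟨y, hy⟩
      obtain ⟨y, rfl⟩ := (piEquiv (A := A) L M n₁).surjective y
      exact ⟨y, (piEquiv (A := A) L M n₂).injective ((piEquiv_natural L M D₁ y).trans hy)⟩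
  · intro h z
    rw [← (piEquiv (A := A) L M n₃).map_eq_zero_iff, piEquiv_natural, h _]
    constructor
    · rintro ⟨y, hy⟩
      obtain ⟨y, rfl⟩ := (piEquiv (A := A) L M n₁).surjective y
      exact ⟨y, (piEquiv (A := A) L M n₂).injective ((piEquiv_natural L M D₁ y).trans hy)⟩
    · rintro ⟨y, rfl⟩; exact ⟨_, (piEquiv_natural L M D₁ y).symm⟩

end Localization

/-- The map to the fibre ring. -/
noncomputable abbrev toFibre (A B : Type u) [CommRing A] [CommRing B] [Algebra A B] (p : Ideal A) [p.IsPrime] :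
    B →+* p.ResidueField ⊗[A] B :=
  (Algebra.TensorProduct.includeRight : B →ₐ[A] p.ResidueField ⊗[A] B).toRingHom

/-- Exactness on the fibre, near a prime. -/
def FibEx {A B : Type u} [CommRing A] [CommRing B] [Algebra A B] (q : Ideal B) [q.IsPrime]
    (D₁ : Matrix (Fin n₂) (Fin n₁) B) (D₂ : Matrix (Fin n₃) (Fin n₂) B) : Prop :=
  ∀ x, act ((q.under A).ResidueField ⊗[A] B) (D₂.map (toFibre A B (q.under A))) x = 0 →
    ∃ s, s ∉ q ∧ ∃ y, act ((q.under A).ResidueField ⊗[A] B) (D₁.map (toFibre A B (q.under A))) y =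
      toFibre A B (q.under A) s • x

theorem mem_smul_top_pi {A L : Type u} [CommRing A] [CommRing L] [Algebra A L] (I : Ideal A) {k : ℕ}
    (v : Fin k → L) : v ∈ I • (⊤ : Submodule A (Fin k → L)) ↔ ∀ i, v i ∈ I.map (algebraMap A L) := by
  constructor
  · intro hv i
    refine Submodule.smul_induction_on (p := fun w : Fin k → L => w i ∈ I.map (algebraMap A L)) hv
      (fun a ha w _ => ?_) fun a b ha hb => by rw [Pi.add_apply]; exact add_mem ha hb
    rw [Pi.smul_apply, Algebra.smul_def]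
    exact Ideal.mul_mem_right _ _ (Ideal.mem_map_of_mem _ ha)
  · intro hv
    rw [show v = ∑ i, Pi.single i (v i) from (Finset.univ_sum_single v).symm]
    refine Submodule.sum_mem _ fun i _ => ?_
    have hi : v i ∈ I • (⊤ : Submodule A L) := by rw [Ideal.smul_top_eq_map]; exact hv i
    exact Submodule.smul_induction_on (p := fun w : L => (Pi.single i w : Fin k → L) ∈ I • (⊤ : Submodule A (Fin k → L)))
      hi (fun a ha w _ => by rw [Pi.single_smul]; exact Submodule.smul_mem_smul ha Submodule.mem_top)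
      fun a b ha hb => by rw [Pi.single_add]; exact add_mem ha hb

theorem exact_rTensor_comp {A X₁ X₂ N W Q : Type u} [CommRing A] [AddCommGroup X₁] [Module A X₁] [AddCommGroup X₂]
    [Module A X₂] [AddCommGroup N] [Module A N] [AddCommGroup W] [Module A W] [AddCommGroup Q] [Module A Q]
    [Module.Flat A Q] (M : Type u) [AddCommGroup M] [Module A M] (f : X₁ →ₗ[A] X₂) (g : X₂ →ₗ[A] N) (h : N →ₗ[A] W)
    (π : W →ₗ[A] Q) (d : X₂ →ₗ[A] W) (hd : ∀ x, d x = h (g x)) (hfg : Function.Exact f g) (hg : Function.Surjective g)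
    (hh : Function.Injective h) (hhπ : Function.Exact h π) (hπ : Function.Surjective π) :
    Function.Exact (f.rTensor M) (d.rTensor M) := by
  obtain rfl : d = h ∘ₗ g := LinearMap.ext hd
  have huM : Function.Injective (h.rTensor M) :=
    (LinearMap.lTensor_inj_iff_rTensor_inj M _).1 (LinearMap.lTensor_injective_of_exact_of_flat π hπ h hh hhπ M)
  intro z
  rw [LinearMap.rTensor_comp, LinearMap.comp_apply, map_eq_zero_iff _ huM]
  exact rTensor_exact M hfg hg z

theorem exact_rTensor_tower {A Al L X₁ X₂ W : Type u} [CommRing A] [CommRing Al] [CommRing L] [Algebra A Al]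
    [Algebra Al L] [Algebra A L] [IsScalarTower A Al L] [Module.Flat A Al]
    [AddCommGroup X₁] [Module L X₁] [Module A X₁] [IsScalarTower A L X₁]
    [AddCommGroup X₂] [Module L X₂] [Module A X₂] [IsScalarTower A L X₂] [Module Al X₂] [IsScalarTower Al L X₂]
    [IsScalarTower A Al X₂]
    [AddCommGroup W] [Module L W] [Module A W] [IsScalarTower A L W] [Module Al W] [IsScalarTower A Al W]
    (M : Type u) [AddCommGroup M] [Module A M] (d₁ : X₁ →ₗ[L] X₂) (d₂ : X₂ →ₗ[L] W)
    (u : (X₂ ⧸ LinearMap.range d₁) →ₗ[Al] W) (hu : ∀ x, d₂ x = u (Submodule.Quotient.mk x))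
    (hui : Function.Injective u) [Module.Flat Al (W ⧸ LinearMap.range u)] :
    Function.Exact ((d₁.restrictScalars A).rTensor M) ((d₂.restrictScalars A).rTensor M) := by
  haveI : Module.Flat A (W ⧸ LinearMap.range u) := Module.Flat.trans A Al _
  have e1 : Function.Exact (d₁.restrictScalars A) ((LinearMap.range d₁).mkQ.restrictScalars A) :=
    LinearMap.exact_map_mkQ_range d₁
  have e2 : Function.Surjective ((LinearMap.range d₁).mkQ.restrictScalars A) :=
    Submodule.mkQ_surjective (LinearMap.range d₁)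
  have e3 : Function.Injective (u.restrictScalars A) := hui
  have e4 : Function.Exact (u.restrictScalars A) ((LinearMap.range u).mkQ.restrictScalars A) :=
    LinearMap.exact_map_mkQ_range u
  have e5 : Function.Surjective ((LinearMap.range u).mkQ.restrictScalars A) :=
    Submodule.mkQ_surjective (LinearMap.range u)
  have e6 : ∀ x, d₂.restrictScalars A x = u.restrictScalars A ((LinearMap.range d₁).mkQ.restrictScalars A x) := hu
  exact exact_rTensor_comp M _ _ _ _ _ e6 e1 e2 e3 e4 e5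

/-- Local criterion: exact on the closed fibre implies universally exact. -/
theorem exact_rTensor_of_closedFibre {A Al L : Type u} [CommRing A] [CommRing Al] [CommRing L] [Algebra A Al]
    [Algebra Al L] [Algebra A L] [IsScalarTower A Al L] [IsLocalRing Al] [IsLocalRing L] [IsLocalHom (algebraMap Al L)]
    [IsNoetherianRing L] [Module.Flat Al L] [Module.Flat A Al] (d₁ : (Fin n₁ → L) →ₗ[L] (Fin n₂ → L))
    (d₂ : (Fin n₂ → L) →ₗ[L] (Fin n₃ → L)) (hdd : ∀ v, d₂ (d₁ v) = 0)
    (h : ∀ x, (∀ i, d₂ x i ∈ (IsLocalRing.maximalIdeal Al).map (algebraMap Al L)) →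
      ∃ y, ∀ i, (x - d₁ y) i ∈ (IsLocalRing.maximalIdeal Al).map (algebraMap Al L))
    (M : Type u) [AddCommGroup M] [Module A M] :
    Function.Exact ((d₁.restrictScalars A).rTensor M) ((d₂.restrictScalars A).rTensor M) := by
  let N := (Fin n₂ → L) ⧸ LinearMap.range d₁
  let u : N →ₗ[L] (Fin n₃ → L) := (LinearMap.range d₁).liftQ d₂ (by rintro _ ⟨v, rfl⟩; exact hdd v)
  haveI : Module.Flat Al (Fin n₃ → L) := Module.Flat.trans Al L _
  let uA : N →ₗ[Al] (Fin n₃ → L) := u.restrictScalars Al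
  let 𝔪 := IsLocalRing.maximalIdeal Al
  have hinj : Function.Injective (uA.lTensor (Al ⧸ 𝔪)) := by
    rw [injective_iff_map_eq_zero]
    intro w hw
    obtain ⟨x, rfl⟩ : ∃ x : N, (1 : Al ⧸ 𝔪) ⊗ₜ[Al] x = w := by
      clear hw
      induction w using TensorProduct.induction_on with
      | zero => exact ⟨0, tmul_zero _ _⟩
      | tmul a x =>
        obtain ⟨a, rfl⟩ := Ideal.Quotient.mk_surjective a
        exact ⟨a • x, by rw [← smul_tmul, Algebra.smul_def, mul_one]; rfl⟩
      | add a b ha hb =>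
        obtain ⟨x, rfl⟩ := ha; obtain ⟨y, rfl⟩ := hb
        exact ⟨x + y, tmul_add _ _ _⟩
    rw [LinearMap.lTensor_tmul, FlatH4.one_tmul_eq_zero_iff] at hw
    rw [FlatH4.one_tmul_eq_zero_iff]
    obtain ⟨x, rfl⟩ := Submodule.mkQ_surjective _ x
    change d₂ x ∈ _ at hw
    rw [mem_smul_top_pi] at hw
    obtain ⟨y, hy⟩ := h x hw
    have h7 := Submodule.mem_map_of_mem (f := ((LinearMap.range d₁).mkQ).restrictScalars Al)
      ((mem_smul_top_pi 𝔪 (x - d₁ y)).2 hy)
    rw [Submodule.map_smul'', LinearMap.restrictScalars_apply, map_sub,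
      show (LinearMap.range d₁).mkQ (d₁ y) = 0 from (Submodule.Quotient.mk_eq_zero _).2 ⟨_, rfl⟩, sub_zero] at h7
    exact Submodule.smul_mono le_rfl le_top h7
  have hu := fun V [AddCommGroup V] [Module Al V] hV =>
    FlatH4.lTensor_injective_of_isMaximal 𝔪 uA hinj V hV
  have hres : ∀ (J : Ideal Al) (w : N), w ∈ J • (⊤ : Submodule Al N) ↔
      w ∈ J.map (algebraMap Al L) • (⊤ : Submodule L N) := fun J w => by
    have := Ideal.smul_restrictScalars J (⊤ : Submodule L N)
    rw [Submodule.restrictScalars_top] at this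
    rw [← this, Submodule.restrictScalars_mem]
  have hmem : ∀ (I : Ideal Al) (x : N), uA x ∈ I • (⊤ : Submodule Al (Fin n₃ → L)) → x ∈ I • (⊤ : Submodule Al N) := by
    intro I x hx
    refine FlatH4.mem_smul_of_map_mem_smul_of_separated 𝔪 uA hu I (fun z hz => ?_) x hx
    rw [hres]
    let J := I.map (algebraMap Al L)
    let N' := N ⧸ J • (⊤ : Submodule L N)
    refine (Submodule.Quotient.mk_eq_zero _).1 ((Submodule.eq_bot_iff _).1
      (Ideal.iInf_pow_smul_eq_bot_of_isLocalRing (R := L) (M := N') (IsLocalRing.maximalIdeal L)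
        (IsLocalRing.maximalIdeal.isMaximal _).ne_top) _ ((Submodule.mem_iInf _).2 fun k => ?_))
    have h8 := (hres _ z).1 (hz k)
    rw [Ideal.map_sup, Ideal.map_pow, Submodule.sup_smul, Submodule.mem_sup] at h8
    obtain ⟨a, ha, b, hb, rfl⟩ := h8
    rw [Submodule.Quotient.mk_add, (Submodule.Quotient.mk_eq_zero _).2 ha, zero_add]
    have h9 := Submodule.mem_map_of_mem (f := (J • (⊤ : Submodule L N)).mkQ) hb
    rw [Submodule.map_smul''] at h9
    have hle : 𝔪.map (algebraMap Al L) ≤ IsLocalRing.maximalIdeal L :=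
      Ideal.map_le_iff_le_comap.2 fun a ha => Ideal.mem_comap.2 (map_nonunit (algebraMap Al L) a ha)
    exact Submodule.smul_mono (Ideal.pow_right_mono hle k) le_top h9
  have hui : Function.Injective uA := FlatH4.injective_of_map_mem_smul uA hmem
  haveI : Module.Flat Al ((Fin n₃ → L) ⧸ LinearMap.range uA) := FlatH4.flat_quotient_range uA hmem
  exact exact_rTensor_tower (A := A) M d₁ d₂ uA (fun _ => rfl) hui

section Noetherian

variable {A B : Type u} [CommRing A] [CommRing B] [Algebra A B] (q : Ideal B) [q.IsPrime]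
  {D₁ : Matrix (Fin n₂) (Fin n₁) B} {D₂ : Matrix (Fin n₃) (Fin n₂) B}

theorem act_map_algebraMap {L : Type u} [CommRing L] [Algebra B L] {m k : ℕ} (D : Matrix (Fin m) (Fin k) B)
    (v : Fin k → L) : act L (D.map (algebraMap B L)) v = act L D v :=
  funext fun i => by simp [act_apply, Algebra.smul_def]

theorem fibre_condition (h : FibEx (A := A) q D₁ D₂) (L : Type u) [CommRing L] [Algebra B L]
    [IsLocalization.AtPrime L q] [Algebra A L] [IsScalarTower A B L]
    (x : Fin n₂ → L) (hx : ∀ i, act L D₂ x i ∈ (q.under A).map (algebraMap A L)) :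
    ∃ y, ∀ i, (x - act L D₁ y) i ∈ (q.under A).map (algebraMap A L) := by
  let p := q.under A
  have hm : p.map (algebraMap A L) = (p.map (algebraMap A B)).map (algebraMap B L) := by
    rw [Ideal.map_map, ← IsScalarTower.algebraMap_eq]
  obtain ⟨s, hs⟩ := IsLocalization.exist_integer_multiples_of_finite q.primeCompl x
  choose z hz using hs
  have hzi : ∀ i, algebraMap B L (act B D₂ z i) ∈ (p.map (algebraMap A B)).map (algebraMap B L) := fun i => by
    have : algebraMap B L (act B D₂ z i) = (s : B) • act L D₂ x i := by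
      simp only [act_apply, map_sum, smul_eq_mul, map_mul, hz, Algebra.smul_def, Finset.mul_sum]
      exact Finset.sum_congr rfl fun j _ => mul_left_comm _ _ _
    rw [this, Algebra.smul_def, ← hm]
    exact Ideal.mul_mem_left _ _ (hx i)
  choose c hc using fun i => (IsLocalization.algebraMap_mem_map_algebraMap_iff q.primeCompl L _ _).1 (hzi i)
  let t : B := ∏ i, c i
  have htq : t ∉ q := fun hh => by
    obtain ⟨i, -, hi⟩ := (‹q.IsPrime›).prod_mem_iff.1 hh
    exact (hc i).1 hi
  have hzero : p.map (algebraMap A B) ≤ RingHom.ker (toFibre A B p) := Ideal.map_le_iff_le_comap.2 fun a ha => by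
    change ((1 : p.ResidueField) ⊗ₜ[A] algebraMap A B a) = 0
    rw [Algebra.algebraMap_eq_smul_one, ← smul_tmul, ← Algebra.algebraMap_eq_smul_one,
      Ideal.algebraMap_residueField_eq_zero.2 ha, zero_tmul]
  obtain ⟨r, hr, y, hy⟩ := h (toFibre A B p ∘ (t • z)) (funext fun i => by
    have := congrFun (act_natural (T := B) (T' := p.ResidueField ⊗[A] B) (toFibre A B p)
      (toFibre A B p).toAddMonoidHom (fun b c => map_mul (toFibre A B p) b c) D₂ (t • z)) i
    refine this.trans (hzero ?_)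
    rw [map_smul, Pi.smul_apply, smul_eq_mul,
      show t = (∏ k ∈ Finset.univ.erase i, c k) * c i from (Finset.prod_erase_mul _ _ (Finset.mem_univ i)).symm,
      mul_assoc]
    exact Ideal.mul_mem_left _ _ (hc i).2)
  let Q := L ⧸ p.map (algebraMap A L)
  have hQ : ∀ a ∈ p, algebraMap A Q a = 0 := fun a ha => Ideal.Quotient.eq_zero_iff_mem.2 (Ideal.mem_map_of_mem _ ha)
  have hu : p.primeCompl ≤ (IsUnit.submonoid Q).comap (algebraMap A Q) := fun a ha => by
    refine IsUnit.map (Ideal.Quotient.mk _) ?_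
    rw [IsScalarTower.algebraMap_apply A B L]
    exact IsLocalization.map_units L (⟨algebraMap A B a, ha⟩ : q.primeCompl)
  let g : p.ResidueField →ₐ[A] Q := Ideal.ResidueField.liftₐ p (Algebra.ofId A Q) hQ hu
  let χ : p.ResidueField ⊗[A] B →ₐ[A] Q := Algebra.TensorProduct.lift g
    ((Ideal.Quotient.mkₐ A _).comp (IsScalarTower.toAlgHom A B L)) fun _ _ => Commute.all _ _
  have hχ : ∀ b, χ (toFibre A B p b) = Ideal.Quotient.mk _ (algebraMap B L b) := fun b => by
    simp [χ, toFibre]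
  choose y' hy' using fun j => Ideal.Quotient.mk_surjective (χ (y j))
  obtain ⟨v, hv⟩ := IsLocalization.map_units L (⟨r, hr⟩ * ⟨t, htq⟩ * s : q.primeCompl)
  refine ⟨(↑v⁻¹ : L) • y', fun i => ?_⟩
  have hkey : act L D₁ y' i - algebraMap B L (r * t * s) * x i ∈ p.map (algebraMap A L) := by
    rw [← Ideal.Quotient.eq_zero_iff_mem, map_sub, sub_eq_zero]
    have h5 := congrArg χ (congrFun hy i)
    simp only [act_apply, Matrix.map_apply, map_sum, Function.comp_apply, Pi.smul_apply, smul_eq_mul,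
      map_mul, hχ, ← hy'] at h5
    simp only [act_apply, Algebra.smul_def, map_sum, map_mul, h5, mul_assoc]
    rw [hz i, Algebra.smul_def]
    simp only [map_mul]
  have h6 := Ideal.mul_mem_left _ (-(↑v⁻¹ : L)) hkey
  rw [show algebraMap B L (r * t * s) = v from hv.symm] at h6
  have h7 : act L D₁ ((↑v⁻¹ : L) • y') i = (↑v⁻¹ : L) * act L D₁ y' i := by
    simp only [act_apply, Finset.mul_sum, Algebra.smul_def, Pi.smul_apply, smul_eq_mul, Algebra.algebraMap_self,
      RingHom.id_apply]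
    exact Finset.sum_congr rfl fun j _ => mul_left_comm _ _ _
  rw [Pi.sub_apply, h7]
  convert h6 using 1
  rw [neg_mul, mul_sub, ← mul_assoc, Units.inv_mul, one_mul, neg_sub]

theorem exAt_of_fibEx_noetherian [IsNoetherianRing B] [Module.Flat A B] (h12 : D₂ * D₁ = 0)
    (h : FibEx (A := A) q D₁ D₂) (M : Type u) [AddCommGroup M] [Module A M] : ExAt q (B ⊗[A] M) D₁ D₂ := by
  let p := q.under A
  let L := Localization.AtPrime q
  let Al := Localization.AtPrime p
  letI : Algebra Al L := (Localization.localRingHom p q (algebraMap A B) rfl).toAlgebra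
  haveI : IsScalarTower A Al L := IsScalarTower.of_algebraMap_eq fun a =>
    (IsScalarTower.algebraMap_apply A B L a).trans (Localization.localRingHom_to_map p q (algebraMap A B) rfl a).symm
  haveI : IsLocalHom (algebraMap Al L) := Localization.isLocalHom_localRingHom p q (algebraMap A B) rfl
  haveI : Module.Flat B L := IsLocalization.flat L q.primeCompl
  haveI : Module.Flat A L := Module.Flat.trans A B L
  haveI : Module.Flat Al L := (Module.flat_iff_of_isLocalization Al p.primeCompl L).2 inferInstance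
  haveI : Module.Flat A Al := IsLocalization.flat Al p.primeCompl
  haveI : IsNoetherianRing L := IsLocalization.isNoetherianRing q.primeCompl L inferInstance
  refine exAt_of_exact_act q L M ((exact_rTensor_iff (A := A) L M).1 ?_)
  have hm : (IsLocalRing.maximalIdeal Al).map (algebraMap Al L) = p.map (algebraMap A L) := by
    rw [show IsLocalRing.maximalIdeal Al = p.map (algebraMap A Al) from (Localization.AtPrime.map_eq_maximalIdeal).symm,
      Ideal.map_map, ← IsScalarTower.algebraMap_eq]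
  have := exact_rTensor_of_closedFibre (A := A) (Al := Al) (act L (D₁.map (algebraMap B L)))
    (act L (D₂.map (algebraMap B L))) (fun v => funext fun i => by
      simp only [act_apply, Finset.smul_sum, smul_smul, Pi.zero_apply, Matrix.map_apply, ← map_mul]
      rw [Finset.sum_comm]
      refine Finset.sum_eq_zero fun j _ => ?_
      rw [← Finset.sum_smul, ← map_sum, ← Matrix.mul_apply, h12, Matrix.zero_apply, map_zero, zero_smul])
    (fun x hx => by
      simp only [act_map_algebraMap, hm] at hx ⊢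
      exact fibre_condition q h L x hx) M
  have e₁ : ∀ {m k : ℕ} (D : Matrix (Fin m) (Fin k) B),
      ((act L (D.map (algebraMap B L))).restrictScalars A) = lin (A := A) L D := fun D =>
    LinearMap.ext fun v => act_map_algebraMap D v
  rwa [e₁, e₁] at this

end Noetherian

section BaseChange

variable {A₂ B₂ A B : Type u} [CommRing A₂] [CommRing B₂] [Algebra A₂ B₂] [CommRing A] [CommRing B]
  [Algebra A B] [Algebra A₂ A]

/-- The ring map to a base change. -/
noncomputable def bcHom (e : A ⊗[A₂] B₂ ≃ₐ[A] B) : B₂ →+* B :=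
  e.toRingEquiv.toRingHom.comp (Algebra.TensorProduct.includeRight : B₂ →ₐ[A₂] A ⊗[A₂] B₂).toRingHom

theorem bcHom_algebraMap (e : A ⊗[A₂] B₂ ≃ₐ[A] B) (a : A₂) :
    bcHom e (algebraMap A₂ B₂ a) = algebraMap A B (algebraMap A₂ A a) := by
  rw [← e.commutes]
  change e ((1 : A) ⊗ₜ[A₂] algebraMap A₂ B₂ a) = _
  rw [Algebra.algebraMap_eq_smul_one, ← smul_tmul, ← Algebra.algebraMap_eq_smul_one]
  rfl

/-- The fibre of a base change is a base change of the fibre. -/
noncomputable def fibreEquiv (e : A ⊗[A₂] B₂ ≃ₐ[A] B) (κ₂ κ : Type u) [CommRing κ₂] [CommRing κ] [Algebra A₂ κ₂]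
    [Algebra A κ] [Algebra A₂ κ] [IsScalarTower A₂ A κ] [Algebra κ₂ κ] [IsScalarTower A₂ κ₂ κ] :
    κ ⊗[A] B ≃+* (κ₂ ⊗[A₂] B₂) ⊗[κ₂] κ :=
  ((Algebra.TensorProduct.congr (AlgEquiv.refl (R := A) (A₁ := κ)) e.symm).toRingEquiv.trans
    (Algebra.TensorProduct.cancelBaseChange A₂ A A κ B₂).toRingEquiv).trans
    ((Algebra.TensorProduct.cancelBaseChange A₂ κ₂ κ₂ κ B₂).symm.toRingEquiv.trans
      (Algebra.TensorProduct.comm κ₂ κ (κ₂ ⊗[A₂] B₂)).toRingEquiv)

theorem fibreEquiv_apply (e : A ⊗[A₂] B₂ ≃ₐ[A] B) (κ₂ κ : Type u) [CommRing κ₂] [CommRing κ] [Algebra A₂ κ₂]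
    [Algebra A κ] [Algebra A₂ κ] [IsScalarTower A₂ A κ] [Algebra κ₂ κ] [IsScalarTower A₂ κ₂ κ] (b : B₂) :
    fibreEquiv e κ₂ κ ((1 : κ) ⊗ₜ[A] bcHom e b) =
      algebraMap (κ₂ ⊗[A₂] B₂) ((κ₂ ⊗[A₂] B₂) ⊗[κ₂] κ) ((1 : κ₂) ⊗ₜ[A₂] b) := by
  simp [fibreEquiv, bcHom, Algebra.TensorProduct.algebraMap_apply]

theorem mem_map_colon_of_flat {G G' : Type u} [CommRing G] [CommRing G'] [Algebra G G'] [Module.Flat G G']
    (d₁ : (Fin n₁ → G) →ₗ[G] (Fin n₂ → G)) (x : Fin n₂ → G) (σ : G') (y : Fin n₁ → G')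
    (hy : ∀ i, σ * algebraMap G G' (x i) = ∑ j, algebraMap G G' (d₁ (Pi.single j 1) i) * y j) :
    σ ∈ Ideal.map (algebraMap G G') ((LinearMap.range d₁).comap (LinearMap.toSpanSingleton G _ x)) := by
  let J : Ideal G := (LinearMap.range d₁).comap (LinearMap.toSpanSingleton G _ x)
  let ι : G ⧸ J →ₗ[G] (Fin n₂ → G) ⧸ LinearMap.range d₁ :=
    Submodule.mapQ J (LinearMap.range d₁) (LinearMap.toSpanSingleton G _ x) le_rfl
  have hι : Function.Injective ι := by
    rw [← LinearMap.ker_eq_bot, Submodule.ker_mapQ, Submodule.mkQ_map_self]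
  have h1 := Module.Flat.lTensor_preserves_injective_linearMap (M := G') ι hι
  have e1 : σ ⊗ₜ[G] x = ∑ j, y j ⊗ₜ[G] d₁ (Pi.single j 1) := by
    apply (TensorProduct.piScalarRight G G G' (Fin n₂)).injective
    funext i
    simp only [map_sum, TensorProduct.piScalarRight_apply, TensorProduct.piScalarRightHom_tmul, Finset.sum_apply]
    rw [Algebra.smul_def, mul_comm, hy]
    exact Finset.sum_congr rfl fun j _ => by rw [Algebra.smul_def, mul_comm]
  have h0 : ι.lTensor G' (σ ⊗ₜ[G] (J.mkQ 1)) = 0 := by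
    rw [LinearMap.lTensor_tmul]
    change σ ⊗ₜ[G] ((LinearMap.range d₁).mkQ ((LinearMap.toSpanSingleton G _ x) 1)) = 0
    rw [LinearMap.toSpanSingleton_apply, one_smul]
    have := congrArg ((LinearMap.range d₁).mkQ.lTensor G') e1
    simp only [map_sum, LinearMap.lTensor_tmul] at this
    rw [this]
    refine Finset.sum_eq_zero fun j _ => ?_
    rw [Submodule.mkQ_apply, (Submodule.Quotient.mk_eq_zero (LinearMap.range d₁)).2 (LinearMap.mem_range_self _ _),
      tmul_zero]
  have h3 := congrArg (TensorProduct.tensorQuotEquivQuotSMul G' J) (h1 (h0.trans (map_zero _).symm))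
  rw [map_zero, show J.mkQ 1 = Ideal.Quotient.mk J 1 from rfl,
    TensorProduct.tensorQuotEquivQuotSMul_tmul_mk, one_smul, Submodule.Quotient.mk_eq_zero,
    Ideal.smul_top_eq_map] at h3
  exact h3

theorem exists_denom (A₂ B₂ : Type u) [CommRing A₂] [CommRing B₂] [Algebra A₂ B₂] (p₂ : Ideal A₂) [p₂.IsPrime]
    (t : p₂.ResidueField ⊗[A₂] B₂) : ∃ a : A₂, a ∉ p₂ ∧ ∃ b : B₂, toFibre A₂ B₂ p₂ b = a • t := by
  induction t using TensorProduct.induction_on with
  | zero => exact ⟨1, fun h1 => (inferInstance : p₂.IsPrime).ne_top ((Ideal.eq_top_iff_one _).2 h1), 0, by simp⟩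
  | tmul c b =>
    obtain ⟨c, rfl⟩ := IsLocalRing.residue_surjective c
    obtain ⟨r, d, rfl⟩ := IsLocalization.exists_mk'_eq p₂.primeCompl c
    refine ⟨d, d.2, r • b, ?_⟩
    rw [TensorProduct.smul_tmul']
    change (1 : p₂.ResidueField) ⊗ₜ[A₂] (r • b) = _
    rw [← TensorProduct.smul_tmul]
    congr 1
    rw [Algebra.smul_def, mul_one, Algebra.smul_def,
      IsScalarTower.algebraMap_apply A₂ (Localization.AtPrime p₂) p₂.ResidueField,
      IsScalarTower.algebraMap_apply A₂ (Localization.AtPrime p₂) p₂.ResidueField,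
      IsLocalRing.ResidueField.algebraMap_eq, ← map_mul, IsLocalization.mk'_spec']
  | add c c' hc hc' =>
    obtain ⟨a, ha, b, hb⟩ := hc
    obtain ⟨a', ha', b', hb'⟩ := hc'
    refine ⟨a * a', fun hm => ((inferInstance : p₂.IsPrime).mem_or_mem hm).elim ha ha', a' • b + a • b', ?_⟩
    have hl : ∀ (a : A₂) (b : B₂), toFibre A₂ B₂ p₂ (a • b) = a • toFibre A₂ B₂ p₂ b :=
      fun a b => TensorProduct.tmul_smul _ _ _
    rw [map_add, hl, hl, hb, hb', smul_add, smul_smul, smul_smul, mul_comm a' a]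

theorem fibEx_descend (e : A ⊗[A₂] B₂ ≃ₐ[A] B) (q : Ideal B) [q.IsPrime]
    {E₁ : Matrix (Fin n₂) (Fin n₁) B₂} {E₂ : Matrix (Fin n₃) (Fin n₂) B₂}
    (h : FibEx (A := A) q (E₁.map (bcHom e)) (E₂.map (bcHom e))) :
    FibEx (A := A₂) (q.comap (bcHom e)) E₁ E₂ := by
  let q₂ : Ideal B₂ := q.comap (bcHom e)
  let p := q.under A
  let p₂ := q₂.under A₂
  have hp : p₂ = p.comap (algebraMap A₂ A) := Ideal.ext fun a => by
    change bcHom e (algebraMap A₂ B₂ a) ∈ q ↔ algebraMap A B (algebraMap A₂ A a) ∈ q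
    rw [bcHom_algebraMap]
  letI : Algebra p₂.ResidueField p.ResidueField := (Ideal.ResidueField.map p₂ p (algebraMap A₂ A) hp).toAlgebra
  haveI : IsScalarTower A₂ p₂.ResidueField p.ResidueField := IsScalarTower.of_algebraMap_eq fun a =>
    (IsScalarTower.algebraMap_apply A₂ A p.ResidueField a).trans (Ideal.ResidueField.map_algebraMap _ _ _ hp a).symm
  let eF := fibreEquiv e p₂.ResidueField p.ResidueField
  let G := p₂.ResidueField ⊗[A₂] B₂
  have heF : ∀ b : B₂, eF (toFibre A B p (bcHom e b)) =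
      algebraMap G (G ⊗[p₂.ResidueField] p.ResidueField) (toFibre A₂ B₂ p₂ b) :=
    fun b => fibreEquiv_apply e p₂.ResidueField p.ResidueField b
  let χ : p.ResidueField ⊗[A] B →ₐ[A] q.ResidueField := Algebra.TensorProduct.lift
    (Ideal.ResidueField.mapₐ p q (Algebra.ofId A B) rfl)
    (IsScalarTower.toAlgHom A B q.ResidueField) fun _ _ => Commute.all _ _
  have hχ : ∀ b : B, χ (toFibre A B p b) = 0 ↔ b ∈ q := fun b => by
    simp [χ, toFibre, Ideal.algebraMap_residueField_eq_zero]
  intro x hx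
  have hx' : act (p.ResidueField ⊗[A] B) ((E₂.map (bcHom e)).map (toFibre A B p))
      (fun j => eF.symm (algebraMap G _ (x j))) = 0 := by
    funext i
    apply eF.injective
    rw [act_apply, map_sum, Pi.zero_apply, map_zero]
    change ∑ j, eF (toFibre A B p (bcHom e (E₂ i j)) * eF.symm (algebraMap G _ (x j))) = 0
    simp only [map_mul, heF, RingEquiv.apply_symm_apply]
    have h0 : ∑ j, toFibre A₂ B₂ p₂ (E₂ i j) * x j = 0 := by
      simpa [act_apply] using congrFun hx i
    exact (Finset.sum_congr rfl fun j _ => (map_mul _ _ _).symm).trans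
      (((map_sum _ _ _).symm.trans (congrArg _ h0)).trans (map_zero _))
  obtain ⟨s, hs, y, hy⟩ := h _ hx'
  let d₁ := act G (E₁.map (toFibre A₂ B₂ p₂))
  have hJ := mem_map_colon_of_flat (G' := G ⊗[p₂.ResidueField] p.ResidueField) d₁ x
    (eF (toFibre A B p s)) (fun j => eF (y j)) fun i => by
      have h1 := congrArg eF (congrFun hy i)
      rw [act_apply, map_sum, Pi.smul_apply, smul_eq_mul, map_mul, RingEquiv.apply_symm_apply] at h1
      simp only [Matrix.map_apply, smul_eq_mul, map_mul, heF] at h1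
      rw [← h1]
      refine Finset.sum_congr rfl fun j _ => ?_
      simp [d₁, act_apply, Pi.single_apply]
      rfl
  let q' : Ideal (G ⊗[p₂.ResidueField] p.ResidueField) := RingHom.ker (χ.toRingHom.comp eF.symm.toRingHom)
  obtain ⟨t, htJ, htq⟩ : ∃ t ∈ ((LinearMap.range d₁).comap (LinearMap.toSpanSingleton G _ x) : Ideal G),
      algebraMap G _ t ∉ q' := by
    by_contra hcon
    push Not at hcon
    have := Ideal.map_le_iff_le_comap.2 (fun t ht => Ideal.mem_comap.2 (hcon t ht)) hJ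
    exact hs ((hχ s).1 (by simpa [q', RingHom.mem_ker] using this))
  obtain ⟨a, ha, b, hab⟩ := exists_denom A₂ B₂ p₂ t
  refine ⟨b, fun hb => ?_, ?_⟩
  · have hb' : algebraMap G _ (toFibre A₂ B₂ p₂ b) ∈ q' := by
      rw [← heF]
      simp only [q', RingHom.mem_ker, RingHom.coe_comp, Function.comp_apply, RingEquiv.toRingHom_eq_coe,
        RingHom.coe_coe, RingEquiv.symm_apply_apply]
      exact (hχ _).2 hb
    rw [hab, Algebra.smul_def, map_mul] at hb'
    have hu : IsUnit (algebraMap A₂ G a) := by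
      rw [IsScalarTower.algebraMap_apply A₂ p₂.ResidueField G]
      exact (isUnit_iff_ne_zero.2 fun h0 => ha (Ideal.algebraMap_residueField_eq_zero.1 h0)).map _
    obtain ⟨v, hv⟩ := hu.map (algebraMap G (G ⊗[p₂.ResidueField] p.ResidueField))
    refine htq ?_
    have := q'.mul_mem_left (↑v⁻¹ : G ⊗[p₂.ResidueField] p.ResidueField) hb'
    rwa [← hv, ← mul_assoc, Units.inv_mul, one_mul] at this
  · obtain ⟨w, hw⟩ : t • x ∈ LinearMap.range d₁ := htJ
    exact ⟨algebraMap A₂ G a • w, by rw [map_smul, hw, hab, smul_smul, ← Algebra.smul_def]⟩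

theorem exAt_baseChange (e : A ⊗[A₂] B₂ ≃ₐ[A] B) (q : Ideal B) (M : Type u) [AddCommGroup M] [Module A M]
    [Module A₂ M] [IsScalarTower A₂ A M]
    {E₁ : Matrix (Fin n₂) (Fin n₁) B₂} {E₂ : Matrix (Fin n₃) (Fin n₂) B₂}
    (h : ExAt (q.comap (bcHom e)) (B₂ ⊗[A₂] M) E₁ E₂) :
    ExAt q (B ⊗[A] M) (E₁.map (bcHom e)) (E₂.map (bcHom e)) := by
  let eM : B₂ ⊗[A₂] M ≃+ B ⊗[A] M :=
    (TensorProduct.comm A₂ B₂ M).toAddEquiv.trans
      ((AlgebraTensorModule.cancelBaseChange A₂ A A M B₂).symm.toAddEquiv.trans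
        ((TensorProduct.congr (LinearEquiv.refl A M) e.toLinearEquiv).trans (TensorProduct.comm A M B)).toAddEquiv)
  have heM : ∀ b m, eM (b ⊗ₜ m) = bcHom e b ⊗ₜ m := fun b m => by
    simp [eM, bcHom]
  refine exAt_map (bcHom e) eM.toAddMonoidHom (fun b z => ?_) eM.bijective q h
  induction z using TensorProduct.induction_on with
  | zero => simp
  | tmul c m =>
    change eM (b • c ⊗ₜ m) = bcHom e b • eM (c ⊗ₜ m)
    rw [TensorProduct.smul_tmul', heM, heM, smul_eq_mul, map_mul, TensorProduct.smul_tmul', smul_eq_mul]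
  | add z w hz hw => simp only [smul_add, map_add, hz, hw]

theorem exAt_of_model (e : A ⊗[A₂] B₂ ≃ₐ[A] B) [IsNoetherianRing B₂] [Module.Flat A₂ B₂] (q : Ideal B) [q.IsPrime]
    (M : Type u) [AddCommGroup M] [Module A M]
    {E₁ : Matrix (Fin n₂) (Fin n₁) B₂} {E₂ : Matrix (Fin n₃) (Fin n₂) B₂} (hE : E₂ * E₁ = 0)
    {D₁ : Matrix (Fin n₂) (Fin n₁) B} {D₂ : Matrix (Fin n₃) (Fin n₂) B}
    (hψ₁ : E₁.map (bcHom e) = D₁) (hψ₂ : E₂.map (bcHom e) = D₂) (h : FibEx (A := A) q D₁ D₂) :
    ExAt q (B ⊗[A] M) D₁ D₂ := by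
  letI : Module A₂ M := Module.compHom M (algebraMap A₂ A)
  haveI : IsScalarTower A₂ A M := IsScalarTower.of_algebraMap_smul fun _ _ => rfl
  subst hψ₁ hψ₂
  exact exAt_baseChange e q M (exAt_of_fibEx_noetherian (q.comap (bcHom e)) hE (fibEx_descend e q h) M)

end BaseChange

set_option synthInstance.maxHeartbeats 400000 in
/-- Exactness from exactness on a fibre, for flat algebras of finite presentation. -/
theorem exAt_of_fibEx {A B : Type u} [CommRing A] [CommRing B] [Algebra A B] [Algebra.FinitePresentation A B]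
    [Module.Flat A B] (q : Ideal B) [q.IsPrime] {D₁ : Matrix (Fin n₂) (Fin n₁) B}
    {D₂ : Matrix (Fin n₃) (Fin n₂) B} (h12 : D₂ * D₁ = 0) (h : FibEx (A := A) q D₁ D₂)
    (M : Type u) [AddCommGroup M] [Module A M] : ExAt q (B ⊗[A] M) D₁ D₂ := by
  classical
  obtain ⟨R, C, instC, instRC, hR, hfp, hflat, ⟨eC⟩⟩ := FppfSource.exists_flat_model ℤ A B
  haveI : Algebra.FiniteType ℤ R := ⟨(Subalgebra.fg_top R).2 hR⟩
  haveI : IsNoetherianRing R := Algebra.FiniteType.isNoetherianRing ℤ R
  let I := (Fin n₂ × Fin n₁) ⊕ (Fin n₃ × Fin n₂)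
  let ent : I → A ⊗[R] C := Sum.elim (fun ij => eC (D₁ ij.1 ij.2)) fun ij => eC (D₂ ij.1 ij.2)
  choose Ai zi hAi hzi using fun k => FlatH4.exists_subTensor_eq (ent k)
  obtain ⟨A₁, hA₁, hA₁le⟩ : ∃ A₁ : Subalgebra R A, A₁.FG ∧ ∀ k, Ai k ≤ A₁ :=
    ⟨Finset.univ.sup Ai, Finset.sup_induction Subalgebra.fg_bot (fun a ha b hb => ha.sup hb) (fun k _ => hAi k),
      fun k => Finset.le_sup (f := Ai) (Finset.mem_univ k)⟩
  let en : I → A₁ ⊗[R] C := fun k => FlatH4.inclTensor (hA₁le k) C (zi k)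
  have hen : ∀ k, FlatH4.subTensor A₁ C (en k) = ent k := fun k => by
    rw [FlatH4.subTensor_inclTensor, hzi]
  obtain ⟨A₂, hle, hA₂, hmul⟩ := FlatH4.exists_forall_inclTensor_eq hA₁
    (fun ij : Fin n₃ × Fin n₁ => ∑ k : Fin n₂, en (Sum.inr (ij.1, k)) * en (Sum.inl (k, ij.2))) (fun _ => 0)
    fun ij => by
      simp only [map_zero]
      rw [map_sum]
      simp only [map_mul, hen]
      change ∑ k, eC (D₂ ij.1 k) * eC (D₁ k ij.2) = 0
      simp only [← map_mul]
      rw [← map_sum, ← Matrix.mul_apply, h12, Matrix.zero_apply, map_zero]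
  haveI : Algebra.FiniteType R A₂ := ⟨(Subalgebra.fg_top A₂).2 hA₂⟩
  haveI : IsNoetherianRing A₂ := Algebra.FiniteType.isNoetherianRing R A₂
  haveI : Algebra.FiniteType R C := inferInstance
  haveI : IsNoetherianRing (A₂ ⊗[R] C) := Algebra.FiniteType.isNoetherianRing A₂ (A₂ ⊗[R] C)
  let E₁ : Matrix (Fin n₂) (Fin n₁) (A₂ ⊗[R] C) := fun i j => FlatH4.inclTensor hle C (en (Sum.inl (i, j)))
  let E₂ : Matrix (Fin n₃) (Fin n₂) (A₂ ⊗[R] C) := fun i j => FlatH4.inclTensor hle C (en (Sum.inr (i, j)))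
  have hE : E₂ * E₁ = 0 := Matrix.ext fun i j => by
    have := hmul (i, j)
    simp only [map_sum, map_mul, map_zero] at this
    exact this
  let e : A ⊗[A₂] (A₂ ⊗[R] C) ≃ₐ[A] B := (Algebra.TensorProduct.cancelBaseChange R A₂ A A C).trans eC.symm
  have hbc : ∀ z, bcHom e z = eC.symm (FlatH4.subTensor A₂ C z) := fun z => by
    induction z using TensorProduct.induction_on with
    | zero => simp
    | tmul a c =>
      simp [bcHom, e, FlatH4.subTensor, Algebra.smul_def]
    | add z w hz hw => simp only [map_add, hz, hw]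
  refine exAt_of_model e q M (E₁ := E₁) (E₂ := E₂) hE (D₁ := D₁) (D₂ := D₂) ?_ ?_ h
  · refine Matrix.ext fun i j => ?_
    rw [Matrix.map_apply]
    refine (hbc _).trans ?_
    rw [FlatH4.subTensor_inclTensor, hen]
    exact eC.symm_apply_apply _
  · refine Matrix.ext fun i j => ?_
    rw [Matrix.map_apply]
    refine (hbc _).trans ?_
    rw [FlatH4.subTensor_inclTensor, hen]
    exact eC.symm_apply_apply _

end Groth.Agent.RelPCS4.FibreExact
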