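import Groth.Agent.Lib.RelPCS4.Sections
import Groth.Agent.Lib.RelPC8.Tower
import Groth.Agent.Lib.DBC9.Good

/-!
# Relative pseudo-coherence and direct image along finite morphisms
-/

set_option autoImplicit false
set_option linter.style.haveILetI false
set_option backward.isDefEq.respectTransparency false

universe u

open CategoryTheory Limits AlgebraicGeometry Opposite TopologicalSpace MvPolynomial

attribute [local instance] HasDerivedCategory.standard

namespace Groth.Agent.RelPCS4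

open RelPCS8

theorem good_iff_rel {X S : Scheme.{u}} {f : X ⟶ S} [LocallyOfFiniteType f] {U : X.Opens} {V : S.Opens}
    (hU : IsAffineOpen U) (hV : IsAffineOpen V) (hle : U ≤ f ⁻¹ᵁ V) (m : ℤ) (E : DCoh.D X) (M : Dual.D Γ(X, U))
    (eM : (DPerf.tildeDD Γ(X, U)).obj M ≅ (DPerf.resD hU.fromSpec).obj E) :
    Good f m E U V ↔ (letI := (f.appLE V U hle).hom.toAlgebra
      DerCA.IsRelPseudoCoherent Γ(S, V) Γ(X, U) m M) := by
  letI := (f.appLE V U hle).hom.toAlgebra
  constructor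
  · intro hg
    obtain ⟨n, φ, hφ⟩ := exists_chart_of_lft (f := f) hU hV hle
    exact ⟨n, { toRingHom := φ, commutes' := fun r => RingHom.congr_fun hφ.2 r }, hφ.1,
      (test_iff_sections hU φ hφ.1 m E M eM).1 (hg.test hφ)⟩
  · rintro ⟨n, α, hα, hpc⟩
    exact ⟨hU, hV, hle, n, α.toRingHom, ⟨hα, RingHom.ext fun r => α.commutes r⟩,
      (test_iff_sections hU α.toRingHom hα m E M eM).2 hpc⟩

variable {X Y S : Scheme.{u}} (p : X ⟶ S) (q : Y ⟶ S) [LocallyOfFiniteType p] [LocallyOfFiniteType q]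
  (π : X ⟶ Y) [IsFinite π] [DCoh.HasRpush π]

theorem good_finite_iff (w : π ≫ q = p) (m : ℤ) (E : DCoh.D X) (hE : DCoh.IsQCohD E) {U : Y.Opens} {V : S.Opens}
    (hU : IsAffineOpen U) (hV : IsAffineOpen V) (hle : U ≤ q ⁻¹ᵁ V) :
    Good p m E (π ⁻¹ᵁ U) V ↔ Good q m ((DCoh.Rpush π).obj E) U V := by
  subst w
  let W := π ⁻¹ᵁ U
  have hW : IsAffineOpen W := hU.preimage π
  have hle' : W ≤ (π ≫ q) ⁻¹ᵁ V := fun z hz => hle hz
  obtain ⟨M, ⟨eM⟩⟩ := exists_sections hW E hE
  let b : Γ(Y, U) ⟶ Γ(X, W) := π.appLE U W le_rfl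
  have hb : b.hom.Finite := by
    have := π.finite_app U hU
    simpa [b, W, Scheme.Hom.appLE] using this
  have H : IsPullback (Spec.map b) hW.fromSpec hU.fromSpec π := by
    refine IsOpenImmersion.isPullback _ _ _ _ (hU.SpecMap_appLE_fromSpec π hW le_rfl).symm ?_
    apply Opens.ext
    change π ⁻¹' (hU.fromSpec.opensRange : Set Y) = (hW.fromSpec.opensRange : Set X)
    rw [hW.opensRange_fromSpec, hU.opensRange_fromSpec]
    rfl
  haveI : DCoh.HasRpush (Spec.map b) :=
    KInjLib.hasRightDerivedFunctor (A := (Spec Γ(X, W)).Modules) KInjLib.enoughKInj_of_grothendieck _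
  haveI : PreservesFiniteLimits (tilde.functor Γ(Y, U)) := M1.tilde_preservesFiniteLimits
  haveI : PreservesFiniteLimits (tilde.functor Γ(X, W)) := M1.tilde_preservesFiniteLimits
  obtain ⟨e₁⟩ := DBC9.nonempty_res_rpush π (Spec.map b) hU.fromSpec hW.fromSpec H
  obtain ⟨e₂⟩ := DPush9.nonempty_tildeD_rpush_iso b
  let eM' : (DPerf.tildeDD Γ(Y, U)).obj ((DRing.restrictD b.hom).obj M) ≅
      (DPerf.resD hU.fromSpec).obj ((DCoh.Rpush π).obj E) :=
    (e₂.app M).symm ≪≫ (DCoh.Rpush (Spec.map b)).mapIso eM ≪≫ (e₁.app E).symm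
  rw [good_iff_rel hW hV hle' m E M eM, good_iff_rel hU hV hle m _ _ eM']
  letI := (q.appLE V U hle).hom.toAlgebra
  letI := ((π ≫ q).appLE V W hle').hom.toAlgebra
  letI := b.hom.toAlgebra
  haveI : IsScalarTower Γ(S, V) Γ(Y, U) Γ(X, W) := IsScalarTower.of_algebraMap_eq fun r =>
    congrArg (fun t => t.hom r) (Scheme.Hom.appLE_comp_appLE π q V U W hle le_rfl).symm
  haveI : Algebra.FiniteType Γ(S, V) Γ(Y, U) := q.finiteType_appLE hV hU hle
  haveI : Module.Finite Γ(Y, U) Γ(X, W) := hb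
  exact RelPC8.rel_iff_of_finite m M

/-- Relative pseudo-coherence along a finite morphism. -/
theorem rel_finite_iff (w : π ≫ q = p) (m : ℤ) (E : DCoh.D X) (hE : DCoh.IsQCohD E) :
    DerSch.IsPseudoCoherentRel p m E ↔ DerSch.IsPseudoCoherentRel q m ((DCoh.Rpush π).obj E) := by
  constructor
  · intro h
    refine rel_iff.2 ⟨inferInstance, fun U V hU hV hle => (good_finite_iff p q π w m E hE hU hV hle).1
      ((rel_iff.1 h).2 _ V (hU.preimage π) hV (fun z hz => ?_))⟩
    rw [← w]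
    exact hle hz
  · intro h
    refine rel_of_locally fun x => ?_
    obtain ⟨V, hV, hxV, -⟩ := exists_isAffineOpen_mem_and_subset (U := (⊤ : S.Opens)) (x := q (π x)) trivial
    obtain ⟨U, hU, hxU, hle⟩ := exists_isAffineOpen_mem_and_subset (U := q ⁻¹ᵁ V) hxV
    exact ⟨π ⁻¹ᵁ U, V, hxU, (good_finite_iff p q π w m E hE hU hV hle).2 ((rel_iff.1 h).2 U V hU hV hle)⟩

end Groth.Agent.RelPCS4
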