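import Groth.Agent.Lib.RelPCS8.ClosedPush
import Groth.Agent.Lib.DPerf.Top
import Groth.Agent.Lib.DPerf.Free

/-!
# Direct image along a closed immersion reflects pseudo-coherence, with a finite level
-/

set_option autoImplicit false
set_option linter.style.haveILetI false
set_option backward.isDefEq.respectTransparency false

universe u

open CategoryTheory Limits CategoryTheory.Pretriangulated AlgebraicGeometry Opposite TopologicalSpace

attribute [local instance] HasDerivedCategory.standard

namespace Groth.Agent.RelPCS4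

open RelPCS8

variable {X Z : Scheme.{u}}

/-- The direct image of the structure sheaf is `l`-pseudo-coherent. -/
def PushOLevel (i : Z ⟶ X) (l : ℤ) : Prop :=
  DPerf.Approx (Set.Ici l) (DCoh.inD X ((Scheme.Modules.pushforward i).obj (Coh.structureModule Z)))

theorem pushOLevel_restrict {i : Z ⟶ X} [IsClosedImmersion i] {l : ℤ} (h : PushOLevel i l) (V : X.Opens) :
    PushOLevel (i ∣_ V) l :=
  (h.res V).of_iso
    (((Scheme.Modules.restrictFunctor V.ι).mapDerivedCategorySingleFunctor 0).app _ ≪≫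
      (DerivedCategory.singleFunctor (V : Scheme.{u}).Modules 0).mapIso
        ((pushBCFunctor (isPullback_open i V)).app (Coh.structureModule Z) ≪≫
          (Scheme.Modules.pushforward (i ∣_ V)).mapIso (Scheme.Modules.restrictUnitIso (i ⁻¹ᵁ V).ι)))

theorem approx_push_isFinLocFree_level {i : Z ⟶ X} [IsClosedImmersion i] {m : ℤ} (hO : PushOLevel i m)
    {P : Z.Modules} (hP : FlatMod.IsFinLocFree P) :
    DPerf.Approx (Set.Ici m) (DCoh.inD X ((Scheme.Modules.pushforward i).obj P)) := by
  refine DPerf.approx_inD_of_restrict fun x => ?_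
  by_cases hx : x ∈ Set.range i
  · obtain ⟨z, rfl⟩ := hx
    obtain ⟨U, n, hzU, ⟨e⟩⟩ := hP z
    obtain ⟨V, rfl⟩ := exists_open_eq i U
    exact ⟨V, hzU, (approx_push_freeMod (i ∣_ V) m (pushOLevel_restrict hO V) n).of_iso
      ((DerivedCategory.singleFunctor (V : Scheme.{u}).Modules 0).mapIso
        ((Scheme.Modules.pushforward (i ∣_ V)).mapIso e.symm ≪≫ ((pushBCFunctor (isPullback_open i V)).app P).symm))⟩
  · let V : X.Opens := ⟨(Set.range i)ᶜ, i.isClosedEmbedding.isClosed_range.isOpen_compl⟩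
    haveI := isEmpty_compl i
    exact ⟨V, hx, approx_inD_of_isZero ((((Scheme.Modules.pushforward (i ∣_ V)).map_isZero
      (SerreCl8.isZero_of_support_eq_empty (Set.eq_empty_of_forall_notMem fun z _ => isEmptyElim z))).of_iso
        ((pushBCFunctor (isPullback_open i V)).app P)))⟩

theorem approx_push_perfect_level {i : Z ⟶ X} [IsClosedImmersion i] {m b : ℤ} (hO : PushOLevel i (m - b))
    {E : CochainComplex Z.Modules ℤ} (hE : DCoh.IsStrictlyPerfect E) (hb : ∀ k, b < k → E.ExactAt k) :
    DPerf.Approx (Set.Ici m) ((pushD i).obj (DCoh.toD Z E)) := by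
  haveI : E.IsLE b := (CochainComplex.isLE_iff E b).2 hb
  let E₁ := E.truncLE b
  let e₁ : DCoh.toD Z E₁ ≅ DCoh.toD Z E := asIso (DerivedCategory.Q.map (E.ιTruncLE b))
  have hf : ∀ k, FlatMod.IsFinLocFree (E₁.X k) := fun k => by
    rcases lt_trichotomy k b with hi | hi | hi
    · exact M2.isFinLocFree_of_iso (CochainComplex.truncLEXIso E b k hi).symm (hE.2 k)
    · subst hi
      exact M2.isFinLocFree_of_iso (CochainComplex.truncLEXIsoCycles E k).symm
        (DPerf.isFinLocFree_cycles hE k hb)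
    · exact KFlat.Sch.isFinLocFree_of_isZero (E₁.isZero_of_isStrictlyLE b k hi)
  obtain ⟨⟨a, c, hv⟩, -⟩ := hE
  refine DPerf.Approx.of_iso ((pushD i).mapIso e₁) ?_
  refine Groth.Agent.PCoh.termwise_induction (fun K => DPerf.Approx (Set.Ici m) ((pushD i).obj K)) E₁ (min a b) b
    (fun k hk => E₁.isZero_of_isStrictlyLE b k hk)
    (fun T hT h₁ h₃ => DPerf.approx_Ici₂ m _ ((pushD i).map_distinguished T hT) h₁ h₃)
    (fun K hK hK' => DPerf.approx_of_isZero_HD fun k _ => (isZero_HD_push_iff i _ k).2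
      ((KFlat.Sch.isZero_HD_toD_iff K k).2 (by
        rw [HomologicalComplex.exactAt_iff]
        refine ShortComplex.exact_of_isZero_X₂ _ ?_
        rcases lt_or_ge k (min a b) with h | h
        · exact ((hv k (Or.inl (h.trans_le (min_le_left a b)))).of_iso
            (CochainComplex.truncLEXIso E b k (h.trans_le (min_le_right a b)))).of_iso (hK' k h).some
        · exact hK k h)))
    fun k M _ hkb ⟨eM⟩ => ?_
  exact ((approx_push_isFinLocFree_level (m := m - k)
      (DPerf.Approx.mono_set (Set.Ici_subset_Ici.2 (by omega)) hO)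
      (M2.isFinLocFree_of_iso eM.symm (hf k))).shift_Ici (-k) m (by omega)).of_iso
    (((DerivedCategory.singleFunctors X.Modules).shiftIso (-k) k 0 (by omega)).app _ ≪≫
      (((Scheme.Modules.pushforward i).mapDerivedCategorySingleFunctor k).app M).symm)

theorem approx_of_push_level : ∀ (k : ℕ) {Z X : Scheme.{u}} (i : Z ⟶ X) [IsClosedImmersion i],
    PushOLevel i (2 - (k : ℤ)) → ∀ (m : ℤ) (K : DCoh.D Z), (∀ j, m + k ≤ j → IsZero (DCoh.HD K j)) →
      DPerf.Approx (Set.Ici m) ((pushD i).obj K) → DPerf.Approx (Set.Ici m) K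
  | 0, Z, X, i, _, _, m, K, hK, _ => DPerf.approx_of_isZero_HD fun j hj => hK j (by simpa using hj)
  | k + 1, Z, X, i, _, hO, m, K, hK, h => by
      obtain ⟨b, hb⟩ : ∃ b : ℤ, b = m + k := ⟨_, rfl⟩
      have hK' : ∀ j, b < j → IsZero (DCoh.HD K j) := fun j hj => hK j (by omega)
      have hFT : CohB1.IsFT (DCoh.HD K b) := isFT_of_push i (M1.isFT_of_isIso (hdPushDIso i K b)
        (DPerf.finiteType_top (DPerf.isPseudoCoherentD_of_approx (h.mono_set (Set.Ici_subset_Ici.2 (by omega))))
          fun j hj => (isZero_HD_push_iff i K j).2 (hK' j hj)))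
      refine DPerf.Approx.of_locally fun z => ?_
      obtain ⟨U, hzU, hU⟩ := (approx_of_isFT_top hK' hFT).exists_opens z
      obtain ⟨V, rfl⟩ := exists_open_eq i U
      obtain ⟨E, hE, α, hα⟩ := hU _ le_rfl
      refine ⟨_, hzU, ?_⟩
      obtain ⟨C, g, t, hT⟩ := distinguished_cocone_triangle α
      have hpush : DPerf.Approx (Set.Ici m) ((pushD (i ∣_ V)).obj ((DPerf.resD (i ⁻¹ᵁ V).ι).obj K)) :=
        (h.res V).of_iso ((pushBC (isPullback_open i V)).app K)
      have hEb : ∀ j, b < j → E.ExactAt j := fun j hj => by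
        have hKj : IsZero (DCoh.HD ((DPerf.resD (i ⁻¹ᵁ V).ι).obj K) j) :=
          ((Scheme.Modules.restrictFunctor _).map_isZero (hK' j hj)).of_iso
            (DPerf.hdResIso (i ⁻¹ᵁ V).ι K j)
        obtain ⟨l, hl⟩ : ∃ l, l + 1 = j := ⟨j - 1, by omega⟩
        subst hl
        haveI := (hα l (show b ≤ l by omega)).2
        exact (KFlat.Sch.isZero_HD_toD_iff E (l + 1)).1
          (IsZero.of_mono ((DerivedCategory.homologyFunctor _ (l + 1)).map α) hKj)
      have hO' := pushOLevel_restrict hO V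
      have hC : DPerf.Approx (Set.Ici m) ((pushD (i ∣_ V)).obj C) :=
        DPerf.approx_Ici₃ m _ ((pushD (i ∣_ V)).map_distinguished _ hT)
          (approx_push_perfect_level (b := b)
            (DPerf.Approx.mono_set (Set.Ici_subset_Ici.2 (by omega)) hO') hE hEb) hpush
      have := approx_of_push_level k (i ∣_ V) (DPerf.Approx.mono_set (Set.Ici_subset_Ici.2 (by omega)) hO') m C
        (fun j hj => DPerf.isZero_homology_of_dcond hT hα (show b ≤ j by omega)) hC
      exact DPerf.approx_Ici₂ m _ hT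
        (DPerf.Approx.mono_set (Set.subset_univ _) fun y => ⟨_, 𝟙 _, inferInstance, ⟨y, rfl⟩, _,
          DPerf.isStrictlyPerfect_res (𝟙 _) hE, (DPerf.resFac (𝟙 _)).inv.app E,
          DPerf.dcond_of_isIso _⟩) this

end Groth.Agent.RelPCS4
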