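import Groth.Agent.Lib.RelPCS8.Basic
import Groth.Agent.Lib.DPush9.Tilde
import Groth.Agent.Lib.RHom.ProjClosed
import Groth.Agent.Lib.DQC.Affine
import Groth.Agent.Lib.DQC.Pull
import Groth.Agent.Lib.DPerf.Tilde
import Groth.Agent.Lib.ModM1.Affine
import Groth.Agent.Lib.RelPC8.Via

/-!
# Relative pseudo-coherence in terms of sections over affine opens
-/

set_option autoImplicit false
set_option linter.style.haveILetI false
set_option backward.isDefEq.respectTransparency false

universe u

open CategoryTheory Limits AlgebraicGeometry Opposite TopologicalSpace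

attribute [local instance] HasDerivedCategory.standard

namespace Groth.Agent.RelPCS4

open RelPCS8

theorem isIso_restrictUnit {Y X : Scheme.{u}} (e : Y ⟶ X) [IsIso e] (M : X.Modules) :
    IsIso ((Scheme.Modules.restrictAdjunction e).unit.app M) := by
  rw [Scheme.Modules.Hom.isIso_iff_isIso_app]
  intro U
  rw [Scheme.Modules.restrictAdjunction_unit_app_app]
  have he : e ''ᵁ e ⁻¹ᵁ U = U := by
    rw [Scheme.Hom.image_preimage_eq_opensRange_inf, Scheme.Hom.opensRange_of_isIso, top_inf_eq]
  rw [show homOfLE (e.image_preimage_le U) = eqToHom he from Subsingleton.elim _ _]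
  infer_instance

/-- Restriction to an isomorphic scheme and back. -/
noncomputable def pushResIso {Y X : Scheme.{u}} (e : Y ⟶ X) [IsIso e] :
    DPerf.resD e ⋙ pushD e ≅ 𝟭 (DCoh.D X) :=
  haveI : IsIso (Scheme.Modules.restrictAdjunction e).unit :=
    (NatTrans.isIso_iff_isIso_app _).2 (isIso_restrictUnit e)
  letI : Localization.Lifting DerivedCategory.Q
      (HomologicalComplex.quasiIso X.Modules (ComplexShape.up ℤ))
      (DPerf.resX e ⋙ pushX e ⋙ DerivedCategory.Q) (DPerf.resD e ⋙ pushD e) :=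
    ⟨(Functor.associator _ _ _).symm ≪≫ Functor.isoWhiskerRight (DPerf.resFac e) _ ≪≫ Functor.associator _ _ _ ≪≫
      Functor.isoWhiskerLeft _ (pushFac e)⟩
  letI : Localization.Lifting DerivedCategory.Q
      (HomologicalComplex.quasiIso X.Modules (ComplexShape.up ℤ))
      (DerivedCategory.Q : CochainComplex X.Modules ℤ ⥤ DCoh.D X) (𝟭 (DCoh.D X)) := ⟨Functor.rightUnitor _⟩
  Localization.liftNatIso DerivedCategory.Q (HomologicalComplex.quasiIso X.Modules (ComplexShape.up ℤ))
    (DPerf.resX e ⋙ pushX e ⋙ DerivedCategory.Q) DerivedCategory.Q _ _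
    ((Functor.associator _ _ _).symm ≪≫
      Functor.isoWhiskerRight
        (NatIso.mapHomologicalComplex (asIso (Scheme.Modules.restrictAdjunction e).unit).symm (ComplexShape.up ℤ) ≪≫
          Functor.mapHomologicalComplexIdIso X.Modules (ComplexShape.up ℤ)) _ ≪≫
      Functor.leftUnitor _)

variable {X : Scheme.{u}} {U : X.Opens}

/-- Restriction to an affine open as restriction along `fromSpec`. -/
theorem nonempty_sections_iso (hU : IsAffineOpen U) [IsIso U.toSpecΓ] (E : DCoh.D X) :
    Nonempty ((pushD U.toSpecΓ).obj ((DPerf.resD U.ι).obj E) ≅ (DPerf.resD hU.fromSpec).obj E) :=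
  ⟨(pushD U.toSpecΓ).mapIso ((resDCongr (j := U.ι) (j' := U.toSpecΓ ≫ hU.fromSpec)
      (IsAffineOpen.toSpecΓ_fromSpec hU).symm).app E ≪≫ ((DPerf.resDComp hU.fromSpec U.toSpecΓ).app E).symm) ≪≫
    (pushResIso U.toSpecΓ).app _⟩

/-- The test on a chart, read on a module complex of sections. -/
theorem test_iff_sections (hU : IsAffineOpen U) {P : Type u} [CommRing P] (φ : P →+* Γ(X, U))
    (hφ : Function.Surjective φ) (m : ℤ) (E : DCoh.D X) (M : Dual.D Γ(X, U))
    (eM : (DPerf.tildeDD Γ(X, U)).obj M ≅ (DPerf.resD hU.fromSpec).obj E) :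
    Test m E U φ ↔ DRing.IsPseudoCoherent P m ((DRing.restrictD φ).obj M) := by
  let φ' : CommRingCat.of P ⟶ Γ(X, U) := CommRingCat.ofHom φ
  haveI := isClosedImmersion_imm hU φ hφ
  haveI : IsClosedImmersion (Spec.map φ') := IsClosedImmersion.spec_of_surjective _ (by exact hφ)
  haveI : IsIso U.toSpecΓ := by rw [← hU.isoSpec_hom]; infer_instance
  haveI : DCoh.HasRpush (Spec.map φ') :=
    KInjLib.hasRightDerivedFunctor (A := (Spec Γ(X, U)).Modules) KInjLib.enoughKInj_of_grothendieck _
  haveI : PreservesFiniteLimits (tilde.functor (CommRingCat.of P)) := M1.tilde_preservesFiniteLimits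
  haveI : PreservesFiniteLimits (tilde.functor Γ(X, U)) := M1.tilde_preservesFiniteLimits
  obtain ⟨t⟩ := DPush9.nonempty_tildeD_rpush_iso φ'
  obtain ⟨r⟩ := RHom.nonempty_rpushIso (Spec.map φ')
  obtain ⟨s⟩ := nonempty_sections_iso hU E
  let d : (pushD (imm U φ)).obj ((DPerf.resD U.ι).obj E) ≅
      (DPerf.tildeDD (CommRingCat.of P)).obj ((DRing.restrictD φ).obj M) :=
    ((pushDComp U.toSpecΓ (Spec.map φ')).app _).symm ≪≫
      (pushD (Spec.map φ')).mapIso (s ≪≫ eM.symm) ≪≫ (r.app _).symm ≪≫ t.app M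
  rw [← DPerf.pc_tilde_iff (R := CommRingCat.of P) m]
  exact ⟨fun h => DPerf.isPseudoCoherentD_of_approx ((h inferInstance).of_iso d),
    fun h _ => (DPerf.approx_of_isPseudoCoherentD h).of_iso d.symm⟩

/-- Sections of an object with quasi-coherent cohomology over an affine open. -/
theorem exists_sections (hU : IsAffineOpen U) (E : DCoh.D X) (hE : DCoh.IsQCohD E) :
    ∃ M : Dual.D Γ(X, U), Nonempty ((DPerf.tildeDD Γ(X, U)).obj M ≅ (DPerf.resD hU.fromSpec).obj E) :=
  DQC.exists_iso_of_isQCohD _ (DQC.isQCohD_resD hU.fromSpec hE)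

end Groth.Agent.RelPCS4
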