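import Groth.Agent.S7022
import Groth.Agent.S7198
import Groth.Agent.S7226
import Groth.Agent.Lib.RelPCS4.Finite
import Groth.Agent.Lib.RelPCS4.Comp
import Groth.Agent.Lib.DQC.Pull

/-!
# Relative pseudo-coherence descends along fppf coverings of the source
-/

set_option autoImplicit false
set_option linter.style.haveILetI false
set_option backward.isDefEq.respectTransparency false
set_option maxHeartbeats 1000000

universe u

open CategoryTheory Limits Pretriangulated AlgebraicGeometry TopologicalSpace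

attribute [local instance] HasDerivedCategory.standard

namespace Groth.Agent.RelPCS4

open RelPCS8

/-- Relative pseudo-coherence is local on the source. -/
theorem rel_of_res_cover {X S : Scheme.{u}} (f : X ⟶ S) [LocallyOfFiniteType f] {m : ℤ} {K : DCoh.D X}
    (h : ∀ x : X, ∃ (Z : Scheme.{u}) (j : Z ⟶ X) (_ : IsOpenImmersion j), x ∈ Set.range j ∧
      DerSch.IsPseudoCoherentRel (j ≫ f) m ((DPerf.resD j).obj K)) : DerSch.IsPseudoCoherentRel f m K := by
  refine rel_of_locally fun x => ?_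
  obtain ⟨Z, j, hj, ⟨z, rfl⟩, hR⟩ := h x
  obtain ⟨W, V, hW, hg⟩ := exists_good_of_rel hR z
  exact ⟨j ''ᵁ W, V, ⟨z, hW, rfl⟩, good_of_image j hg⟩

/-- A finite projective algebra with surjective spectrum retracts onto the base. -/
theorem exists_retraction {A B : Type u} [CommRing A] [CommRing B] [Algebra A B] [Module.Finite A B]
    [Module.Projective A B] (hs : Function.Surjective (PrimeSpectrum.comap (algebraMap A B))) :
    ∃ r : B →ₗ[A] A, r 1 = 1 := by
  let ev : (B →ₗ[A] A) →ₗ[A] A := LinearMap.applyₗ 1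
  suffices htop : LinearMap.range ev = ⊤ by
    obtain ⟨r, hr⟩ := LinearMap.range_eq_top.1 htop 1
    exact ⟨r, hr⟩
  by_contra hne
  obtain ⟨𝔪, hm, hle⟩ := Ideal.exists_le_maximal (LinearMap.range ev : Ideal A) hne
  obtain ⟨Q, hQ⟩ := hs ⟨𝔪, hm.isPrime⟩
  obtain ⟨n, f, g, hf, hg, hfg⟩ := Module.Finite.exists_comp_eq_id_of_projective A B
  refine Q.isPrime.ne_top ((Ideal.eq_top_iff_one _).2 ?_)
  have h1 : (1 : B) = f (g 1) := (LinearMap.congr_fun hfg 1).symm
  rw [h1, pi_eq_sum_univ (g 1), map_sum]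
  refine Ideal.sum_mem _ fun i _ => ?_
  rw [map_smul, Algebra.smul_def]
  refine Ideal.mul_mem_right _ _ (?_ : g 1 i ∈ Q.asIdeal.comap (algebraMap A B))
  rw [show Q.asIdeal.comap (algebraMap A B) = 𝔪 from congrArg PrimeSpectrum.asIdeal hQ]
  exact hle ⟨LinearMap.proj i ∘ₗ g, rfl⟩

/-- Relative pseudo-coherence passes to retracts. -/
theorem relPC_of_retract {R A : Type u} [CommRing R] [CommRing A] [Algebra R A] [Algebra.FiniteType R A]
    {m : ℤ} {K L : Dual.D A} (i : L ⟶ K) (p : K ⟶ L) (hip : i ≫ p = 𝟙 L)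
    (h : DerCA.IsRelPseudoCoherent R A m K) : DerCA.IsRelPseudoCoherent R A m L := by
  obtain ⟨C, g, w, hT⟩ := distinguished_cocone_triangle i
  haveI : IsSplitMono i := IsSplitMono.mk' ⟨p, hip⟩
  obtain ⟨e, -⟩ := exists_iso_binaryBiproduct_of_distTriang _ hT
    ((Triangle.mk i g w).mor₃_eq_zero_of_mono₁ hT (inferInstanceAs (Mono i)))
  obtain ⟨n, α, hα, hv⟩ := h
  exact ((S7022.result (R := R) m L C).1 ⟨n, α, hα, DMod.pc_of_iso ((DRing.restrictD _).mapIso e) hv⟩).1

/-- A complex is a retract of the restriction of its extension along a split algebra. -/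
theorem relPC_of_ext {R A B : Type u} [CommRing R] [CommRing A] [CommRing B] [Algebra R A] [Algebra.FiniteType R A]
    (φ : A →+* B) (r : @LinearMap A A _ _ (RingHom.id A) B A _ _ φ.toAlgebra.toModule _)
    (hr : r 1 = 1) {m : ℤ} (P : DRing.Cx A)
    (h : DerCA.IsRelPseudoCoherent R A m ((DRing.restrictD φ).obj (DRing.toD ((DBaseChange.extCx φ).obj P)))) :
    DerCA.IsRelPseudoCoherent R A m (DRing.toD P) := by
  letI := φ.toAlgebra
  let F := ModuleCat.extendScalars.{u, u, u} φ ⋙ ModuleCat.restrictScalars.{u} φ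
  let η : 𝟭 (ModuleCat.{u} A) ⟶ F := (ModuleCat.extendRestrictScalarsAdj φ).unit
  let ρ : ∀ M : ModuleCat.{u} A, F.obj M ⟶ M := fun M => ModuleCat.ofHom (X := F.obj M) (Y := M)
    { toFun := fun z => TensorProduct.lid A M (r.rTensor M z)
      map_add' := fun z z' => by
        erw [map_add]
        exact map_add _ _ _
      map_smul' := fun a z => by
        have e : ((φ a) • (show TensorProduct A B M from z)) = a • (show TensorProduct A B M from z) :=
          algebraMap_smul B a (show TensorProduct A B M from z)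
        show TensorProduct.lid A M (r.rTensor M ((φ a) • (show TensorProduct A B M from z))) = _
        rw [e, map_smul, map_smul]
        rfl }
  have hnat : ∀ (M N : ModuleCat.{u} A) (f : M ⟶ N), F.map f ≫ ρ N = ρ M ≫ f := fun M N f => by
    refine ModuleCat.hom_ext (LinearMap.ext fun z => ?_)
    change TensorProduct.lid A N (r.rTensor N (f.hom.lTensor B (show TensorProduct A B M from z))) =
      f.hom (TensorProduct.lid A M (r.rTensor M (show TensorProduct A B M from z)))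
    induction (show TensorProduct A B M from z) using TensorProduct.induction_on with
    | zero => simp
    | tmul b x => simp
    | add x y hx hy => simp only [map_add, hx, hy]
  have hret : ∀ M : ModuleCat.{u} A, η.app M ≫ ρ M = 𝟙 M := fun M => by
    refine ModuleCat.hom_ext (LinearMap.ext fun x => ?_)
    change TensorProduct.lid A M (r.rTensor M ((1 : B) ⊗ₜ[A] x)) = x
    rw [LinearMap.rTensor_tmul, hr, TensorProduct.lid_tmul, one_smul]
  let P' := ((ModuleCat.restrictScalars.{u} φ).mapHomologicalComplex (ComplexShape.up ℤ)).obj ((DBaseChange.extCx φ).obj P)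
  let i : P ⟶ P' :=
    { f := fun k => η.app (P.X k)
      comm' := fun j k _ => (η.naturality (P.d j k)).symm }
  let p : P' ⟶ P :=
    { f := fun k => ρ (P.X k)
      comm' := fun j k _ => (hnat _ _ (P.d j k)).symm }
  have hip : i ≫ p = 𝟙 P := by ext k : 1; exact hret (P.X k)
  let e := (ModuleCat.restrictScalars.{u} φ).mapDerivedCategoryFactors.app ((DBaseChange.extCx φ).obj P)
  refine relPC_of_retract (DerivedCategory.Q.map i ≫ e.inv) (e.hom ≫ DerivedCategory.Q.map p) ?_ h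
  rw [Category.assoc, Iso.inv_hom_id_assoc, ← Functor.map_comp, hip]
  exact DerivedCategory.Q.map_id P

/-- Relative pseudo-coherence descends along finite locally free surjections of the source. -/
theorem rel_descend_finite {W U S : Scheme.{u}} (π : W ⟶ U) [IsFinite π] [Flat π] [LocallyOfFinitePresentation π]
    [Surjective π] [DCoh.HasLpull π] (q : U ⟶ S) [LocallyOfFiniteType q] {m : ℤ} {E : DCoh.D U}
    (hE : DCoh.IsQCohD E) (h : DerSch.IsPseudoCoherentRel (π ≫ q) m ((DCoh.Lpull π).obj E)) :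
    DerSch.IsPseudoCoherentRel q m E := by
  refine rel_iff.2 ⟨inferInstance, fun U₀ V hU hV hle => ?_⟩
  let W₀ := π ⁻¹ᵁ U₀
  have hW : IsAffineOpen W₀ := hU.preimage π
  have hle' : W₀ ≤ (π ≫ q) ⁻¹ᵁ V := fun z hz => hle hz
  let b : Γ(U, U₀) ⟶ Γ(W, W₀) := π.appLE U₀ W₀ le_rfl
  have hbf : b.hom.Finite := by
    have := π.finite_app U₀ hU
    simpa [b, W₀, Scheme.Hom.appLE] using this
  have hbp : b.hom.FinitePresentation := π.finitePresentation_appLE hU hW le_rfl
  have hsq : Spec.map b ≫ hU.fromSpec = hW.fromSpec ≫ π := hU.SpecMap_appLE_fromSpec π hW le_rfl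
  have hbl : b.hom.Flat := π.flat_appLE hU hW le_rfl
  have hbs : Function.Surjective (PrimeSpectrum.comap b.hom) := fun z => by
    obtain ⟨y, hy⟩ := π.surjective (hU.fromSpec z)
    have hyW : y ∈ (W₀ : Set W) := by
      show π y ∈ U₀
      rw [hy, ← SetLike.mem_coe, ← hU.range_fromSpec]
      exact ⟨z, rfl⟩
    rw [← hW.range_fromSpec] at hyW
    obtain ⟨w, hw⟩ := hyW
    refine ⟨w, hU.fromSpec.isOpenEmbedding.injective ?_⟩
    change hU.fromSpec (Spec.map b w) = hU.fromSpec z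
    rw [← Scheme.Hom.comp_apply, hsq, Scheme.Hom.comp_apply, hw, hy]
  obtain ⟨M, ⟨eM⟩⟩ := exists_sections hU E hE
  haveI := KFlat.Sch.hasLpull (Spec.map b)
  haveI := DQC.hasLBaseChange b.hom
  obtain ⟨ec⟩ := DQC.nonempty_chart_iso π hU.fromSpec hW.fromSpec (Spec.map b) hsq E
  let eM' : (DPerf.tildeDD Γ(W, W₀)).obj ((DRing.LBaseChange b.hom).obj M) ≅
      (DPerf.resD hW.fromSpec).obj ((DCoh.Lpull π).obj E) :=
    (KFlat.Sch.lpullTildeIso b).app M ≪≫ (DCoh.Lpull (Spec.map b)).mapIso eM ≪≫ ec.symm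
  have hg := (good_iff_rel (f := π ≫ q) hW hV hle' m _ _ eM').1 ((rel_iff.1 h).2 W₀ V hW hV hle')
  refine (good_iff_rel hU hV hle m E M eM).2 ?_
  letI := (q.appLE V U₀ hle).hom.toAlgebra
  letI := ((π ≫ q).appLE V W₀ hle').hom.toAlgebra
  letI := b.hom.toAlgebra
  haveI : IsScalarTower Γ(S, V) Γ(U, U₀) Γ(W, W₀) := IsScalarTower.of_algebraMap_eq fun r =>
    congrArg (fun t => t.hom r) (Scheme.Hom.appLE_comp_appLE π q V U₀ W₀ hle le_rfl).symm
  haveI : Algebra.FiniteType Γ(S, V) Γ(U, U₀) := q.finiteType_appLE hV hU hle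
  haveI : Module.Finite Γ(U, U₀) Γ(W, W₀) := hbf
  haveI : Algebra.FinitePresentation Γ(U, U₀) Γ(W, W₀) := hbp
  haveI : Module.Flat Γ(U, U₀) Γ(W, W₀) := hbl
  haveI : Module.FinitePresentation Γ(U, U₀) Γ(W, W₀) := Module.FinitePresentation.of_finite_of_finitePresentation _ _
  haveI : Module.Projective Γ(U, U₀) Γ(W, W₀) := Module.Flat.projective_of_finitePresentation
  obtain ⟨r, hr⟩ := exists_retraction (A := Γ(U, U₀)) (B := Γ(W, W₀)) hbs
  let G := (DerivedCategory.Q (C := ModuleCat.{u} Γ(U, U₀))).objPreimage M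
  let P := KFlat.resObj (KFlat.Module.cover (R := Γ(U, U₀))) G
  haveI := KFlat.quasiIso_resπ (KFlat.Module.cover (R := Γ(U, U₀))) G
  let eP : DRing.toD P ≅ M := asIso (DerivedCategory.Q.map (KFlat.resπ (KFlat.Module.cover (R := Γ(U, U₀))) G)) ≪≫
    (DerivedCategory.Q (C := ModuleCat.{u} Γ(U, U₀))).objObjPreimageIso M
  let e₁ : (DRing.LBaseChange b.hom).obj (DRing.toD P) ≅ DRing.toD ((DBaseChange.extCx b.hom).obj P) :=
    KFlat.derivedObjIso (KFlat.Module.cover (R := Γ(U, U₀))) (ModuleCat.extendScalars b.hom)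
      (fun C => KFlat.IsKFlat (KFlat.Module.TM Γ(U, U₀)) C) (fun C => KFlat.isKFlat_resObj _ C KFlat.Module.isFlat_cover)
      (fun g _ hK hK' => KFlat.Module.quasiIso_extendScalars_map b.hom g hK hK') P
      (KFlat.isKFlat_resObj _ G KFlat.Module.isFlat_cover)
  have h1 := (RelPC8.rel_iff_of_finite (R := Γ(S, V)) (A := Γ(U, U₀)) m _).1 hg
  obtain ⟨n, α, hα, hv⟩ := h1
  have h2 : DerCA.IsRelPseudoCoherent Γ(S, V) Γ(U, U₀) m
      ((DRing.restrictD b.hom).obj (DRing.toD ((DBaseChange.extCx b.hom).obj P))) :=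
    ⟨n, α, hα, DMod.pc_of_iso ((DRing.restrictD _).mapIso ((DRing.restrictD b.hom).mapIso
      ((DRing.LBaseChange b.hom).mapIso eP.symm ≪≫ e₁))) hv⟩
  obtain ⟨n', α', hα', hv'⟩ := relPC_of_ext b.hom r hr P h2
  exact ⟨n', α', hα', DMod.pc_of_iso ((DRing.restrictD _).mapIso eP) hv'⟩

theorem nonempty_lpull_iso_of_eq {X Y : Scheme.{u}} {f f' : X ⟶ Y} (w : f = f') [DCoh.HasLpull f]
    [DCoh.HasLpull f'] (E : DCoh.D Y) : Nonempty ((DCoh.Lpull f).obj E ≅ (DCoh.Lpull f').obj E) := by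
  subst w
  exact ⟨Iso.refl _⟩

/-- Relative pseudo-coherence and fppf coverings of the source. -/
theorem rel_iff_forall_lpull {X S : Scheme.{u}} (p : X ⟶ S) [LocallyOfFiniteType p] {ι : Type u}
    (Xi : ι → Scheme.{u}) (g : ∀ i, Xi i ⟶ X) [∀ i, Flat (g i)] [∀ i, LocallyOfFinitePresentation (g i)]
    (hcov : ∀ x : X, ∃ (i : ι) (y : Xi i), g i y = x) [∀ i, DCoh.HasLpull (g i)] (m : ℤ) (E : DCoh.D X)
    (hE : DCoh.IsQCohD E) :
    DerSch.IsPseudoCoherentRel p m E ↔ ∀ i, DerSch.IsPseudoCoherentRel (g i ≫ p) m ((DCoh.Lpull (g i)).obj E) := by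
  refine ⟨fun h i => rel_lpull (nPseudoCoherent_of_flat) h, fun h => ?_⟩
  let 𝒰 : PreZeroHypercover.{u} X := ⟨ι, Xi, g⟩
  refine rel_of_res_cover p fun x => ?_
  obtain ⟨U, W, π, hxU, ⟨hπf, hπfl, hπfp⟩, hπs, hW⟩ :=
    S7198.result 𝒰 (fun i => inferInstanceAs (Flat (g i))) (fun i => inferInstanceAs (LocallyOfFinitePresentation (g i)))
      (fun s => by obtain ⟨i, y, hy⟩ := hcov s; exact ⟨i, y, hy⟩) x
  haveI := KFlat.Sch.hasLpull π
  refine ⟨_, U.ι, inferInstance, ⟨⟨x, hxU⟩, rfl⟩, rel_descend_finite π (U.ι ≫ p) (DQC.isQCohD_resD U.ι hE) ?_⟩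
  refine rel_of_res_cover _ fun w => ?_
  obtain ⟨W', T, ρ, i, r, hw, ⟨hρf, hρfl, hρfp⟩, hρs, hr⟩ := hW w
  haveI := KFlat.Sch.hasLpull ρ
  refine ⟨_, W'.ι, inferInstance, ⟨⟨w, hw⟩, rfl⟩, rel_descend_finite ρ _ (DQC.isQCohD_resD W'.ι (DQC.isQCohD_lpull π (DQC.isQCohD_resD U.ι hE))) ?_⟩
  change r ≫ g i = ρ ≫ W'.ι ≫ π ≫ U.ι at hr
  haveI : Flat (r ≫ g i) := hr ▸ inferInstance
  haveI : LocallyOfFinitePresentation (r ≫ g i) := hr ▸ inferInstance
  haveI : LocallyOfFiniteType r := locallyOfFiniteType_of_comp r (g i)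
  haveI := KFlat.Sch.hasLpull r
  have hrpc : ∀ l : ℤ, DerSch.IsNPseudoCoherent r l := fun l =>
    (S7226.result r (g i) l _).1 (nPseudoCoherent_of_flat (f := r ≫ g i) l)
  have h' := rel_lpull hrpc (h i)
  rw [← Category.assoc, hr] at h'
  simp only [Category.assoc] at h'
  refine RelPCS8.rel_of_iso ?_ h'
  haveI := KFlat.Sch.hasLpull U.ι
  haveI := KFlat.Sch.hasLpull W'.ι
  haveI := KFlat.Sch.hasLpull (W'.ι ≫ π)
  haveI := KFlat.Sch.hasLpull (ρ ≫ W'.ι ≫ π)
  haveI := KFlat.Sch.hasLpull (r ≫ g i)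
  haveI := KFlat.Sch.hasLpull ((ρ ≫ W'.ι ≫ π) ≫ U.ι)
  refine (KFlat.Sch.lpullCompIso r (g i)).app E ≪≫ (nonempty_lpull_iso_of_eq (hr.trans (by simp)) E).some ≪≫
    ((KFlat.Sch.lpullCompIso (ρ ≫ W'.ι ≫ π) U.ι).app E).symm ≪≫
    ((KFlat.Sch.lpullCompIso ρ (W'.ι ≫ π)).app _).symm ≪≫
    (DCoh.Lpull ρ).mapIso (((KFlat.Sch.lpullCompIso W'.ι π).app _).symm ≪≫
      (DPerf.nonempty_lpull_iso_resD W'.ι _).some) ≪≫
    (DCoh.Lpull ρ).mapIso ((DPerf.resD W'.ι).mapIso ((DCoh.Lpull π).mapIso (DPerf.nonempty_lpull_iso_resD U.ι E).some))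

end Groth.Agent.RelPCS4
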