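import Groth.Agent.Lib.RelPCS4.SourceDescent
import Groth.Agent.Lib.AlgSpDescent.FppfComp
import Groth.Agent.Lib.DQC.Tensor
import Groth.Agent.Lib.DPush.QCoh

/-!
# Pseudo-coherent and perfect morphisms descend along fppf coverings of the source
-/

set_option autoImplicit false
set_option linter.style.haveILetI false
set_option backward.isDefEq.respectTransparency false

universe u

open CategoryTheory Limits AlgebraicGeometry TopologicalSpace TensorProduct

attribute [local instance] HasDerivedCategory.standard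

namespace Groth.Agent.RelPCS4

open RelPCS8

theorem pcMor_of_nPseudoCoherent {X Y : Scheme.{u}} (f : X ⟶ Y) [LocallyOfFiniteType f]
    (h : ∀ m : ℤ, DerSch.IsNPseudoCoherent f m) : PCMor4.pcMor f := by
  rw [PCMor4.pcMor, affineLocally_iff_forall_isAffineOpen]
  intro V hV U hU e
  obtain ⟨n, φ, hφ⟩ := exists_chart_of_lft (f := f) hU hV e
  haveI := isClosedImmersion_imm hU φ hφ.1
  exact ⟨n, φ, hφ.1, hφ.2, fun k => (test_unit_iff hU φ hφ.1 k).1
    ((good_unit_of_nPseudoCoherent h hU hV e (-(k : ℤ))).test hφ)⟩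

theorem locallyOfFiniteType_of_comp_cover {X X' S : Scheme.{u}} (f : X ⟶ S) (a : X' ⟶ X) [Flat a] [Surjective a]
    [LocallyOfFinitePresentation a] (h : PCMor4.pcMor (a ≫ f)) : LocallyOfFiniteType f := by
  haveI := PCMor4.locallyOfFinitePresentation_of_pcMor _ h
  exact AlgSpDescent.locallyOfFiniteType_of_fppf_comp a f ‹_› ‹_› ‹_› inferInstance

theorem pcMor_iff_comp {X X' S : Scheme.{u}} (f : X ⟶ S) (a : X' ⟶ X) [Flat a] [Surjective a]
    [LocallyOfFinitePresentation a] : PCMor4.pcMor f ↔ PCMor4.pcMor (a ≫ f) := by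
  refine ⟨fun h => PCMor4.pcMor_comp a f (fun U W => (PCMor4.pfMor_of_flat a U W).1) h, fun h => ?_⟩
  haveI := locallyOfFiniteType_of_comp_cover f a h
  refine pcMor_of_nPseudoCoherent f fun m => ?_
  haveI := KFlat.Sch.hasLpull a
  refine RelPCS8.rel_of_iso (singleToInD _).symm ?_
  refine (rel_iff_forall_lpull f (fun _ : PUnit.{u + 1} => X') (fun _ => a)
    (fun x => by obtain ⟨y, hy⟩ := a.surjective x; exact ⟨PUnit.unit, y, hy⟩) m
    (DCoh.inD X (Coh.structureModule X)) (DQC.isQCohD_of_iso (singleToInD _) (DQC.isQCohD_toD fun i => ?_))).2 fun _ => ?_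
  · by_cases hi : i = 0
    · subst hi
      exact @M1.isQuasicoherent_of_iso _ _ _ (HomologicalComplex.singleObjXSelf (ComplexShape.up ℤ) 0 _).symm
        (M1.isQCoh_structureModule X)
    · exact DPush.isQCoh_of_isZero (HomologicalComplex.isZero_single_obj_X _ _ _ _ hi)
  obtain ⟨e⟩ := nonempty_lpull_unit a
  exact RelPCS8.rel_of_iso (singleToInD _ ≪≫ e.symm) (nPseudoCoherent_of_pcMor (f := a ≫ f) h m)

/-- Tor dimension descends along a faithfully flat algebra over the algebra. -/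
theorem td_of_faithfullyFlat_over {A B : Type u} [CommRing A] [CommRing B] [Algebra A B] (C : Type u) [AddCommGroup C]
    [Module A C] [Module B C] [IsScalarTower A B C] [Module.FaithfullyFlat B C] {d : ℕ}
    (h : DRing.HasTorDimLE A d C) : DRing.HasTorDimLE A d B := by
  rw [PCMor4.td_iff] at h ⊢
  intro N p hp
  obtain ⟨i, rfl⟩ : ∃ i, p = i + 1 := ⟨p - 1, by omega⟩
  let Pr := ProjectiveResolution.of N
  have hC := (FlatSyz.isZero_tor_succ_iff Pr i).1 (h N (i + 1) hp)
  refine (FlatSyz.isZero_tor_succ_iff Pr i).2 ?_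
  let ι := (LinearMap.range (FlatSyz.dLin Pr i)).subtype
  refine (Module.FaithfullyFlat.lTensor_injective_iff_injective B C (ι.baseChange B)).1 fun x y hxy => ?_
  apply (AlgebraTensorModule.cancelBaseChange A B B C _).injective
  apply hC
  have := congrArg (AlgebraTensorModule.cancelBaseChange A B B C _) hxy
  rwa [PCMor4.cancelBaseChange_natural, PCMor4.cancelBaseChange_natural] at this

theorem pfMor_iff_comp {X X' S : Scheme.{u}} (f : X ⟶ S) (a : X' ⟶ X) [Flat a] [Surjective a]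
    [LocallyOfFinitePresentation a] : PCMor4.pfMor f ↔ PCMor4.pfMor (a ≫ f) := by
  refine ⟨fun h => PCMor4.pfMor_comp a f (PCMor4.pfMor_of_flat a) h, fun h => ?_⟩
  rw [PCMor4.pfMor, affineLocally_iff_forall_isAffineOpen] at h
  have hpc : PCMor4.pcMor (a ≫ f) := by
    rw [PCMor4.pcMor, affineLocally_iff_forall_isAffineOpen]
    exact fun {U} hU {W} hW e => (h hU hW e).1
  have hf := (pcMor_iff_comp f a).2 hpc
  rw [PCMor4.pcMor, affineLocally_iff_forall_isAffineOpen] at hf
  refine PCMor4.pfMor_of_forall_exists f fun x => ?_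
  obtain ⟨V, hV, hxV, -⟩ := exists_isAffineOpen_mem_and_subset (X := S) (x := f x) (U := ⊤) trivial
  obtain ⟨U, hU, hxU, hUV⟩ := exists_isAffineOpen_mem_and_subset (X := X) (x := x) (U := f ⁻¹ᵁ V) hxV
  obtain ⟨y, rfl⟩ := a.surjective x
  obtain ⟨W, hW, hyW, hWU⟩ := exists_isAffineOpen_mem_and_subset (X := X') (x := y) (U := a ⁻¹ᵁ U) hxU
  obtain ⟨b, hbI, hb⟩ := hU.exists_basicOpen_le (V := ⟨a '' (W : Set X'), a.isOpenMap _ W.2⟩) ⟨a y, y, hyW, rfl⟩ hxU
  let W' := X'.basicOpen ((a.appLE U W hWU).hom b)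
  have hW' : IsAffineOpen W' := hW.basicOpen _
  have hWW : W' = W ⊓ a ⁻¹ᵁ (X.basicOpen b) := by
    simp only [W', Scheme.Hom.appLE, CommRingCat.hom_comp, RingHom.comp_apply]
    rw [Scheme.basicOpen_res, Scheme.preimage_basicOpen]
  have hle : W' ≤ a ⁻¹ᵁ (X.basicOpen b) := hWW.le.trans inf_le_right
  have hU' : IsAffineOpen (X.basicOpen b) := hU.basicOpen b
  have hUV' : X.basicOpen b ≤ f ⁻¹ᵁ V := (X.basicOpen_le b).trans hUV
  refine ⟨X.basicOpen b, V, hUV', hU', hV, hb, hf hV hU' hUV', ?_⟩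
  obtain ⟨d, hd⟩ := (h hV hW' (hle.trans fun z hz => hUV' hz)).2
  letI := (f.appLE V (X.basicOpen b) hUV').hom.toAlgebra
  letI := (a.appLE (X.basicOpen b) W' hle).hom.toAlgebra
  letI := ((a ≫ f).appLE V W' (hle.trans fun z hz => hUV' hz)).hom.toAlgebra
  haveI : IsScalarTower Γ(S, V) Γ(X, X.basicOpen b) Γ(X', W') := IsScalarTower.of_algebraMap_eq fun r =>
    congrArg (fun t => t.hom r) (Scheme.Hom.appLE_comp_appLE a f V (X.basicOpen b) W' hUV' hle).symm
  haveI : Module.Flat Γ(X, X.basicOpen b) Γ(X', W') := a.flat_appLE hU' hW' hle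
  haveI : Module.FaithfullyFlat Γ(X, X.basicOpen b) Γ(X', W') := Module.FaithfullyFlat.of_comap_surjective fun z => by
    have hz : hU'.fromSpec z ∈ X.basicOpen b := by rw [← SetLike.mem_coe, ← hU'.range_fromSpec]; exact ⟨z, rfl⟩
    obtain ⟨w, hw, hwz⟩ := hbI hz
    have hw' : w ∈ W' := by
      rw [hWW]
      exact ⟨hw, show a w ∈ X.basicOpen b by rw [hwz]; exact hz⟩
    refine ⟨hW'.primeIdealOf ⟨w, hw'⟩, ?_⟩
    refine (IsAffineOpen.comap_primeIdealOf_appLE (f := a) (X.basicOpen b) hU' W' hW' hle (x := w) hw').trans ?_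
    apply hU'.fromSpec.isOpenEmbedding.injective
    rw [hU'.fromSpec_primeIdealOf]
    exact hwz
  exact ⟨d, td_of_faithfullyFlat_over Γ(X', W') hd⟩

end Groth.Agent.RelPCS4
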