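import Groth.Agent.Lib.RelPCS8.Chart
import Groth.Agent.Lib.RelPCS8.Module
import Groth.Agent.Lib.TensorNat17.Basic
import Groth.Agent.Lib.RHom.ProjClosed
import Groth.Agent.Lib.KFlat.LpullPC
import Groth.Agent.Lib.RelPCS4.PushFlat

/-!
# Relative pseudo-coherence of a tensor product with a pseudo-coherent module
-/

set_option autoImplicit false
set_option linter.style.haveILetI false
set_option linter.unusedSectionVars false
set_option backward.isDefEq.respectTransparency false

universe u

open CategoryTheory Limits CategoryTheory.Pretriangulated AlgebraicGeometry Opposite TopologicalSpace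

attribute [local instance] HasDerivedCategory.standard

namespace Groth.Agent.RelPCS4

open KFlat KFlat.Sch

variable {X : Scheme.{u}}

/-- `- ⊗ N`, functorial in `N`. -/
noncomputable abbrev rten (N : X.Modules) : X.Modules ⥤ X.Modules := (TX X).flip.obj N

instance additive_rten (N : X.Modules) : (rten N).Additive :=
  Functor.additive_of_iso (KFlat.Sch.tensorRightModIso N).symm

/-- `R ⊗ N`, termwise. -/
noncomputable abbrev rtenX (N : X.Modules) : CochainComplex X.Modules ℤ ⥤ CochainComplex X.Modules ℤ :=
  (rten N).mapHomologicalComplex (ComplexShape.up ℤ)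

theorem shortExact_rtenX (R : CochainComplex X.Modules ℤ) (hR : ∀ n, IsFlat (TX X) (R.X n))
    (S : ShortComplex X.Modules) (hS : S.ShortExact) :
    ∃ w, (ShortComplex.mk ((NatTrans.mapHomologicalComplex ((TX X).flip.map S.f) (ComplexShape.up ℤ)).app R)
      ((NatTrans.mapHomologicalComplex ((TX X).flip.map S.g) (ComplexShape.up ℤ)).app R) w).ShortExact := by
  have w : (NatTrans.mapHomologicalComplex ((TX X).flip.map S.f) (ComplexShape.up ℤ)).app R ≫
      (NatTrans.mapHomologicalComplex ((TX X).flip.map S.g) (ComplexShape.up ℤ)).app R = 0 := by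
    ext1 n
    change ((TX X).obj (R.X n)).map S.f ≫ ((TX X).obj (R.X n)).map S.g = 0
    rw [← Functor.map_comp, S.zero, Functor.map_zero]
  refine ⟨w, HomologicalComplex.shortExact_of_degreewise_shortExact _ fun n => ?_⟩
  haveI := (hR n).left
  haveI := hS.mono_f
  haveI := hS.epi_g
  haveI : PreservesFiniteColimits ((TX X).obj (R.X n)) :=
    PreservesColimitsOfSize.preservesFiniteColimits _
  exact { exact := hS.exact.map_of_epi_of_preservesCokernel ((TX X).obj (R.X n)) hS.epi_g inferInstance
          mono_f := inferInstanceAs (Mono (((TX X).obj (R.X n)).map S.f))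
          epi_g := inferInstanceAs (Epi (((TX X).obj (R.X n)).map S.g)) }

theorem exists_triangle_rten (R : CochainComplex X.Modules ℤ) (hR : ∀ n, IsFlat (TX X) (R.X n))
    (S : ShortComplex X.Modules) (hS : S.ShortExact) :
    ∃ T : Triangle (DCoh.D X), T ∈ distTriang (DCoh.D X) ∧
      T.obj₁ = DCoh.toD X ((rtenX S.X₁).obj R) ∧ T.obj₂ = DCoh.toD X ((rtenX S.X₂).obj R) ∧
      T.obj₃ = DCoh.toD X ((rtenX S.X₃).obj R) := by
  obtain ⟨w, h⟩ := shortExact_rtenX R hR S hS
  exact ⟨DerivedCategory.triangleOfSES h, DerivedCategory.triangleOfSES_distinguished h, rfl, rfl, rfl⟩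

theorem exactAt_rten (N : X.Modules) (R : CochainComplex X.Modules ℤ) (hR : IsAdapted R) (b : ℤ) [R.IsLE b]
    (i : ℤ) (hi : b < i) : ((rtenX N).obj R).ExactAt i := by
  let F := (DCoh.tensorRightMod N).mapHomologicalComplex (ComplexShape.up ℤ)
  refine HomologicalComplex.ExactAt.of_iso ?_
    ((NatIso.mapHomologicalComplex (tensorRightModIso N).symm (ComplexShape.up ℤ)).app R)
  have := quasiIso_resπ (cover X) (R.truncLE b)
  have := resObj_isStrictlyLE (cover X) (R.truncLE b) b
  have := quasiIso_tensorRightMod_map N (resπ (cover X) (R.truncLE b) ≫ R.ιTruncLE b) (isAdapted_resObj _) hR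
  rw [← exactAt_iff_of_quasiIsoAt (F.map (resπ (cover X) (R.truncLE b) ≫ R.ιTruncLE b)) i,
    HomologicalComplex.exactAt_iff]
  exact ShortComplex.exact_of_isZero_X₂ _
    ((DCoh.tensorRightMod N).map_isZero ((resObj (cover X) (R.truncLE b)).isZero_of_isStrictlyLE b i hi))

/-- `- ⊗ O` is the identity. -/
noncomputable def rtenUnit (X : Scheme.{u}) : rten (Coh.structureModule X) ≅ 𝟭 X.Modules :=
  NatIso.ofComponents (F := rten (Coh.structureModule X)) (G := 𝟭 X.Modules) (fun M => M2.tensorRUnit M)
    (fun {M M'} g =>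
      (congrArg (fun t => CategoryStruct.comp (obj := X.Modules) t (M2.tensorRUnit M').hom)
        (RHom.map_eq_tensorMap_left g (Coh.structureModule X))).trans (M2.tensorRUnit_natural g))

/-- `R ⊗ O = R`. -/
noncomputable def rtenUnitX (R : CochainComplex X.Modules ℤ) : (rtenX (Coh.structureModule X)).obj R ≅ R :=
  HomologicalComplex.Hom.isoOfComponents (fun n => (rtenUnit X).app (R.X n))
    (fun p q _ => ((rtenUnit X).hom.naturality (R.d p q)).symm)

/-- The two sides of the tensor product. -/
noncomputable def rtenComm (N : X.Modules) : (TX X).obj N ≅ rten N :=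
  NatIso.ofComponents (fun M => M2.tensorComm N M) fun {M M'} g => by
    refine (congrArg (· ≫ (M2.tensorComm N M').hom) (RHom.map_eq_tensorMap_right _ _)).trans ?_
    exact (M2.tensorComm_natural _ _).trans (congrArg (_ ≫ ·) (RHom.map_eq_tensorMap_left _ _).symm)

variable {T : Scheme.{u}} (i : X ⟶ T) [IsClosedImmersion i] {R : CochainComplex X.Modules ℤ} (m : ℤ)

/-- The push of `R ⊗ N` has the wanted approximations. -/
def PushTen (R : CochainComplex X.Modules ℤ) (N : X.Modules) (m : ℤ) : Prop :=
  DPerf.Approx (Set.Ici m) ((RelPCS8.pushD i).obj (DCoh.toD X ((rtenX N).obj R)))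

theorem pushTen_freeMod (hRA : IsAdapted R)
    (hm : DPerf.Approx (Set.Ici m) ((RelPCS8.pushD i).obj (DCoh.toD X R))) :
    ∀ r, PushTen i R (FlatMod.freeMod X r) m
  | 0 => by
      refine DPerf.approx_of_isZero_HD fun k _ => (RelPCS8.isZero_HD_push_iff i _ k).2
        ((isZero_HD_toD_iff _ k).2 ?_)
      rw [HomologicalComplex.exactAt_iff]
      exact ShortComplex.exact_of_isZero_X₂ _ (((TX X).obj (R.X k)).map_isZero (DPerf.isZero_freeMod_zero X))
  | r + 1 => by
      let e := RelPCS8.freeModSuccIso X r
      let S : ShortComplex X.Modules := ShortComplex.mk (biprod.inl ≫ e.inv : Coh.structureModule X ⟶ _)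
        (e.hom ≫ biprod.snd : FlatMod.freeMod X (r + 1) ⟶ FlatMod.freeMod X r) (by simp)
      have hS : S.ShortExact := ShortComplex.shortExact_of_iso
        (ShortComplex.isoMk (Iso.refl _) e.symm (Iso.refl _) (by simp [S]) (by simp [S]) :
          ShortComplex.mk (biprod.inl : Coh.structureModule X ⟶ _ ⊞ FlatMod.freeMod X r) biprod.snd biprod.inl_snd ≅ S)
        (ShortComplex.Splitting.ofHasBinaryBiproduct _ _).shortExact
      obtain ⟨T, hT, e₁, e₂, e₃⟩ := exists_triangle_rten R hRA.2.2 S hS
      have h := DPerf.approx_Ici₂ m _ ((RelPCS8.pushD i).map_distinguished T hT)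
        (by
          change DPerf.Approx _ ((RelPCS8.pushD i).obj T.obj₁)
          rw [e₁]
          exact hm.of_iso ((RelPCS8.pushD i).mapIso (DerivedCategory.Q.mapIso (rtenUnitX R).symm)))
        (by
          change DPerf.Approx _ ((RelPCS8.pushD i).obj T.obj₃)
          rw [e₃]
          exact pushTen_freeMod hRA hm r)
      change DPerf.Approx _ ((RelPCS8.pushD i).obj T.obj₂) at h
      rw [e₂] at h
      exact h

section Spec

variable {A : CommRingCat.{u}} {T : Scheme.{u}} (i : Spec A ⟶ T) [IsClosedImmersion i]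

/-- Tensoring with pseudo-coherent quasi-coherent modules keeps the pushed approximations. -/
theorem pushTen_of_pc {R : CochainComplex (Spec A).Modules ℤ} (hRA : IsAdapted R) (b : ℤ) [R.IsLE b] :
    ∀ (k : ℕ) (m : ℤ), b < m + k →
      DPerf.Approx (Set.Ici m) ((RelPCS8.pushD i).obj (DCoh.toD _ R)) →
      ∀ N : (Spec A).Modules, Coh.IsQCoh N → DPerf.Approx (Set.Ici (m - b)) (DCoh.inD _ N) →
        PushTen i R N m
  | 0, m, hk, _, N, _, _ => DPerf.approx_of_isZero_HD fun j hj => (RelPCS8.isZero_HD_push_iff i _ j).2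
      ((isZero_HD_toD_iff _ j).2 (exactAt_rten N R hRA b j (by omega)))
  | k + 1, m, hk, hm, N, hN, hpc => by
      by_cases hmb : b < m
      · exact DPerf.approx_of_isZero_HD fun j hj => (RelPCS8.isZero_HD_push_iff i _ j).2
          ((isZero_HD_toD_iff _ j).2 (exactAt_rten N R hRA b j (lt_of_lt_of_le hmb hj)))
      have hFT : CohB1.IsFT N := M1.isFT_of_isIso (DPerf.hdInDIso N) (DPerf.finiteType_top
        (DPerf.isPseudoCoherentD_of_approx (hpc.mono_set (Set.Ici_subset_Ici.2 (by omega : m - b ≤ 0)))) fun j hj => DPerf.isZero_HD_inD N (by omega))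
      obtain ⟨J, _, p, _⟩ := M1.exists_epi_fr_spec N hN hFT
      obtain ⟨e⟩ := M1.nonempty_fr_freeMod (Spec A) J
      let S : ShortComplex (Spec A).Modules := ShortComplex.mk (kernel.ι (e.inv ≫ p)) (e.inv ≫ p) (kernel.condition _)
      have hS : S.ShortExact :=
        { exact := ShortComplex.exact_kernel _, mono_f := inferInstance
          epi_g := inferInstanceAs (Epi (e.inv ≫ p)) }
      have hF : ∀ r, FlatMod.IsFinLocFree (FlatMod.freeMod (Spec A) r) := fun r => KFlat.Sch.isFinLocFree_freeMod _ r
      have hK : DPerf.Approx (Set.Ici (m + 1 - b)) (DCoh.inD _ S.X₁) := by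
        have := DPerf.approx_Ici₁ (m - b) _ hS.singleTriangle_distinguished
          (((DPerf.approx_inD_of_isFinLocFree (hF _)).mono_set (Set.subset_univ _))) hpc
        rwa [show m - b + 1 = m + 1 - b by ring] at this
      obtain ⟨T, hT, e₁, e₂, e₃⟩ := exists_triangle_rten R hRA.2.2 S hS
      have h := DPerf.approx_Ici₃ m _ ((RelPCS8.pushD i).map_distinguished T hT)
        (by
          change DPerf.Approx _ ((RelPCS8.pushD i).obj T.obj₁)
          rw [e₁]
          exact pushTen_of_pc hRA b k (m + 1) (by omega) (hm.mono_set (Set.Ici_subset_Ici.2 (by omega))) _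
            (M1.isQCoh_kernel (M2.isQCoh_of_isFinLocFree (hF _)) hN _) hK)
        (by
          change DPerf.Approx _ ((RelPCS8.pushD i).obj T.obj₂)
          rw [e₂]
          exact pushTen_freeMod i m hRA hm _)
      change DPerf.Approx _ ((RelPCS8.pushD i).obj T.obj₃) at h
      rw [e₃] at h
      exact h

end Spec

section Projection

variable {W Q : Scheme.{u}} (j : W ⟶ Q) [IsClosedImmersion j]

/-- `j_* j^* ≅ j_* O ⊗ -`. -/
noncomputable def pushPullTen :
    Scheme.Modules.pullback j ⋙ Scheme.Modules.pushforward j ≅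
      (TX Q).obj ((Scheme.Modules.pushforward j).obj (Coh.structureModule W)) :=
  NatIso.ofComponents
    (fun A => (Scheme.Modules.pushforward j).mapIso (M2.tensorLUnit ((Scheme.Modules.pullback j).obj A)).symm ≪≫
      RHom.pushProjIso j (Coh.structureModule W) A)
    fun {A A'} g => by
      let Pu := Scheme.Modules.pushforward j
      let O := Coh.structureModule W
      have h1 : (Scheme.Modules.pullback j).map g ≫ (M2.tensorLUnit _).inv =
          (M2.tensorLUnit _).inv ≫ M2.tensorMap (𝟙 O) ((Scheme.Modules.pullback j).map g) := by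
        rw [Iso.comp_inv_eq, Category.assoc, Iso.eq_inv_comp]
        exact (M2.tensorLUnit_natural _).symm
      have h2 := (RHom.natural_pushProjIso j).right O g
      change Pu.map ((Scheme.Modules.pullback j).map g) ≫ Pu.map (M2.tensorLUnit _).inv ≫ (RHom.pushProjIso j O A').hom =
        (Pu.map (M2.tensorLUnit _).inv ≫ (RHom.pushProjIso j O A).hom) ≫ ((TX Q).obj (Pu.obj O)).map g
      refine (Category.assoc _ _ _).symm.trans ?_
      refine (congrArg (· ≫ (RHom.pushProjIso j O A').hom) (((Pu.map_comp _ _).symm.trans (congrArg Pu.map h1)).trans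
        (Pu.map_comp _ _))).trans ?_
      refine (Category.assoc _ _ _).trans (Eq.trans ?_ (Category.assoc _ _ _).symm)
      exact congrArg (Pu.map (M2.tensorLUnit ((Scheme.Modules.pullback j).obj A)).inv ≫ ·)
        ((congrArg (fun t => Pu.map t ≫ (RHom.pushProjIso j O A').hom) (RHom.map_eq_tensorMap_right _ _).symm).trans h2)

/-- The push of a derived restriction to a closed subscheme. -/
theorem nonempty_push_lpull_iso [DCoh.HasLpull j] (R : CochainComplex Q.Modules ℤ) (hR : IsAdapted R) :
    Nonempty ((RelPCS8.pushD j).obj ((DCoh.Lpull j).obj (DCoh.toD Q R)) ≅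
      DCoh.toD Q ((rtenX ((Scheme.Modules.pushforward j).obj (Coh.structureModule W))).obj R)) :=
  ⟨(RelPCS8.pushD j).mapIso (lpullObjIso j R hR) ≪≫ (RelPCS8.pushFac j).app _ ≪≫
    DerivedCategory.Q.mapIso
      ((NatIso.mapHomologicalComplex (pushPullTen j ≪≫ rtenComm _) (ComplexShape.up ℤ)).app R)⟩

end Projection

end Groth.Agent.RelPCS4
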