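import Groth.Prelude.Def_MoreMor
import Groth.Agent.Lib.FormalH7.Nbhd
import Groth.Agent.Lib.RelPCS4.TensorPC
import Groth.Agent.Lib.RegImm26.Noeth
import Groth.Agent.Lib.CohMop.ClosedCounit
import Groth.Agent.Lib.Cyc26.Stalk
import Groth.Agent.Lib.KCoh4.Loc
import Groth.Agent.Lib.RHom.ProjClosed
import Groth.Agent.Lib.KFlat.Scheme

/-!
# Modules and complexes along a finite order thickening
-/

set_option autoImplicit false
set_option linter.style.haveILetI false
set_option backward.isDefEq.respectTransparency false

universe u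

open CategoryTheory Limits AlgebraicGeometry TopologicalSpace

attribute [local instance] HasDerivedCategory.standard

namespace Groth.Agent.RelPCS4.Thick

variable {X X' : Scheme.{u}}

/-- The kernels of the stalk maps are nilpotent of order `n`. -/
def Nil (i : X ⟶ X') (n : ℕ) : Prop := ∀ y : X, RingHom.ker (i.stalkMap y).hom ^ n = ⊥

/-- A closed surjective immersion with nilpotent stalk kernels. -/
structure IsThick (i : X ⟶ X') (n : ℕ) : Prop where
  closed : IsClosedImmersion i
  surj : Function.Surjective i
  nil : Nil i n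

theorem exists_isThick (i : X ⟶ X') (hi : MoreMor.IsFiniteOrderThickening i) : ∃ n, IsThick i n := by
  obtain ⟨⟨hc, hs⟩, n, hn⟩ := hi
  haveI := hc
  refine ⟨n, hc, hs.1, fun y => ?_⟩
  obtain ⟨U, hU, hyU, -⟩ := exists_isAffineOpen_mem_and_subset (x := i y) (U := ⊤) trivial
  have h : i.ker.ideal ⟨U, hU⟩ ^ n = ⊥ := by
    have := congrFun (congrArg Scheme.IdealSheafData.ideal hn) ⟨U, hU⟩
    rw [Scheme.IdealSheafData.ideal_pow, Pi.pow_apply] at this
    exact this.trans rfl
  rw [RegImm26.ker_stalkMap_eq i y hU hyU, ← Ideal.map_pow, ← Scheme.Hom.ker_apply i ⟨U, hU⟩, h, Ideal.map_bot]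

theorem ker_pow_eq_bot {A B : Type u} [CommRing A] [CommRing B] (f : A →+* B) (e : A →+* A)
    (n : ℕ) (h : RingHom.ker f ^ n = ⊥) (he : Function.Bijective e) : RingHom.ker (f.comp e) ^ n = ⊥ := by
  refine (Ideal.map_eq_bot_iff_of_injective he.1).1 ?_
  rw [Ideal.map_pow, show Ideal.map e (RingHom.ker (f.comp e)) = RingHom.ker f from ?_, h]
  rw [← RingHom.comap_ker, Ideal.map_comap_of_surjective e he.2]

/-- Thickenings restrict to opens of the target. -/
theorem isThick_of_isPullback {Z W : Scheme.{u}} {i : X ⟶ X'} {n : ℕ} (h : IsThick i n) {i' : W ⟶ Z}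
    {u' : W ⟶ X} {j : Z ⟶ X'} [IsOpenImmersion j] (H : IsPullback i' u' j i) : IsThick i' n := by
  haveI := h.closed
  haveI : IsClosedImmersion i' := MorphismProperty.of_isPullback (P := @IsClosedImmersion) H.flip h.closed
  haveI : IsOpenImmersion u' := MorphismProperty.of_isPullback (P := @IsOpenImmersion) H inferInstance
  haveI : Surjective i := ⟨h.surj⟩
  haveI : Surjective i' := MorphismProperty.of_isPullback (P := @Surjective) H.flip ‹_›
  refine ⟨inferInstance, Scheme.Hom.surjective i', fun w => ?_⟩
  let a := (j.stalkMap (i' w)).hom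
  have ha : Function.Bijective a := ConcreteCategory.bijective_of_isIso (j.stalkMap (i' w))
  let b := (u'.stalkMap w).hom
  have hb : Function.Bijective b := ConcreteCategory.bijective_of_isIso (u'.stalkMap w)
  have e : RingHom.ker ((i' ≫ j).stalkMap w).hom ^ n = ⊥ := by
    rw [Scheme.Hom.stalkMap_congr_hom (i' ≫ j) (u' ≫ i) H.w]
    refine (Ideal.map_eq_bot_iff_of_injective
      (ConcreteCategory.bijective_of_isIso
        (X'.presheaf.stalkCongr (Inseparable.of_eq (congrArg (fun t : W ⟶ X' => t w) H.w))).hom).1).1 ?_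
    rw [Ideal.map_pow, Scheme.Hom.stalkMap_comp, CommRingCat.hom_comp, CommRingCat.hom_comp]
    rw [← RingHom.comap_ker, Ideal.map_comap_of_surjective _
      (ConcreteCategory.bijective_of_isIso
        (X'.presheaf.stalkCongr (Inseparable.of_eq (congrArg (fun t : W ⟶ X' => t w) H.w))).hom).2,
      RingHom.ker_comp_of_injective _ hb.1]
    exact h.nil (u' w)
  rw [Scheme.Hom.stalkMap_comp, CommRingCat.hom_comp, ← RingHom.comap_ker] at e
  have e' := congrArg (Ideal.map a) e
  rwa [Ideal.map_pow, Ideal.map_bot, Ideal.map_comap_of_surjective a ha.2] at e'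

variable {i : X ⟶ X'} {n : ℕ}

/-- A module is killed by the `k`-th power of the ideal. -/
def Killed (i : X ⟶ X') (k : ℕ) (N : X'.Modules) : Prop :=
  ∀ y : X, RingHom.ker (i.stalkMap y).hom ^ k •
    (⊤ : Submodule (X'.presheaf.stalk (i y)) (N.presheaf.stalk (i y))) = ⊥

theorem isZero_of_killed_zero (h : IsThick i n) {N : X'.Modules} (hN : Killed i 0 N) : IsZero N := by
  refine KCoh4.isZero_of_stalks fun x => ?_
  obtain ⟨y, rfl⟩ := h.surj x
  have hy := hN y
  rw [pow_zero, Ideal.one_eq_top, Submodule.top_smul] at hy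
  exact (Submodule.subsingleton_iff (X'.presheaf.stalk (i y))).1 (subsingleton_iff_bot_eq_top.1 hy.symm)

theorem killed_of_isThick (h : IsThick i n) (N : X'.Modules) : Killed i n N := fun y => by
  rw [h.nil y, Submodule.bot_smul]

/-- A map whose pullback vanishes lands in `J` times the target. -/
theorem stalk_mem (h : IsThick i n) {F G : X'.Modules} (φ : F ⟶ G)
    (hφ : (Scheme.Modules.pullback i).map φ = 0) (y : X) (a : F.presheaf.stalk (i y)) :
    Cyc26.stalkLin φ (i y) a ∈ RingHom.ker (i.stalkMap y).hom •
      (⊤ : Submodule (X'.presheaf.stalk (i y)) (G.presheaf.stalk (i y))) :=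
  haveI := h.closed
  FormalH7.stalk_mem_ker_smul i φ hφ y (i.stalkMap_surjective y) a

/-- Nakayama along a thickening. -/
theorem isZero_of_pullback (h : IsThick i n) {C : X'.Modules}
    (hC : IsZero ((Scheme.Modules.pullback i).obj C)) : IsZero C := by
  refine isZero_of_killed_zero h fun y => ?_
  have hz : (Scheme.Modules.pullback i).map (𝟙 C) = 0 := hC.eq_of_src _ _
  have hle : (⊤ : Submodule (X'.presheaf.stalk (i y)) (C.presheaf.stalk (i y))) ≤
      RingHom.ker (i.stalkMap y).hom • ⊤ := fun a _ => by
    have h2 := stalk_mem h (𝟙 C) hz y a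
    rwa [show Cyc26.stalkLin (𝟙 C) (i y) a = a from
      congrArg (fun t => t a) ((M1.stalkAb (i y)).map_id C)] at h2
  have hpow : ∀ k : ℕ, (⊤ : Submodule (X'.presheaf.stalk (i y)) (C.presheaf.stalk (i y))) ≤
      RingHom.ker (i.stalkMap y).hom ^ k • ⊤ := fun k => by
    induction k with
    | zero => rw [pow_zero, Ideal.one_eq_top, Submodule.top_smul]
    | succ k ih =>
      rw [pow_succ, mul_smul]
      exact ih.trans (Submodule.smul_mono le_rfl hle)
  have := hpow n
  rw [h.nil y, Submodule.bot_smul] at this
  rw [pow_zero, Ideal.one_eq_top, Submodule.top_smul]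
  exact le_bot_iff.1 this

theorem epi_of_pullback (h : IsThick i n) {F G : X'.Modules} (φ : F ⟶ G)
    [Epi ((Scheme.Modules.pullback i).map φ)] : Epi φ := by
  haveI : PreservesColimitsOfSize.{0, 0} (Scheme.Modules.pullback i) :=
    (Scheme.Modules.pullbackPushforwardAdjunction i).leftAdjoint_preservesColimits
  have hz : IsZero ((Scheme.Modules.pullback i).obj (cokernel φ)) :=
    (isZero_cokernel_of_epi ((Scheme.Modules.pullback i).map φ)).of_iso
      (PreservesCokernel.iso (Scheme.Modules.pullback i) φ)
  exact Preadditive.epi_of_isZero_cokernel φ (isZero_of_pullback h hz)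

/-- The unit of the adjunction. -/
noncomputable abbrev η (i : X ⟶ X') (N : X'.Modules) :
    N ⟶ (Scheme.Modules.pushforward i).obj ((Scheme.Modules.pullback i).obj N) :=
  (Scheme.Modules.pullbackPushforwardAdjunction i).unit.app N

theorem isIso_pullback_unit (h : IsThick i n) (N : X'.Modules) :
    IsIso ((Scheme.Modules.pullback i).map (η i N)) := by
  haveI := h.closed
  let adj := Scheme.Modules.pullbackPushforwardAdjunction i
  haveI := CohMop.isIso_counit_closedImmersion i ((Scheme.Modules.pullback i).obj N)
  have e : (Scheme.Modules.pullback i).map (η i N) = inv (adj.counit.app _) :=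
    IsIso.eq_inv_of_inv_hom_id (adj.left_triangle_components N)
  rw [e]
  infer_instance

theorem epi_unit (h : IsThick i n) (N : X'.Modules) : Epi (η i N) :=
  haveI := isIso_pullback_unit h N
  epi_of_pullback h (η i N)

theorem pullback_kernel_unit (h : IsThick i n) (N : X'.Modules) :
    (Scheme.Modules.pullback i).map (kernel.ι (η i N)) = 0 := by
  haveI := isIso_pullback_unit h N
  haveI : PreservesColimitsOfSize.{0, 0} (Scheme.Modules.pullback i) :=
    (Scheme.Modules.pullbackPushforwardAdjunction i).leftAdjoint_preservesColimits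
  rw [← cancel_mono ((Scheme.Modules.pullback i).map (η i N)), ← Functor.map_comp, kernel.condition,
    Functor.map_zero, zero_comp]

theorem killed_kernel (h : IsThick i n) {k : ℕ} {N : X'.Modules} (hN : Killed i (k + 1) N) :
    Killed i k (kernel (η i N)) := fun y => by
  let φ := Cyc26.stalkLin (kernel.ι (η i N)) (i y)
  have hinj : Function.Injective φ := (M1.mono_iff_stalk _).1 inferInstance (i y)
  refine Submodule.map_injective_of_injective hinj ?_
  rw [Submodule.map_bot, Submodule.map_smul'', Submodule.map_top, eq_bot_iff, ← hN y, pow_succ, mul_smul]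
  refine Submodule.smul_mono le_rfl ?_
  rintro _ ⟨a, rfl⟩
  exact stalk_mem h _ (pullback_kernel_unit h N) y a

section Cx

open KFlat KFlat.Sch

/-- Termwise pullback. -/
noncomputable abbrev pbX (i : X ⟶ X'): CochainComplex X'.Modules ℤ ⥤ CochainComplex X.Modules ℤ :=
  (Scheme.Modules.pullback i).mapHomologicalComplex (ComplexShape.up ℤ)

/-- `push N ⊗ R = push (N ⊗ pullback R)`, termwise. -/
noncomputable def projX [IsClosedImmersion i] (N : X.Modules) (R : CochainComplex X'.Modules ℤ) :
    (rtenX ((Scheme.Modules.pushforward i).obj N)).obj R ≅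
      (RelPCS8.pushX i).obj ((rtenX N).obj
        ((pbX i).obj R)) := by
  let e : (TX X').obj ((Scheme.Modules.pushforward i).obj N) ≅
      Scheme.Modules.pullback i ⋙ (TX X).obj N ⋙ Scheme.Modules.pushforward i :=
    NatIso.ofComponents (fun P => (RHom.pushProjIso i N P).symm) fun {P P'} g => by
      have := (RHom.natural_pushProjIso i).right N g
      simp only [Functor.id_obj, Functor.id_map] at this
      exact (Iso.comp_inv_eq _).2 (by rw [Category.assoc]; exact (Iso.eq_inv_comp _).2 this.symm)
  let e' : rten ((Scheme.Modules.pushforward i).obj N) ≅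
      Scheme.Modules.pullback i ⋙ rten N ⋙ Scheme.Modules.pushforward i :=
    (rtenComm _).symm ≪≫ e ≪≫
      Functor.isoWhiskerLeft _ (Functor.isoWhiskerRight (rtenComm N) _)
  exact HomologicalComplex.Hom.isoOfComponents (fun d => e'.app (R.X d))
    fun p q _ => (e'.hom.naturality (R.d p q)).symm

theorem exactAt_rtenX_push [IsClosedImmersion i] (N : X.Modules) {R : CochainComplex X'.Modules ℤ}
    (hR : IsAdapted R) (b : ℤ)
    [CochainComplex.IsLE ((pbX i).obj R) b]
    (d : ℤ) (hd : b < d) : ((rtenX ((Scheme.Modules.pushforward i).obj N)).obj R).ExactAt d := by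
  haveI := RelPCS8.preservesHomology_push i
  refine HomologicalComplex.ExactAt.of_iso ?_ (projX N R).symm
  rw [HomologicalComplex.exactAt_iff]
  exact ((HomologicalComplex.exactAt_iff _ _).1
    (exactAt_rten N _ (isAdapted_pullback i hR) b d hd)).map (Scheme.Modules.pushforward i)

/-- If the pullback is acyclic above `b`, so is everything killed by a power of the ideal. -/
theorem exactAt_rtenX (h : IsThick i n) {R : CochainComplex X'.Modules ℤ} (hR : IsAdapted R) (b : ℤ)
    [CochainComplex.IsLE ((pbX i).obj R) b] :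
    ∀ (k : ℕ) (N : X'.Modules), Killed i k N → ∀ d, b < d → ((rtenX N).obj R).ExactAt d
  | 0, N, hN, d, _ => by
      rw [HomologicalComplex.exactAt_iff]
      exact ShortComplex.exact_of_isZero_X₂ _
        (((TX X').obj (R.X d)).map_isZero (isZero_of_killed_zero h hN))
  | k + 1, N, hN, d, hd => by
      haveI := h.closed
      haveI := epi_unit h N
      let S : ShortComplex X'.Modules := ShortComplex.mk (kernel.ι (η i N)) (η i N) (kernel.condition _)
      have hS : S.ShortExact :=
        { exact := ShortComplex.exact_of_f_is_kernel _ (kernelIsKernel _)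
          mono_f := inferInstanceAs (Mono (kernel.ι (η i N)))
          epi_g := inferInstanceAs (Epi (η i N)) }
      obtain ⟨w, hw⟩ := shortExact_rtenX R hR.2.2 S hS
      have h₁ := (exactAt_rtenX h hR b k _ (killed_kernel h hN) d hd).isZero_homology
      have h₃ := (exactAt_rtenX_push (i := i) ((Scheme.Modules.pullback i).obj N) hR b d hd).isZero_homology
      exact (HomologicalComplex.exactAt_iff_isZero_homology _ _).2
        ((hw.homology_exact₂ d).isZero_of_both_zeros (h₁.eq_of_src _ _) (h₃.eq_of_tgt _ _))

theorem isLE_of_pullback (h : IsThick i n) {R : CochainComplex X'.Modules ℤ} (hR : IsAdapted R) (b : ℤ)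
    [CochainComplex.IsLE ((pbX i).obj R) b] : R.IsLE b :=
  (CochainComplex.isLE_iff R b).2 fun d hd =>
    (exactAt_rtenX h hR b n _ (killed_of_isThick h (Coh.structureModule X')) d hd).of_iso (rtenUnitX R)

end Cx

end Groth.Agent.RelPCS4.Thick
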